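import Cfsg.Agent.OrthMax.Basic
import Cfsg.Agent.MaxSub.Subspace

/-!
# Stabilisers of totally singular subspaces in `Ω(Q)`

`isMaximalIn_singular`, and the wrapper `isMaximalIn_singular_fun` for forms given as functions.
-/

set_option autoImplicit false
set_option linter.unusedSectionVars false

namespace CfsgLib.OrthMax

open Matrix Module CfsgLib.Spinor CfsgLib.Forms CfsgLib.Forms4 Cfsg.Geo

variable {F : Type*} [Field F] {ι : Type} [Fintype ι] [DecidableEq ι] {Q : QuadraticForm F (ι → F)}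

set_option quotPrecheck false in
local notation "𝔅" => QuadraticMap.polar (⇑Q)

theorem mem_stab_of_le {W : Submodule F (ι → F)} {k : Isom Q}
    (h : ∀ x ∈ W, mat Q k *ᵥ x ∈ W) : (k : GL ι F) ∈ subspaceStabilizer W :=
  MaxSub.mem_subspaceStabilizer_of_le h

variable [Fintype F]

/-- Some Eichler element moves a nonzero totally singular subspace. -/
theorem exists_move_singular (hQ : (QuadraticMap.polarBilin Q).Nondegenerate)
    (hn : 5 ≤ Fintype.card ι) {W : Submodule F (ι → F)} (hW0 : W ≠ ⊥) (hW : ∀ x ∈ W, Q x = 0) :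
    ∃ g ∈ Cfsg.Omega F ⇑Q, (g : GL ι F) ∉ subspaceStabilizer W := by
  obtain ⟨w₀, hw₀, hw₀0⟩ := Submodule.exists_mem_ne_zero_of_ne_bot hW0
  obtain ⟨v, -, hv, hwv⟩ := exists_partner_in (K := ⊤) Submodule.mem_top (hW _ hw₀) (by
    by_contra! h
    exact hw₀0 (hQ.1 w₀ fun y => h y Submodule.mem_top))
  have hv0 : v ≠ 0 := fun h => by simp [h] at hwv
  obtain ⟨z, hz, hzn⟩ : ∃ z ∈ qperp Q (Submodule.span F {v}), z ∉ W ⊔ Submodule.span F {v} := by
    by_contra! h
    have h1 := Submodule.finrank_mono (h : qperp Q (Submodule.span F {v}) ≤ _)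
    have h2 := Submodule.finrank_sup_add_finrank_inf_eq W (Submodule.span F {v})
    rw [finrank_qperp hQ, finrank_span_singleton hv0] at h1
    rw [finrank_span_singleton hv0] at h2
    have h3 := two_finrank_le hQ hW
    omega
  rw [mem_qperp_singleton] at hz
  refine ⟨eichIso Q v z hv hz, eich_mem_omega hQ hn hv hz, fun hs => hzn ?_⟩
  have h := (MaxSub.mem_subspaceStabilizer_iff.1 hs w₀).1 hw₀
  change mat Q (eichIso Q v z hv hz) *ᵥ w₀ ∈ W at h
  rw [mat_eichIso, eich_mulVec, QuadraticMap.polar_comm (⇑Q) v w₀, hwv, one_smul, mul_one,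
    W.add_mem_iff_right hw₀] at h
  rw [show z = (z - 𝔅 z w₀ • v - Q z • v) + (𝔅 z w₀ + Q z) • v by module]
  exact Submodule.add_mem _ (Submodule.mem_sup_left h)
    (Submodule.mem_sup_right (Submodule.smul_mem _ _ (Submodule.mem_span_singleton_self v)))

/-- The stabiliser of a nonzero totally singular subspace is maximal in `Ω`, unless it is one short
of a totally singular subspace of half the dimension. -/
theorem isMaximalIn_singular (hQ : (QuadraticMap.polarBilin Q).Nondegenerate)
    (hn : 5 ≤ Fintype.card ι) {W : Submodule F (ι → F)} (hW0 : W ≠ ⊥) (hW : ∀ x ∈ W, Q x = 0)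
    (hex : ∀ U : Submodule F (ι → F), (∀ x ∈ U, Q x = 0) →
      2 * finrank F U = Fintype.card ι → 2 * (finrank F W + 1) ≠ Fintype.card ι) :
    IsMaximalIn (omegaGL ⇑Q) (subspaceStabilizer W ⊓ omegaGL ⇑Q) := by
  refine isMaximalIn_omega _ (exists_move_singular hQ hn hW0 hW) fun M hM g hgM _ hgS => ?_
  have hmemW : ∀ {u w : ι → F}, u ∈ W → 𝔅 u w = 0 → RootMem M u w := by
    intro u w hu huw
    refine RootMem.of_iso (hW _ hu) huw
      (hM _ (eich_mem_omega hQ hn (hW _ hu) huw) (mem_stab_of_le fun x hx => ?_))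
    rw [mat_eichIso, eich_mulVec, polar_eq_zero hW hu hx]
    simpa [sub_eq_add_neg] using W.sub_mem hx (W.smul_mem (𝔅 w x) hu)
  have hfW : ∀ u ∈ W, Full M u := fun u hu w hw => hmemW hu hw
  set g' := mat Q g with hg'
  -- some member of `g W` outside `W`
  obtain ⟨w₁, hw₁, hy₁⟩ : ∃ w₁ ∈ W, g' *ᵥ w₁ ∉ W := by
    by_contra! h
    exact hgS (mem_stab_of_le h)
  set y := g' *ᵥ w₁ with hy
  have hyq : Q y = 0 := by rw [hy, quad_mulVec, hW _ hw₁]
  have hfy : Full M y := (hfW _ hw₁).conj hgM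
  by_cases hyS : y ∈ qperp Q W
  swap
  · rw [mem_qperp] at hyS
    push Not at hyS
    obtain ⟨w, hw, hwy⟩ := hyS
    exact omega_le_of_full_pair hQ hn (hW _ hw) hyq hwy (hfW _ hw) hfy
  -- otherwise move `y` inside `W⊥`
  have hy0 : y ≠ 0 := fun h => hy₁ (by rw [h]; exact W.zero_mem)
  obtain ⟨u, huS, hu, hyu⟩ := exists_partner_in hyS hyq (by
    by_contra! h
    refine hy₁ ?_
    rw [← qperp_qperp hQ W, mem_qperp]
    exact fun x hx => by rw [QuadraticMap.polar_comm]; exact h x hx)
  have hu0 : u ≠ 0 := fun h => by simp [h] at hyu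
  obtain ⟨w, hw, hQw⟩ : ∃ w ∈ qperp Q W ⊓ qperp Q (Submodule.span F {y}) ⊓
      qperp Q (Submodule.span F {u}), Q w ≠ 0 := by
    by_contra! h
    set S' := qperp Q W ⊓ qperp Q (Submodule.span F {y}) ⊓ qperp Q (Submodule.span F {u})
      with hS'
    have hWy : ∀ x ∈ W ⊔ Submodule.span F {y}, Q x = 0 := by
      intro x hx
      obtain ⟨a, ha, b, hb, rfl⟩ := Submodule.mem_sup.1 hx
      obtain ⟨c, rfl⟩ := Submodule.mem_span_singleton.1 hb
      rw [QuadraticMap.map_add (⇑Q), hW _ ha, QuadraticMap.map_smul, hyq,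
        QuadraticMap.polar_smul_right, mem_qperp.1 hyS _ ha]
      simp
    have hWyd : finrank F (W ⊔ Submodule.span F {y} : Submodule F (ι → F)) = finrank F W + 1 := by
      have h2 := Submodule.finrank_sup_add_finrank_inf_eq W (Submodule.span F {y})
      rw [finrank_span_singleton hy0] at h2
      have : W ⊓ Submodule.span F {y} = ⊥ := by
        rw [Submodule.eq_bot_iff]
        rintro x ⟨hxW, hxy⟩
        obtain ⟨c, rfl⟩ := Submodule.mem_span_singleton.1 hxy
        by_contra hc
        exact hy₁ ((W.smul_mem_iff (left_ne_zero_of_smul hc)).1 hxW)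
      rw [this, finrank_bot] at h2
      omega
    have hS'y : ∀ x ∈ S' ⊔ Submodule.span F {y}, Q x = 0 := by
      intro x hx
      obtain ⟨a, ha, b, hb, rfl⟩ := Submodule.mem_sup.1 hx
      obtain ⟨c, rfl⟩ := Submodule.mem_span_singleton.1 hb
      rw [QuadraticMap.map_add (⇑Q), h a ha, QuadraticMap.map_smul, hyq,
        QuadraticMap.polar_smul_right, QuadraticMap.polar_comm (⇑Q) a y,
        mem_qperp_singleton.1 ha.1.2]
      simp
    have h1 := two_finrank_le hQ hWy
    have h2 := two_finrank_le hQ hS'y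
    have h3 := Submodule.finrank_sup_add_finrank_inf_eq S' (Submodule.span F {y})
    rw [finrank_span_singleton hy0] at h3
    have h4 : S' ⊓ Submodule.span F {y} = ⊥ := by
      rw [Submodule.eq_bot_iff]
      rintro x ⟨hxS, hxy⟩
      obtain ⟨c, rfl⟩ := Submodule.mem_span_singleton.1 hxy
      have := mem_qperp_singleton.1 hxS.2
      rw [QuadraticMap.polar_smul_right, QuadraticMap.polar_comm (⇑Q) u y, hyu, smul_eq_mul,
        mul_one] at this
      rw [this, zero_smul]
    rw [h4, finrank_bot] at h3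
    have h5 := Submodule.finrank_sup_add_finrank_inf_eq (qperp Q W)
      (qperp Q (Submodule.span F {y}))
    have h6 := Submodule.finrank_sup_add_finrank_inf_eq
      (qperp Q W ⊓ qperp Q (Submodule.span F {y})) (qperp Q (Submodule.span F {u}))
    have h7 := Submodule.finrank_le (qperp Q W ⊔ qperp Q (Submodule.span F {y}))
    have h8 := Submodule.finrank_le
      ((qperp Q W ⊓ qperp Q (Submodule.span F {y})) ⊔ qperp Q (Submodule.span F {u}))
    rw [finrank_qperp hQ, finrank_qperp hQ, finrank_span_singleton hy0] at h5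
    rw [finrank_qperp hQ (Submodule.span F {u}), finrank_span_singleton hu0] at h6
    rw [Module.finrank_pi] at h7 h8
    rw [hS'] at h2 h3
    exact hex _ hWy (by omega) (by omega)
  obtain ⟨⟨hwS, hwy⟩, hwu⟩ := hw
  rw [SetLike.mem_coe, mem_qperp_singleton] at hwy hwu
  have hk : eichIso Q u w hu hwu ∈ M := by
    refine hM _ (eich_mem_omega hQ hn hu hwu) (mem_stab_of_le fun x hx => ?_)
    rw [mat_eichIso, eich_mulVec, QuadraticMap.polar_comm (⇑Q) u x,
      QuadraticMap.polar_comm (⇑Q) w x, mem_qperp.1 huS _ hx, mem_qperp.1 hwS _ hx]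
    simpa using hx
  refine omega_le_of_full_pair hQ hn hyq (v := mat Q (eichIso Q u w hu hwu) *ᵥ y)
    (by rw [quad_mulVec, hyq]) ?_ hfy (hfy.conj hk)
  rw [mat_eichIso, eich_mulVec, QuadraticMap.polar_comm (⇑Q) u y, hyu,
    QuadraticMap.polar_comm (⇑Q) w y, hwy]
  simp only [one_smul, zero_smul, sub_zero, mul_one, QuadraticMap.polar_add_right,
    QuadraticMap.polar_sub_right, QuadraticMap.polar_smul_right, hwy, hyu, smul_eq_mul]
  rw [QuadraticMap.polar_self, hyq]
  simpa using hQw

/-- The same for a form given as a function. -/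
theorem isMaximalIn_singular_fun {Q : (ι → F) → F} (hQ : IsNondegenerateQuadraticForm Q)
    (hn : 5 ≤ Fintype.card ι) {W : Submodule F (ι → F)} (hW0 : W ≠ ⊥)
    (hW : IsTotallySingularQuad Q W)
    (hex : IsPlusTypeOn Q ⊤ → 2 * (finrank F W + 1) ≠ Fintype.card ι) :
    IsMaximalIn (omegaGL Q) (subspaceStabilizer W ⊓ omegaGL Q) :=
  isMaximalIn_singular (Q := AschbacherQuad.quadForm hQ)
    (AschbacherQuad.quadForm_nondegenerate hQ) hn hW0 hW fun U hU hd =>
      hex ⟨U, le_top, hU, by rw [finrank_top, Module.finrank_pi]; exact hd⟩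

end CfsgLib.OrthMax
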