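import Cfsg.Agent.AschbacherQuad.Basic
import Cfsg.Agent.Forms4.OmegaSimple
import Cfsg.Agent.OmegaOrbits.Basic

/-!
# Subgroups of `Ω(Q)` containing the Eichler elements at two non-orthogonal singular points

`RootMem M u w`: the Eichler element of `(u, w)` lies in `M`; `Full M u`: this holds for all `w ⊥ u`.
The main result is `omega_le_of_full_pair`; finite fields of any characteristic.
-/

set_option autoImplicit false
set_option linter.unusedSectionVars false

namespace CfsgLib.OrthMax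

open Matrix Module CfsgLib.Spinor CfsgLib.Forms CfsgLib.Forms4 Cfsg.Geo

variable {F : Type*} [Field F] {ι : Type} [Fintype ι] [DecidableEq ι] {Q : QuadraticForm F (ι → F)}

set_option quotPrecheck false in
local notation "𝔅" => QuadraticMap.polar (⇑Q)
/-- The isometry group as a type. -/
abbrev Isom (Q : QuadraticForm F (ι → F)) := ↥(Cfsg.isometryGroup F ⇑Q)

/-- The orthogonal complement for the polar form. -/
abbrev qperp (Q : QuadraticForm F (ι → F)) (W : Submodule F (ι → F)) : Submodule F (ι → F) :=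
  LinearMap.BilinForm.orthogonal (QuadraticMap.polarBilin Q) W

theorem mem_qperp {W : Submodule F (ι → F)} {x : ι → F} :
    x ∈ qperp Q W ↔ ∀ w ∈ W, 𝔅 w x = 0 := Iff.rfl

theorem mem_qperp_singleton {a x : ι → F} :
    x ∈ qperp Q (Submodule.span F {a}) ↔ 𝔅 a x = 0 := by
  rw [mem_qperp]
  refine ⟨fun h => h a (Submodule.mem_span_singleton_self a), fun h w hw => ?_⟩
  obtain ⟨c, rfl⟩ := Submodule.mem_span_singleton.1 hw
  rw [QuadraticMap.polar_smul_left, h, smul_zero]

theorem polarBilin_isRefl : (QuadraticMap.polarBilin Q).IsRefl := fun x y h => by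
  simpa [QuadraticMap.polar_comm] using h

theorem finrank_qperp (hQ : (QuadraticMap.polarBilin Q).Nondegenerate) (W : Submodule F (ι → F)) :
    finrank F (qperp Q W) = Fintype.card ι - finrank F W := by
  rw [qperp, LinearMap.BilinForm.finrank_orthogonal hQ W, Module.finrank_pi]

theorem qperp_qperp (hQ : (QuadraticMap.polarBilin Q).Nondegenerate) (W : Submodule F (ι → F)) :
    qperp Q (qperp Q W) = W :=
  LinearMap.BilinForm.orthogonal_orthogonal hQ polarBilin_isRefl W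

theorem isNondeg (hQ : (QuadraticMap.polarBilin Q).Nondegenerate) :
    IsNondegenerateQuadraticForm (⇑Q) where
  smul c v := by rw [QuadraticMap.map_smul, smul_eq_mul, sq]
  polar_bilinear :=
    ⟨fun _ _ _ => QuadraticMap.polar_add_left _ _ _ _,
      fun c x v => by rw [QuadraticMap.polar_smul_left, smul_eq_mul],
      fun _ _ _ => QuadraticMap.polar_add_right _ _ _ _,
      fun c v x => by rw [QuadraticMap.polar_smul_right, smul_eq_mul]⟩
  nondegenerate v hv := by
    obtain ⟨y, hy⟩ : ∃ y, 𝔅 v y ≠ 0 := by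
      by_contra! h
      exact hv (hQ.1 v h)
    exact ⟨⟨y, by rwa [QuadraticMap.polar_comm]⟩, ⟨y, hy⟩⟩

/-- Two-sided correspondence between a totally singular subspace and its vanishing polar form. -/
theorem polar_eq_zero {U : Submodule F (ι → F)} (hU : ∀ u ∈ U, Q u = 0) {u v : ι → F}
    (hu : u ∈ U) (hv : v ∈ U) : 𝔅 u v = 0 :=
  OmegaOrbits.polar_eq_zero_of_singular hU hu hv

theorem two_finrank_le (hQ : (QuadraticMap.polarBilin Q).Nondegenerate) {U : Submodule F (ι → F)}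
    (hU : ∀ u ∈ U, Q u = 0) : 2 * finrank F U ≤ Fintype.card ι := by
  have h : U ≤ qperp Q U := fun x hx => mem_qperp.2 fun w hw => polar_eq_zero hU hw hx
  have h1 := Submodule.finrank_mono h
  rw [finrank_qperp hQ] at h1
  omega

/-- A singular vector adjusted to one paired with `z`. -/
theorem quad_sub_smul {x z : ι → F} (hz : Q z = 0) (hxz : 𝔅 x z ≠ 0) :
    Q (x - (Q x / 𝔅 x z) • z) = 0 := by
  rw [sub_eq_add_neg, QuadraticMap.map_add (⇑Q), ← neg_smul, QuadraticMap.map_smul, hz,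
    QuadraticMap.polar_smul_right, smul_eq_mul, smul_eq_mul]
  field_simp
  ring

/-- Singular vectors of a subspace detect linear functionals. -/
theorem exists_singular_pairing {K : Submodule F (ι → F)} {z x₀ t b : ι → F}
    (hzK : z ∈ K) (hz : Q z = 0) (hx₀ : x₀ ∈ K) (hzx : 𝔅 x₀ z ≠ 0) (htK : t ∈ K)
    (ht : 𝔅 t b ≠ 0) : ∃ q ∈ K, Q q = 0 ∧ 𝔅 q b ≠ 0 := by
  by_cases hzb : 𝔅 z b = 0
  · obtain ⟨x, hxK, hxz, hxb⟩ : ∃ x ∈ K, 𝔅 x z ≠ 0 ∧ 𝔅 x b ≠ 0 := by
      by_cases h1 : 𝔅 t z = 0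
      · by_cases h2 : 𝔅 x₀ b = 0
        · exact ⟨t + x₀, K.add_mem htK hx₀, by rwa [QuadraticMap.polar_add_left, h1, zero_add],
            by rwa [QuadraticMap.polar_add_left, h2, add_zero]⟩
        · exact ⟨x₀, hx₀, hzx, h2⟩
      · exact ⟨t, htK, h1, ht⟩
    refine ⟨_, K.sub_mem hxK (K.smul_mem _ hzK), quad_sub_smul hz hxz, ?_⟩
    rwa [QuadraticMap.polar_sub_left, QuadraticMap.polar_smul_left, hzb, smul_zero, sub_zero]
  · exact ⟨z, hzK, hz, hzb⟩

/-- A singular partner inside a subspace. -/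
theorem exists_partner_in {K : Submodule F (ι → F)} {a : ι → F} (haK : a ∈ K) (ha : Q a = 0)
    (h : ∃ x ∈ K, 𝔅 a x ≠ 0) : ∃ b ∈ K, Q b = 0 ∧ 𝔅 a b = 1 := by
  obtain ⟨x, hxK, hx⟩ := h
  set p := (𝔅 a x)⁻¹ • x with hp
  have hap : 𝔅 a p = 1 := by
    rw [hp, QuadraticMap.polar_smul_right, smul_eq_mul, inv_mul_cancel₀ hx]
  have hpa : 𝔅 p a ≠ 0 := by rw [QuadraticMap.polar_comm, hap]; exact one_ne_zero
  refine ⟨_, K.sub_mem (K.smul_mem _ hxK) (K.smul_mem _ haK), quad_sub_smul ha hpa, ?_⟩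
  rw [QuadraticMap.polar_sub_right, hap, QuadraticMap.polar_smul_right, QuadraticMap.polar_self,
    ha, smul_zero, smul_zero, sub_zero]

variable [Fintype F]

theorem exists_singular (hQ : (QuadraticMap.polarBilin Q).Nondegenerate) (K : Submodule F (ι → F))
    (hK : 3 ≤ finrank F K) : ∃ z ∈ K, z ≠ 0 ∧ Q z = 0 :=
  AschbacherQuad.exists_singular (isNondeg hQ) K hK

theorem exists_singular_notMem (hQ : (QuadraticMap.polarBilin Q).Nondegenerate)
    {K M : Submodule F (ι → F)} (h : finrank F (K ⊓ M : Submodule F (ι → F)) + 3 ≤ finrank F K) :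
    ∃ z ∈ K, z ∉ M ∧ Q z = 0 := by
  obtain ⟨z, hzK, hzM, hz⟩ := AschbacherQuad.exists_singular_not_mem (isNondeg hQ) h
  exact ⟨z, hzK, fun hm => hzM ⟨hzK, hm⟩, hz⟩

/-- Two orthogonal hyperbolic pairs exist from dimension five on. -/
theorem nonempty_twoPairs (hQ : (QuadraticMap.polarBilin Q).Nondegenerate)
    (hn : 5 ≤ Fintype.card ι) : Nonempty (TwoPairs Q) := by
  obtain ⟨e, -, he0, he⟩ := exists_singular hQ ⊤ (by rw [finrank_top, Module.finrank_pi]; omega)
  obtain ⟨f, -, hf, hef⟩ := exists_partner_in (K := ⊤) Submodule.mem_top he (by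
    by_contra! h
    exact he0 (hQ.1 e fun y => h y Submodule.mem_top))
  set P := qperp Q (Submodule.span F {e}) ⊓ qperp Q (Submodule.span F {f}) with hP
  have hPd : 3 ≤ finrank F P := by
    have h1 := Submodule.finrank_sup_add_finrank_inf_eq (qperp Q (Submodule.span F {e}))
      (qperp Q (Submodule.span F {f}))
    have h2 := Submodule.finrank_le
      (qperp Q (Submodule.span F {e}) ⊔ qperp Q (Submodule.span F {f}))
    have hf0 : f ≠ 0 := fun h => by simp [h] at hef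
    rw [finrank_qperp hQ, finrank_qperp hQ, finrank_span_singleton he0,
      finrank_span_singleton hf0] at h1
    rw [Module.finrank_pi] at h2
    rw [hP]
    omega
  obtain ⟨a, ⟨hea, hfa⟩, ha0, ha⟩ := exists_singular hQ P hPd
  rw [SetLike.mem_coe, mem_qperp_singleton] at hea hfa
  obtain ⟨b, hbP, hb, hab⟩ := exists_partner_in (K := P)
    ⟨mem_qperp_singleton.2 hea, mem_qperp_singleton.2 hfa⟩ ha (by
    by_contra! h
    refine ha0 (hQ.1 a fun x => ?_)
    have hee : 𝔅 e e = 0 := by rw [QuadraticMap.polar_self, he, smul_zero]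
    have hff : 𝔅 f f = 0 := by rw [QuadraticMap.polar_self, hf, smul_zero]
    have hx : x - 𝔅 f x • e - 𝔅 e x • f ∈ P := by
      refine ⟨mem_qperp_singleton.2 ?_, mem_qperp_singleton.2 ?_⟩ <;>
        simp [QuadraticMap.polar_sub_right, QuadraticMap.polar_smul_right, hee, hff, hef,
          QuadraticMap.polar_comm (⇑Q) f e]
    have := h _ hx
    rw [QuadraticMap.polar_sub_right, QuadraticMap.polar_sub_right, QuadraticMap.polar_smul_right,
      QuadraticMap.polar_smul_right, QuadraticMap.polar_comm (⇑Q) a e, hea,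
      QuadraticMap.polar_comm (⇑Q) a f, hfa, smul_zero, smul_zero, sub_zero, sub_zero] at this
    exact this)
  obtain ⟨heb, hfb⟩ := hbP
  rw [SetLike.mem_coe, mem_qperp_singleton] at heb hfb
  exact ⟨⟨e, f, a, b, he, hf, ha, hb, hef, hab, hea, heb, hfa, hfb⟩⟩

theorem eich_mem_omega (hQ : (QuadraticMap.polarBilin Q).Nondegenerate) (hn : 5 ≤ Fintype.card ι)
    {u w : ι → F} (hu : Q u = 0) (huw : 𝔅 u w = 0) :
    eichIso Q u w hu huw ∈ Cfsg.Omega F ⇑Q := by
  obtain ⟨P⟩ := nonempty_twoPairs hQ hn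
  rw [P.omega_eq_eichGroup hQ hn]
  exact eichIso_mem Q hu huw

/-! ### Root membership -/

/-- The Eichler element of `(u, w)`, if there is one, lies in `M`. -/
def RootMem (M : Subgroup (Isom Q)) (u w : ι → F) : Prop :=
  ∀ g : (Isom Q), mat Q g = eich Q u w → g ∈ M

variable {M : Subgroup (Isom Q)} {u w w' : ι → F}

theorem RootMem.of_iso (hu : Q u = 0) (huw : 𝔅 u w = 0)
    (h : eichIso Q u w hu huw ∈ M) : RootMem M u w := fun g hg => by
  rwa [mat_ext Q (hg.trans (mat_eichIso u w hu huw).symm)]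

theorem RootMem.iso (h : RootMem M u w) (hu : Q u = 0) (huw : 𝔅 u w = 0) :
    eichIso Q u w hu huw ∈ M := h _ rfl

theorem RootMem.add (hu : Q u = 0) (huw : 𝔅 u w = 0) (huw' : 𝔅 u w' = 0)
    (h : RootMem M u w) (h' : RootMem M u w') : RootMem M u (w + w') := by
  intro g hg
  have : g = eichIso Q u w hu huw * eichIso Q u w' hu huw' := mat_ext Q (by
    rw [hg, mat_mul, mat_eichIso, mat_eichIso, eich_mul hu huw huw'])
  rw [this]
  exact mul_mem (h.iso hu huw) (h'.iso hu huw')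

theorem RootMem.zero : RootMem M u 0 := fun g hg => by
  rw [eich_zero] at hg
  rw [show g = 1 from mat_ext Q (hg.trans (mat_one Q).symm)]
  exact M.one_mem

theorem RootMem.neg (hu : Q u = 0) (huw : 𝔅 u w = 0) (h : RootMem M u w) : RootMem M u (-w) := by
  have hn : 𝔅 u (-w) = 0 := by rw [QuadraticMap.polar_neg_right, huw, neg_zero]
  refine RootMem.of_iso hu hn ?_
  have : eichIso Q u (-w) hu hn = (eichIso Q u w hu huw)⁻¹ := by
    refine eq_inv_of_mul_eq_one_left (mat_ext Q ?_)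
    rw [mat_mul, mat_eichIso, mat_eichIso, eich_mul hu hn huw, neg_add_cancel, eich_zero, mat_one]
  rw [this]
  exact inv_mem (h.iso hu huw)

theorem rootMem_smul_left (t : F) : RootMem M (t • u) w ↔ RootMem M u (t • w) := by
  simp only [RootMem, eich_smul_left]

theorem RootMem.conj {k : (Isom Q)} (hk : k ∈ M) (h : RootMem M u w) :
    RootMem M (mat Q k *ᵥ u) (mat Q k *ᵥ w) := by
  intro g hg
  have hmem := h (k⁻¹ * g * k) (by
    rw [mat_mul, mat_mul, hg, mul_assoc, ← conj_eich, ← mul_assoc, ← mat_mul, inv_mul_cancel,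
      mat_one, one_mul])
  have := mul_mem (mul_mem hk hmem) (inv_mem hk)
  simpa [mul_assoc] using this

/-- Orthogonal singular vectors may be exchanged in an Eichler element. -/
theorem eich_swap {a b : ι → F} (ha : Q a = 0) (hb : Q b = 0) :
    eich Q a b = eich Q b (-a) := by
  refine Matrix.ext_iff_mulVec.2 fun x => ?_
  simp only [eich_mulVec, QuadraticMap.map_neg, ha, hb, QuadraticMap.polar_neg_left, zero_mul,
    zero_smul, sub_zero]
  module

theorem RootMem.swap {a b : ι → F} (ha : Q a = 0) (hb : Q b = 0) (h : RootMem M a b) :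
    RootMem M b (-a) := fun g hg => h g (hg.trans (eich_swap ha hb).symm)

/-- All Eichler elements at `u` lie in `M`. -/
def Full (M : Subgroup (Isom Q)) (u : ι → F) : Prop := ∀ w, 𝔅 u w = 0 → RootMem M u w

theorem Full.smul (h : Full M u) (t : F) : Full M (t • u) := by
  intro w hw
  rw [rootMem_smul_left]
  refine h _ ?_
  rw [QuadraticMap.polar_smul_left] at hw
  rw [QuadraticMap.polar_smul_right, hw]

theorem Full.conj {k : (Isom Q)} (hk : k ∈ M) (h : Full M u) : Full M (mat Q k *ᵥ u) := by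
  intro w hw
  have hinv : mat Q k *ᵥ (mat Q k⁻¹ *ᵥ w) = w := by
    rw [mulVec_mulVec, ← mat_mul, mul_inv_cancel, mat_one, one_mulVec]
  rw [← hinv] at hw ⊢
  rw [polar_mulVec] at hw
  exact (h _ hw).conj hk

/-- Moving a singular vector by the Eichler elements at a fixed one. -/
theorem eich_move {v y : ι → F} (hu : Q u = 0) (hv : Q v = 0) (hy : Q y = 0)
    (huv : 𝔅 u v ≠ 0) (huy : 𝔅 u y = 𝔅 u v) :
    𝔅 u ((𝔅 u v)⁻¹ • (y - v)) = 0 ∧ eich Q u ((𝔅 u v)⁻¹ • (y - v)) *ᵥ v = y := by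
  set w := (𝔅 u v)⁻¹ • (y - v)
  have huw : 𝔅 u w = 0 := by
    rw [QuadraticMap.polar_smul_right, QuadraticMap.polar_sub_right, huy, sub_self, smul_zero]
  refine ⟨huw, ?_⟩
  obtain ⟨c, hc⟩ : ∃ c : F, eich Q u w *ᵥ v = y + c • u :=
    ⟨-(𝔅 w v + Q w * 𝔅 u v), by
      rw [eich_mulVec, show 𝔅 u v • w = y - v from smul_inv_smul₀ huv _]
      module⟩
  have hc0 : c = 0 := by
    have h := quad_eich hu huw v
    rw [hc, QuadraticMap.map_add (⇑Q), QuadraticMap.map_smul, hu, hy, hv,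
      QuadraticMap.polar_smul_right, QuadraticMap.polar_comm (⇑Q) y u, huy] at h
    simpa [huv] using h
  rw [hc, hc0, zero_smul, add_zero]

theorem Full.of_pair {v y : ι → F} (hu : Q u = 0) (hv : Q v = 0) (hy : Q y = 0)
    (huv : 𝔅 u v ≠ 0) (huy : 𝔅 u y ≠ 0) (fu : Full M u) (fv : Full M v) : Full M y := by
  set t := 𝔅 u v / 𝔅 u y
  have hy' : Q (t • y) = 0 := by rw [QuadraticMap.map_smul, hy, smul_zero]
  obtain ⟨huw, hmove⟩ := eich_move hu hv hy' huv (by
    rw [QuadraticMap.polar_smul_right, smul_eq_mul, div_mul_cancel₀ _ huy])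
  have h := fv.conj ((fu _ huw).iso hu huw)
  rw [mat_eichIso, hmove] at h
  have h' := h.smul t⁻¹
  rwa [inv_smul_smul₀ (div_ne_zero huv huy)] at h'

/-- Two non-orthogonal full singular points give all of `Ω`. -/
theorem omega_le_of_full_pair (hQ : (QuadraticMap.polarBilin Q).Nondegenerate)
    (hn : 5 ≤ Fintype.card ι) {v : ι → F} (hu : Q u = 0) (hv : Q v = 0) (huv : 𝔅 u v ≠ 0)
    (fu : Full M u) (fv : Full M v) : Cfsg.Omega F ⇑Q ≤ M := by
  obtain ⟨P⟩ := nonempty_twoPairs hQ hn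
  rw [P.omega_eq_eichGroup hQ hn, Forms4.eichGroup, Subgroup.closure_le]
  rintro g ⟨y, w, hy, hyw, hg⟩
  suffices Full M y from this w hyw g hg
  by_cases huy : 𝔅 u y = 0
  · by_cases hdep : ∃ c : F, c • u = y
    · obtain ⟨c, rfl⟩ := hdep
      exact fu.smul c
    push Not at hdep
    have hu0 : u ≠ 0 := fun h => huv (by rw [h, QuadraticMap.polar_zero_left])
    obtain ⟨t, htu, hty⟩ := AschbacherQuad.exists_pairing_pair (isNondeg hQ) hu0 hdep
      0 ((1 - 𝔅 v y) / 𝔅 u v)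
    have hut : 𝔅 u t = 0 := by rw [QuadraticMap.polar_comm, htu]
    set k := eichIso Q u t hu hut
    have hk : k ∈ M := (fu _ hut).iso hu hut
    set z := mat Q k *ᵥ v with hz
    have hzy : 𝔅 z y = 1 := by
      rw [hz, mat_eichIso, eich_mulVec]
      simp only [QuadraticMap.polar_add_left, QuadraticMap.polar_sub_left,
        QuadraticMap.polar_smul_left, hty, huy, smul_eq_mul]
      field_simp
      ring
    have hzu : 𝔅 z u ≠ 0 := by
      have hku : mat Q k *ᵥ u = u := by rw [mat_eichIso, eich_mulVec_left hu hut]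
      conv => lhs; arg 3; rw [← hku]
      rw [hz, polar_mulVec, QuadraticMap.polar_comm]
      exact huv
    exact Full.of_pair (by rw [hz, quad_mulVec, hv]) hu hy hzu (by rw [hzy]; exact one_ne_zero)
      (fv.conj hk) fu
  · exact Full.of_pair hu hv hy huv huy fu fv

/-! ### Passing to matrix groups -/

/-- Maximality in `omegaGL` reduces to a statement inside the isometry group. -/
theorem isMaximalIn_omega (S : Subgroup (Matrix.GeneralLinearGroup ι F))
    (hproper : ∃ g ∈ Cfsg.Omega F ⇑Q, (g : GL ι F) ∉ S)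
    (hmax : ∀ M : Subgroup (Isom Q), (∀ g ∈ Cfsg.Omega F ⇑Q, (g : GL ι F) ∈ S → g ∈ M) →
      ∀ g ∈ M, g ∈ Cfsg.Omega F ⇑Q → (g : GL ι F) ∉ S → Cfsg.Omega F ⇑Q ≤ M) :
    IsMaximalIn (omegaGL ⇑Q) (S ⊓ omegaGL ⇑Q) := by
  refine ⟨lt_of_le_of_ne inf_le_right fun h => ?_, fun M hHM hMK => ?_⟩
  · obtain ⟨g, hg, hgS⟩ := hproper
    have h' : (g : GL ι F) ∈ omegaGL ⇑Q := Subgroup.mem_map_of_mem _ hg
    have : (g : GL ι F) ∈ S ⊓ omegaGL ⇑Q := by rw [h]; exact h' 
    exact hgS this.1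
  by_cases hle : M ≤ S
  · exact Or.inl (le_antisymm (le_inf hle hMK) hHM)
  refine Or.inr (le_antisymm hMK ?_)
  obtain ⟨x, hxM, hxS⟩ := SetLike.not_le_iff_exists.1 hle
  obtain ⟨g, hgΩ, rfl⟩ := hMK hxM
  have := hmax (M.comap (Cfsg.isometryGroup F ⇑Q).subtype)
    (fun k hk hkS => hHM ⟨hkS, Subgroup.mem_map_of_mem _ hk⟩) g hxM hgΩ hxS
  rintro _ ⟨k, hk, rfl⟩
  exact this hk

/-- Non-maximality in `omegaGL` from a strictly larger proper stabiliser. -/
theorem not_maximal_omega {S T : Subgroup (Matrix.GeneralLinearGroup ι F)}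
    (hle : S ⊓ omegaGL ⇑Q ≤ T)
    (hproper : ∃ g ∈ Cfsg.Omega F ⇑Q, (g : GL ι F) ∈ T ∧ (g : GL ι F) ∉ S)
    (hT : ∃ g ∈ Cfsg.Omega F ⇑Q, (g : GL ι F) ∉ T) :
    ∃ K : Subgroup (Matrix.GeneralLinearGroup ι F), S ⊓ omegaGL ⇑Q < K ∧ K < omegaGL ⇑Q := by
  refine ⟨T ⊓ omegaGL ⇑Q, lt_of_le_of_ne (le_inf hle inf_le_right) fun h => ?_,
    lt_of_le_of_ne inf_le_right fun h => ?_⟩
  · obtain ⟨g, hg, hgT, hgS⟩ := hproper
    have : (g : GL ι F) ∈ S ⊓ omegaGL ⇑Q := by rw [h]; exact ⟨hgT, Subgroup.mem_map_of_mem _ hg⟩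
    exact hgS this.1
  · obtain ⟨g, hg, hgT⟩ := hT
    have h' : (g : GL ι F) ∈ omegaGL ⇑Q := Subgroup.mem_map_of_mem _ hg
    have : (g : GL ι F) ∈ T ⊓ omegaGL ⇑Q := by rw [h]; exact h' 
    exact hgT this.1

end CfsgLib.OrthMax
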