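import Cfsg.Agent.OrthMax.TotallySingular

/-! # Stabilisers of nonsingular points in characteristic two -/

set_option autoImplicit false
set_option linter.unusedSectionVars false

namespace CfsgLib.OrthMax

open Matrix Module CfsgLib.Spinor CfsgLib.Forms CfsgLib.Forms4 Cfsg.Geo

variable {F : Type*} [Field F] {ι : Type} [Fintype ι] [DecidableEq ι] {Q : QuadraticForm F (ι → F)}
variable [Fintype F]

set_option quotPrecheck false in
local notation "𝔅" => QuadraticMap.polar (⇑Q)

theorem mem_qperp_span_pair {a b x : ι → F} :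
    x ∈ qperp Q (Submodule.span F {a, b}) ↔ 𝔅 a x = 0 ∧ 𝔅 b x = 0 := by
  rw [mem_qperp]
  refine ⟨fun h => ⟨h a (Submodule.subset_span (by simp)), h b (Submodule.subset_span (by simp))⟩,
    fun h w hw => ?_⟩
  obtain ⟨c, d, rfl⟩ := Submodule.mem_span_pair.1 hw
  rw [QuadraticMap.polar_add_left, QuadraticMap.polar_smul_left, QuadraticMap.polar_smul_left,
    h.1, h.2, smul_zero, smul_zero, add_zero]

theorem finrank_span_pair_le (a b : ι → F) : finrank F (Submodule.span F {a, b}) ≤ 2 := by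
  have h2 := finrank_range_le_card (R := F) ![a, b]
  rw [Fintype.card_fin, Set.finrank] at h2
  rwa [show ({a, b} : Set (ι → F)) = Set.range ![a, b] by
    simp only [Matrix.range_cons, Matrix.range_empty, Set.union_empty, Set.singleton_union]]

/-- The stabiliser of a nonsingular point is maximal in `Ω` in characteristic two. -/
theorem isMaximalIn_nonsingular (hQ : (QuadraticMap.polarBilin Q).Nondegenerate)
    (hn : 8 ≤ Fintype.card ι) (h2 : (2 : F) = 0) {v : ι → F} (hv : Q v ≠ 0) :
    IsMaximalIn (omegaGL ⇑Q) (subspaceStabilizer (Submodule.span F {v}) ⊓ omegaGL ⇑Q) := by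
  have hn5 : 5 ≤ Fintype.card ι := by omega
  have hvv : 𝔅 v v = 0 := by
    rw [QuadraticMap.polar_self, show ((2 : ℕ) • Q v) = (2 : F) * Q v by rw [nsmul_eq_mul]; norm_num,
      h2, zero_mul]
  have hne : ∀ u, Q u = 0 → ∀ c : F, c • u ≠ v := by
    rintro u hu c rfl
    exact hv (by rw [QuadraticMap.map_smul, hu, smul_zero])
  refine isMaximalIn_omega _ ?_ fun M hM g hgM _ hgS => ?_
  · obtain ⟨u, hu, hu0, hqu⟩ := exists_singular hQ (qperp Q (Submodule.span F {v})) (by
      rw [finrank_qperp hQ, finrank_span_singleton (fun h => hv (by rw [h, QuadraticMap.map_zero]))]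
      omega)
    rw [mem_qperp_singleton] at hu
    obtain ⟨w, hwu, hwv⟩ := AschbacherQuad.exists_pairing_pair (isNondeg hQ) hu0 (hne u hqu) 0 1
    have huw : 𝔅 u w = 0 := by rw [QuadraticMap.polar_comm, hwu]
    refine ⟨eichIso Q u w hqu huw, eich_mem_omega hQ hn5 hqu huw, fun hs => ?_⟩
    have h := (MaxSub.mem_subspaceStabilizer_iff.1 hs v).1 (Submodule.mem_span_singleton_self v)
    change mat Q (eichIso Q u w hqu huw) *ᵥ v ∈ _ at h
    rw [mat_eichIso, eich_mulVec, QuadraticMap.polar_comm (⇑Q) u v, hu, hwv] at h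
    simp only [zero_smul, one_smul, mul_zero, sub_zero, zero_sub] at h
    rw [Submodule.add_mem_iff_right _ (Submodule.mem_span_singleton_self v),
      Submodule.neg_mem_iff] at h
    obtain ⟨c, hc⟩ := Submodule.mem_span_singleton.1 h
    rcases eq_or_ne c 0 with rfl | hc0
    · exact hu0 (by rw [← hc, zero_smul])
    · exact hne u hqu c⁻¹ (by rw [← hc, inv_smul_smul₀ hc0])
  have hmem : ∀ {u w : ι → F}, Q u = 0 → 𝔅 v u = 0 → 𝔅 v w = 0 → 𝔅 u w = 0 → RootMem M u w := by
    intro u w hu hvu hvw huw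
    refine RootMem.of_iso hu huw (hM _ (eich_mem_omega hQ hn5 hu huw) (mem_stab_of_le fun x hx => ?_))
    obtain ⟨c, rfl⟩ := Submodule.mem_span_singleton.1 hx
    rw [mat_eichIso, eich_mulVec, QuadraticMap.polar_smul_right, QuadraticMap.polar_smul_right,
      QuadraticMap.polar_comm (⇑Q) u v, hvu, QuadraticMap.polar_comm (⇑Q) w v, hvw]
    simpa using hx
  set v' := mat Q g *ᵥ v with hv'def
  have hv' : v' ∉ Submodule.span F {v} := fun h => hgS (mem_stab_of_le fun x hx => by
    obtain ⟨c, rfl⟩ := Submodule.mem_span_singleton.1 hx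
    rw [mulVec_smul]
    exact Submodule.smul_mem _ _ h)
  set S := Submodule.span F {v, v'} with hS
  have hfull : ∀ u, Q u = 0 → u ∈ qperp Q S → u ∉ S → Full M u := by
    intro u hu huS huN
    obtain ⟨huv, huv'⟩ := mem_qperp_span_pair.1 huS
    obtain ⟨t, ht, htv⟩ : ∃ t ∈ qperp Q (Submodule.span F {u, v'}), 𝔅 t v ≠ 0 := by
      by_contra! h
      have h' : v ∈ qperp Q (qperp Q (Submodule.span F {u, v'})) := mem_qperp.2 h
      rw [qperp_qperp hQ] at h'
      obtain ⟨a, b, hab⟩ := Submodule.mem_span_pair.1 h'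
      rcases eq_or_ne a 0 with rfl | ha
      · rw [zero_smul, zero_add] at hab
        rcases eq_or_ne b 0 with rfl | hb
        · exact hv (by rw [← hab, zero_smul, QuadraticMap.map_zero])
        · exact hv' (Submodule.mem_span_singleton.2 ⟨b⁻¹, by rw [← hab, inv_smul_smul₀ hb]⟩)
      · refine huN (Submodule.mem_span_pair.2 ⟨a⁻¹, -(a⁻¹ * b), ?_⟩)
        rw [← hab, smul_add, smul_smul, smul_smul, inv_mul_cancel₀ ha, one_smul, neg_smul]
        abel
    obtain ⟨htu, htv'⟩ := mem_qperp_span_pair.1 ht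
    set t₁ := (𝔅 t v)⁻¹ • t
    have h1u : 𝔅 u t₁ = 0 := by rw [QuadraticMap.polar_smul_right, htu, smul_zero]
    have h1v' : 𝔅 v' t₁ = 0 := by rw [QuadraticMap.polar_smul_right, htv', smul_zero]
    have h1v : 𝔅 v t₁ = 1 := by
      rw [QuadraticMap.polar_smul_right, QuadraticMap.polar_comm (⇑Q) v t, smul_eq_mul,
        inv_mul_cancel₀ htv]
    intro w hw
    set b := 𝔅 v w • t₁ with hb
    have hub : 𝔅 u b = 0 := by rw [hb, QuadraticMap.polar_smul_right, h1u, smul_zero]
    have hua : 𝔅 u (w - b) = 0 := by rw [QuadraticMap.polar_sub_right, hw, hub, sub_zero]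
    rw [← sub_add_cancel w b]
    refine RootMem.add hu hua hub (hmem hu huv ?_ hua) ?_
    · rw [QuadraticMap.polar_sub_right, hb, QuadraticMap.polar_smul_right, h1v, smul_eq_mul,
        mul_one, sub_self]
    · set gi := mat Q g⁻¹
      have hinv : ∀ x, mat Q g *ᵥ (gi *ᵥ x) = x := fun x => by
        rw [mulVec_mulVec, ← mat_mul, mul_inv_cancel, mat_one, one_mulVec]
      have h := (hmem (u := gi *ᵥ u) (w := gi *ᵥ b) (by rw [quad_mulVec, hu])
        (by rw [← polar_mulVec Q g, hinv, ← hv'def, huv'])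
        (by rw [← polar_mulVec Q g, hinv, ← hv'def, hb, QuadraticMap.polar_smul_right, h1v', smul_zero])
        (by rw [polar_mulVec, hub])).conj hgM
      rwa [hinv, hinv] at h
  have hSd : finrank F S ≤ 2 := finrank_span_pair_le v v'
  obtain ⟨u, huS, huN, hu⟩ := exists_singular_notMem hQ (K := qperp Q S) (M := S) (by
    have := finrank_qperp hQ S
    have := Submodule.finrank_mono (inf_le_right : qperp Q S ⊓ S ≤ S)
    omega)
  obtain ⟨u₂, hu₂S, hu₂, huu₂⟩ := exists_partner_in huS hu (by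
    by_contra! h
    refine huN ?_
    rw [← qperp_qperp hQ S, mem_qperp]
    exact fun x hx => by rw [QuadraticMap.polar_comm]; exact h x hx)
  refine omega_le_of_full_pair hQ hn5 hu hu₂ (by rw [huu₂]; exact one_ne_zero) (hfull u hu huS huN)
    (hfull u₂ hu₂ hu₂S fun h => ?_)
  exact one_ne_zero (huu₂.symm.trans (by rw [QuadraticMap.polar_comm]; exact mem_qperp.1 huS _ h))

/-- `isMaximalIn_nonsingular` for a form given as a function. -/
theorem isMaximalIn_nonsingular_fun {Q : (ι → F) → F} (hQ : IsNondegenerateQuadraticForm Q)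
    (hn : 8 ≤ Fintype.card ι) (h2 : (2 : F) = 0) {v : ι → F} (hv : Q v ≠ 0) :
    IsMaximalIn (omegaGL Q) (subspaceStabilizer (Submodule.span F {v}) ⊓ omegaGL Q) :=
  isMaximalIn_nonsingular (Q := AschbacherQuad.quadForm hQ)
    (AschbacherQuad.quadForm_nondegenerate hQ) hn h2 hv

end CfsgLib.OrthMax
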