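import Cfsg.Agent.OrthMax.NotMaximal
import Cfsg.Agent.OrthMax.NonsingularVector
import Cfsg.Agent.Spinor.Pairs

/-!
# Pairs of complementary maximal totally singular subspaces of even dimension

`isMaximalIn_singular_pair`: their stabiliser is maximal in `Ω`.
-/

set_option autoImplicit false
set_option linter.unusedSectionVars false

namespace CfsgLib.OrthMax

open Matrix Module CfsgLib.Spinor CfsgLib.Forms CfsgLib.Forms4 Cfsg.Geo CfsgLib.OmegaOrbits

variable {F : Type*} [Field F] {ι : Type} [Fintype ι] [DecidableEq ι] {Q : QuadraticForm F (ι → F)}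

set_option quotPrecheck false in
local notation "𝔅" => QuadraticMap.polar (⇑Q)

/-- Complementary totally singular subspaces of half the dimension. -/
structure IsSingularPair (Q : QuadraticForm F (ι → F)) (X Y : Submodule F (ι → F)) : Prop where
  left : ∀ x ∈ X, Q x = 0
  right : ∀ y ∈ Y, Q y = 0
  disj : X ⊓ Y = ⊥
  left_dim : 2 * finrank F X = Fintype.card ι
  right_dim : 2 * finrank F Y = Fintype.card ι

variable {X Y : Submodule F (ι → F)}

theorem IsSingularPair.symm (h : IsSingularPair Q X Y) : IsSingularPair Q Y X :=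
  ⟨h.right, h.left, by rw [inf_comm, h.disj], h.right_dim, h.left_dim⟩

theorem IsSingularPair.finrank_eq (h : IsSingularPair Q X Y) : finrank F X = finrank F Y := by
  have := h.left_dim
  have := h.right_dim
  omega

theorem IsSingularPair.exists_decomp (h : IsSingularPair Q X Y) (v : ι → F) :
    ∃ x ∈ X, ∃ y ∈ Y, x + y = v := by
  refine Submodule.mem_sup.1 (?_ : v ∈ X ⊔ Y)
  rw [Submodule.eq_top_of_finrank_eq (K := F) (S := X ⊔ Y) ?_]
  · exact Submodule.mem_top
  · have h1 := Submodule.finrank_sup_add_finrank_inf_eq X Y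
    have := h.left_dim
    have := h.right_dim
    rw [h.disj, finrank_bot] at h1
    rw [Module.finrank_pi]
    omega

variable [Fintype F]

/-- A vector outside `X ⊔ S` is detected by a member of `X` orthogonal to `S`. -/
theorem exists_detect (hQ : (QuadraticMap.polarBilin Q).Nondegenerate) (h : IsSingularPair Q X Y)
    {S : Submodule F (ι → F)} {v : ι → F} (hv : v ∉ X ⊔ S) : ∃ a ∈ X, a ∈ qperp Q S ∧ 𝔅 a v ≠ 0 := by
  by_contra! hall
  refine hv ?_
  rw [← qperp_qperp hQ (X ⊔ S), mem_qperp, qperp_sup, qperp_lag hQ h.left h.left_dim]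
  exact fun a ha => hall a ha.1 ha.2

/-- Two root members differing by a fixed vector. -/
theorem rootMem_diff {M : Subgroup (Isom Q)} {r s d : ι → F} {k : Isom Q} (hr : Q r = 0) (hs : Q s = 0)
    (hrs : 𝔅 r s = 0) (h : RootMem M r s) (hk : k ∈ M) (hks : mat Q k *ᵥ s = s)
    (hkr : mat Q k *ᵥ r = r + d) : RootMem M s d := by
  have hr' : Q (r + d) = 0 := by rw [← hkr, quad_mulVec, hr]
  have hr's : 𝔅 (r + d) s = 0 := by
    conv_lhs => arg 3; rw [← hks]
    rw [← hkr, polar_mulVec, hrs]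
  have h1 := (h.conj hk)
  rw [hks, hkr] at h1
  have e1 : 𝔅 s (-(r + d)) = 0 := by rw [QuadraticMap.polar_neg_right, QuadraticMap.polar_comm, hr's, neg_zero]
  have e2 : 𝔅 s r = 0 := by rw [QuadraticMap.polar_comm, hrs]
  have h2 := (h.swap hr hs).neg hs (by rw [QuadraticMap.polar_neg_right, e2, neg_zero])
  rw [neg_neg] at h2
  have h3 := ((h1.swap hr' hs).add hs e1 e2 h2).neg hs
    (by rw [QuadraticMap.polar_add_right, e1, e2, add_zero])
  rwa [show -(-(r + d) + r) = d by abel] at h3

section Core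

variable {M : Subgroup (Isom Q)}

/-- Hypothesis: the Eichler elements with one vector in each member. -/
def CrossRoots (M : Subgroup (Isom Q)) (X Y : Submodule F (ι → F)) : Prop :=
  ∀ a ∈ X, ∀ b ∈ Y, QuadraticMap.polar (⇑Q) a b = 0 → RootMem M a b

theorem CrossRoots.symm (h : CrossRoots M X Y) (hX : ∀ x ∈ X, Q x = 0) (hY : ∀ y ∈ Y, Q y = 0) :
    CrossRoots M Y X := fun a ha b hb hab => by
  have := (h (-b) (X.neg_mem hb) a ha (by
    rw [QuadraticMap.polar_neg_left, QuadraticMap.polar_comm, hab, neg_zero])).swap (hX _ (X.neg_mem hb))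
    (hY a ha)
  rwa [neg_neg] at this

/-- A mixed root member gives one inside `Y`. -/
theorem exists_rootMem_right (hQ : (QuadraticMap.polarBilin Q).Nondegenerate) (hp : IsSingularPair Q X Y)
    (hn : 12 ≤ Fintype.card ι) (hM : CrossRoots M X Y) {r s : ι → F} (hr : Q r = 0) (hs : Q s = 0)
    (hrs : 𝔅 r s = 0) (h : RootMem M r s) (hsX : s ∉ X) (hrX : r ∉ X ⊔ Submodule.span F {s}) :
    ∃ b ∈ Y, b ≠ 0 ∧ ∃ b' ∈ Y, b' ∉ Submodule.span F {b} ∧ RootMem M b b' := by
  have hk6 : 6 ≤ finrank F Y := by have := hp.right_dim; omega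
  obtain ⟨a, haX, has, har⟩ := exists_detect hQ hp hrX
  rw [mem_qperp_singleton, QuadraticMap.polar_comm] at has
  -- a member `b` of `Y` orthogonal to `a`, `s`, `r`
  set P := Y ⊓ qperp Q (Submodule.span F {a}) ⊓ qperp Q (Submodule.span F {s}) ⊓
    qperp Q (Submodule.span F {r}) with hP
  obtain ⟨b, hb, hbn⟩ : ∃ b ∈ P, b ∉ X ⊔ Submodule.span F {s} := by
    by_contra! hall
    have h1 := finrank_le_inf_qperp_add_one hQ Y a
    have h2 := finrank_le_inf_qperp_add_one hQ (Y ⊓ qperp Q (Submodule.span F {a})) s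
    have h3 := finrank_le_inf_qperp_add_one hQ
      (Y ⊓ qperp Q (Submodule.span F {a}) ⊓ qperp Q (Submodule.span F {s})) r
    have h4 : X ⊓ P = ⊥ := by
      rw [eq_bot_iff, ← hp.disj]
      exact inf_le_inf_left X (inf_le_left.trans (inf_le_left.trans inf_le_left))
    have h5 := Submodule.finrank_sup_add_finrank_inf_eq X P
    have h6 := Submodule.finrank_mono (sup_le le_sup_left hall : X ⊔ P ≤ X ⊔ Submodule.span F {s})
    have h7 := Submodule.finrank_sup_add_finrank_inf_eq X (Submodule.span F {s})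
    have h8 : finrank F (Submodule.span F {s}) ≤ 1 := (finrank_span_le_card {s}).trans (by simp)
    rw [h4, finrank_bot] at h5
    rw [hP] at h5 h6
    omega
  obtain ⟨⟨⟨hbY, hba⟩, hbs⟩, hbr⟩ := hb
  rw [SetLike.mem_coe, mem_qperp_singleton] at hba hbs hbr
  have hqb := hp.right b hbY
  have hqa := hp.left a haX
  have hk := (hM a haX b hbY hba).iso hqa hba
  -- step one: `RootMem s b`
  set c := 𝔅 a r with hc
  have h1 : RootMem M s (c • b) := by
    refine rootMem_diff hr hs hrs h hk ?_ ?_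
    · rw [mat_eichIso, eich_mulVec, has, QuadraticMap.polar_comm (⇑Q) b s, hbs]
      simp
    · rw [mat_eichIso, eich_mulVec, QuadraticMap.polar_comm (⇑Q) b r, hbr, hqb, ← hc]
      simp
  -- step two: `RootMem (c • b) b'`
  have hsb : s ∉ X ⊔ Submodule.span F {b} := by
    intro hs'
    obtain ⟨x, hx, y, hy, hxy⟩ := Submodule.mem_sup.1 hs'
    obtain ⟨t, rfl⟩ := Submodule.mem_span_singleton.1 hy
    rcases eq_or_ne t 0 with rfl | ht
    · exact hsX (by rw [← hxy, zero_smul, add_zero]; exact hx)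
    · refine hbn ?_
      rw [show b = t⁻¹ • (s - x) by rw [← hxy, add_sub_cancel_left, inv_smul_smul₀ ht], smul_sub]
      exact Submodule.sub_mem _
        (Submodule.mem_sup_right (Submodule.smul_mem _ _ (Submodule.mem_span_singleton_self s)))
        (Submodule.mem_sup_left (X.smul_mem _ hx))
  obtain ⟨a', ha'X, ha'b, ha's⟩ := exists_detect hQ hp hsb
  rw [mem_qperp_singleton, QuadraticMap.polar_comm] at ha'b
  obtain ⟨b', hb', hb'n⟩ : ∃ b' ∈ Y ⊓ qperp Q (Submodule.span F {a'}) ⊓ qperp Q (Submodule.span F {s}),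
      b' ∉ Submodule.span F {b} := by
    by_contra! hall
    have h1 := finrank_le_inf_qperp_add_one hQ Y a'
    have h2 := finrank_le_inf_qperp_add_one hQ (Y ⊓ qperp Q (Submodule.span F {a'})) s
    have h3 := Submodule.finrank_mono
      (hall : Y ⊓ qperp Q (Submodule.span F {a'}) ⊓ qperp Q (Submodule.span F {s}) ≤ Submodule.span F {b})
    have h4 : finrank F (Submodule.span F {b}) ≤ 1 := (finrank_span_le_card {b}).trans (by simp)
    omega
  obtain ⟨⟨hb'Y, hb'a⟩, hb's⟩ := hb'
  rw [SetLike.mem_coe, mem_qperp_singleton] at hb'a hb's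
  set d := 𝔅 a' s with hd
  have hqb' := hp.right b' hb'Y
  have h2 : RootMem M (c • b) (d • b') := by
    refine rootMem_diff hs (hp.right _ (Y.smul_mem _ hbY)) ?_ h1
      ((hM a' ha'X b' hb'Y hb'a).iso (hp.left a' ha'X) hb'a) ?_ ?_
    · rw [QuadraticMap.polar_smul_right, hbs, smul_zero]
    · rw [mat_eichIso, eich_mulVec, QuadraticMap.polar_smul_right, ha'b, QuadraticMap.polar_smul_right,
        polar_eq_zero hp.right hb'Y hbY, smul_zero]
      simp
    · rw [mat_eichIso, eich_mulVec, QuadraticMap.polar_comm (⇑Q) b' s, hb's, hqb', ← hd]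
      simp
  rw [rootMem_smul_left] at h2
  refine ⟨b, hbY, fun h0 => hbn (h0 ▸ Submodule.zero_mem _), _, Y.smul_mem _ (Y.smul_mem _ hb'Y), fun hm => hb'n ?_, h2⟩
  rwa [smul_smul, Submodule.smul_mem_iff _ (mul_ne_zero har ha's)] at hm

/-- One independent pair inside `Y` gives all of them. -/
theorem rootMem_right_of_pair (hQ : (QuadraticMap.polarBilin Q).Nondegenerate) (hp : IsSingularPair Q X Y)
    (hn : 12 ≤ Fintype.card ι) (hM : CrossRoots M X Y) {b b' : ι → F} (hb : b ∈ Y) (hb' : b' ∈ Y)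
    (hb0 : b ≠ 0) (hind : b' ∉ Submodule.span F {b}) (h : RootMem M b b') : ∀ y ∈ Y, ∀ z ∈ Y, RootMem M y z := by
  have hk6 : 6 ≤ finrank F Y := by have := hp.right_dim; omega
  -- transvections on `Y`
  have hmove : ∀ {u v w : ι → F}, u ∈ Y → v ∈ Y → w ∈ Y → v ∉ Submodule.span F {u, w} →
      w ∉ Submodule.span F {u} → RootMem M u v → RootMem M u w := by
    intro u v w hu hv hw hvn hwn huv
    obtain ⟨a, haX, haS, hav⟩ : ∃ a ∈ X, a ∈ qperp Q (Submodule.span F {u, w - v}) ∧ 𝔅 a v ≠ 0 := by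
      refine exists_detect hQ hp fun hv' => hvn ?_
      obtain ⟨x, hx, t, ht, hxt⟩ := Submodule.mem_sup.1 hv'
      have htY : t ∈ Y := (Submodule.span_le.2 (by
        intro z hz
        simp only [Set.mem_insert_iff, Set.mem_singleton_iff] at hz
        rcases hz with rfl | rfl
        · exact hu
        · exact Y.sub_mem hw hv)) ht
      have hx0 : x = 0 := (Submodule.eq_bot_iff _).1 hp.disj x ⟨hx, by
        rw [eq_sub_of_add_eq hxt]; exact Y.sub_mem hv htY⟩
      rw [hx0, zero_add] at hxt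
      obtain ⟨p, q, hpq⟩ := Submodule.mem_span_pair.1 (hxt ▸ ht)
      -- `v = p u + q (w - v)`
      have hq1 : 1 + q ≠ 0 := fun hq => hwn (Submodule.mem_span_singleton.2 ⟨p, by
        rw [show q = -1 by linear_combination hq, neg_one_smul, neg_sub, ← eq_sub_iff_add_eq,
          sub_sub_cancel] at hpq
        exact hpq⟩)
      refine Submodule.mem_span_pair.2 ⟨(1 + q)⁻¹ * p, (1 + q)⁻¹ * q, ?_⟩
      rw [mul_smul, mul_smul, ← smul_add, inv_smul_eq_iff₀ hq1]
      linear_combination (norm := module) hpq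
    obtain ⟨hau, had⟩ := mem_qperp_span_pair.1 haS
    set a₁ := (𝔅 a v)⁻¹ • a with ha₁
    have h1v : 𝔅 a₁ v = 1 := by rw [ha₁, QuadraticMap.polar_smul_left, smul_eq_mul, inv_mul_cancel₀ hav]
    have h1u : 𝔅 a₁ u = 0 := by rw [ha₁, QuadraticMap.polar_smul_left, QuadraticMap.polar_comm (⇑Q) a u, hau, smul_zero]
    have h1d : 𝔅 a₁ (w - v) = 0 := by rw [ha₁, QuadraticMap.polar_smul_left, QuadraticMap.polar_comm (⇑Q) a (w - v), had, smul_zero]
    have ha₁X : a₁ ∈ X := X.smul_mem _ haX
    have hd : w - v ∈ Y := Y.sub_mem hw hv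
    have := huv.conj ((hM a₁ ha₁X _ hd h1d).iso (hp.left _ ha₁X) h1d)
    rw [mat_eichIso, eich_mulVec, eich_mulVec, h1u, h1v, polar_eq_zero hp.right hd hu,
      polar_eq_zero hp.right hd hv, hp.right _ hd] at this
    simpa using this
  have hout : ∀ (S : Submodule F (ι → F)), finrank F S ≤ 4 → ∃ w ∈ Y, w ∉ S := fun S hS => by
    by_contra! hall
    have := Submodule.finrank_mono (hall : Y ≤ S)
    omega
  -- all second vectors
  have hall : ∀ {u v : ι → F}, u ∈ Y → v ∈ Y → v ∉ Submodule.span F {u} → RootMem M u v →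
      ∀ w ∈ Y, RootMem M u w := by
    intro u v hu hv hvn huv w hw
    by_cases hwu : w ∈ Submodule.span F {u}
    · obtain ⟨c, rfl⟩ := Submodule.mem_span_singleton.1 hwu
      intro g hg
      rw [eich_smul_self Q (hp.right u hu)] at hg
      rw [mat_ext Q (hg.trans (mat_one Q).symm)]
      exact M.one_mem
    by_cases hvw : v ∈ Submodule.span F {u, w}
    swap
    · exact hmove hu hv hw hvw hwu huv
    obtain ⟨m, hm, hmn⟩ := hout (Submodule.span F {u, w}) (le_trans (finrank_span_pair_le u w) (by omega))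
    have hum : v ∉ Submodule.span F {u, m} := fun hvm => by
      obtain ⟨p, q, hpq⟩ := Submodule.mem_span_pair.1 hvm
      rcases eq_or_ne q 0 with rfl | hq
      · exact hvn (Submodule.mem_span_singleton.2 ⟨p, by rwa [zero_smul, add_zero] at hpq⟩)
      · refine hmn ?_
        rw [show m = q⁻¹ • (v - p • u) by rw [← hpq, add_sub_cancel_left, inv_smul_smul₀ hq]]
        exact Submodule.smul_mem _ _ (Submodule.sub_mem _ hvw
          (Submodule.smul_mem _ _ (Submodule.subset_span (by simp))))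
    have hu_m := hmove hu hv hm hum (fun hmu => hmn (Submodule.span_mono (by simp) hmu)) huv
    exact hmove hu hm hw hmn hwu hu_m
  intro y hy z hz
  rcases eq_or_ne y 0 with rfl | hy0
  · rw [← zero_smul F b, rootMem_smul_left, zero_smul]
    exact RootMem.zero
  have hswap : ∀ {u v : ι → F}, u ∈ Y → v ∈ Y → u ≠ 0 → v ∉ Submodule.span F {u} →
      (∀ w ∈ Y, RootMem M u w) → ∀ w ∈ Y, RootMem M v w := by
    intro u v hu hv hu0 hvn hall'
    refine hall hv (Y.neg_mem hu) (fun hm => ?_) ((hall' v hv).swap (hp.right u hu) (hp.right v hv))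
    rw [Submodule.neg_mem_iff] at hm
    obtain ⟨c, rfl⟩ := Submodule.mem_span_singleton.1 hm
    exact hvn (Submodule.mem_span_singleton.2 ⟨c⁻¹, inv_smul_smul₀ (left_ne_zero_of_smul hu0) v⟩)
  have hfb := hall hb hb' hind h
  by_cases hyb : y ∈ Submodule.span F {b}
  · obtain ⟨m, hm, hmn⟩ := hout (Submodule.span F {b})
      (le_trans ((finrank_span_le_card {b}).trans (by simp : _ ≤ 1)) (by omega))
    have hm0 : m ≠ 0 := fun h0 => hmn (h0 ▸ Submodule.zero_mem _)
    refine hswap hm hy hm0 (fun hym => ?_) (hswap hb hm hb0 hmn hfb) z hz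
    obtain ⟨c, rfl⟩ := Submodule.mem_span_singleton.1 hym
    exact hmn ((Submodule.smul_mem_iff _ (left_ne_zero_of_smul hy0)).1 hyb)
  · exact hswap hb hy hb0 hyb hfb z hz

end Core

end CfsgLib.OrthMax
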