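import Cfsg.Agent.OrthMax.DecompSys

/-!
# Root groups in overgroups of stabilisers of orthogonal decompositions

`rootSpace M u`: the vectors all of whose multiples pair with `u` in `M`; `omega_le_of_mixed`: one Eichler
group at a singular vector of a member, not inside the member, gives all of `Ω`.
-/

set_option autoImplicit false
set_option linter.unusedSectionVars false

namespace CfsgLib.OrthMax

open Matrix Module CfsgLib.Spinor CfsgLib.Forms CfsgLib.Forms4 Cfsg.Geo CfsgLib.OmegaOrbits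

variable {F : Type*} [Field F] {ι : Type} [Fintype ι] [DecidableEq ι] {Q : QuadraticForm F (ι → F)}
variable [Fintype F] {t k : ℕ} {D : Fin t → Submodule F (ι → F)} {M : Subgroup (Isom Q)}

set_option quotPrecheck false in
local notation "𝔅" => QuadraticMap.polar (⇑Q)

/-- All multiples of `w` pair with the singular vector `u` in `M`. -/
def rootSpace (M : Subgroup (Isom Q)) {u : ι → F} (hu : Q u = 0) : Submodule F (ι → F) where
  carrier := {w | QuadraticMap.polar (⇑Q) u w = 0 ∧ ∀ c : F, RootMem M u (c • w)}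
  zero_mem' := ⟨by rw [QuadraticMap.polar_zero_right], fun c => by rw [smul_zero]; exact RootMem.zero⟩
  add_mem' := fun {x y} hx hy => ⟨by rw [QuadraticMap.polar_add_right, hx.1, hy.1, add_zero], fun c => by
    rw [smul_add]
    exact (hx.2 c).add hu (by rw [QuadraticMap.polar_smul_right, hx.1, smul_zero])
      (by rw [QuadraticMap.polar_smul_right, hy.1, smul_zero]) (hy.2 c)⟩
  smul_mem' := fun e x hx => ⟨by rw [QuadraticMap.polar_smul_right, hx.1, smul_zero],
    fun c => by rw [smul_smul]; exact hx.2 _⟩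

variable {u w : ι → F} {hu : Q u = 0}

theorem mem_rootSpace : w ∈ rootSpace M hu ↔ 𝔅 u w = 0 ∧ ∀ c : F, RootMem M u (c • w) := Iff.rfl

theorem rootSpace_iso (h : w ∈ rootSpace M hu) : eichIso Q u w hu h.1 ∈ M :=
  (by simpa using h.2 1 : RootMem M u w).iso hu h.1

theorem rootSpace_map {g : Isom Q} (hg : g ∈ M) (h : w ∈ rootSpace M hu) (hgu : Q (mat Q g *ᵥ u) = 0) :
    mat Q g *ᵥ w ∈ rootSpace M hgu := by
  refine ⟨by rw [polar_mulVec, h.1], fun c => ?_⟩
  have := (h.2 c).conj hg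
  rwa [mulVec_smul] at this

theorem rootSpace_fixed {g : Isom Q} (hg : g ∈ M) (hfix : mat Q g *ᵥ u = u) (h : w ∈ rootSpace M hu) :
    mat Q g *ᵥ w - w ∈ rootSpace M hu := by
  refine Submodule.sub_mem _ ⟨?_, fun c => ?_⟩ h
  · conv_lhs => arg 2; rw [← hfix]
    rw [polar_mulVec, h.1]
  · have := (h.2 c).conj hg
    rwa [hfix, mulVec_smul] at this

theorem rootSpace_swap {s : ι → F} (hs : Q s = 0) (h : s ∈ rootSpace M hu) : u ∈ rootSpace M hs := by
  refine ⟨by rw [QuadraticMap.polar_comm, h.1], fun c => ?_⟩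
  have h1 := (h.2 (-c)).swap hu (by rw [QuadraticMap.map_smul, hs, smul_zero])
  rw [rootMem_smul_left, smul_neg, neg_smul, neg_neg] at h1
  exact h1

theorem self_mem_rootSpace : u ∈ rootSpace M hu := by
  have huu : 𝔅 u u = 0 := by rw [polar_self', hu, mul_zero]
  refine ⟨huu, fun c g hg => ?_⟩
  have : g = 1 := mat_ext Q (by
    rw [hg, mat_one]
    refine Matrix.ext_iff_mulVec.2 fun x => ?_
    rw [eich_mulVec, QuadraticMap.map_smul, hu, smul_zero, zero_mul, zero_smul, sub_zero, one_mulVec,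
      QuadraticMap.polar_smul_left, smul_eq_mul, smul_smul, mul_comm c, sub_self, add_zero])
  rw [this]
  exact M.one_mem


/-- `M` contains the elements of `Ω` preserving each member. -/
def ContainsFix (M : Subgroup (Isom Q)) (D : Fin t → Submodule F (ι → F)) : Prop :=
  ∀ g ∈ Cfsg.Omega F ⇑Q, (g : GL ι F) ∈ decompositionStabilizer D → g ∈ M

theorem mem_of_maps (h : DSys Q k D) (hk : 1 ≤ k) (hM : ContainsFix M D) {g : Isom Q} (hg : g ∈ Cfsg.Omega F ⇑Q)
    (hfix : ∀ i, ∀ x ∈ D i, mat Q g *ᵥ x ∈ D i) : g ∈ M :=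
  hM g hg (mem_decompositionStabilizer_of_maps (h.injective hk) h.dim fun j => ⟨j, hfix j⟩)

theorem rootMem_internal (h : DSys Q k D) (hn : 5 ≤ Fintype.card ι) (hk : 1 ≤ k) (hM : ContainsFix M D)
    {i : Fin t} {r b : ι → F} (hr : r ∈ D i) (hb : b ∈ D i) (hrq : Q r = 0) (hrb : 𝔅 r b = 0) :
    b ∈ rootSpace M hrq := by
  refine ⟨hrb, fun c => ?_⟩
  have hrc : 𝔅 r (c • b) = 0 := by rw [QuadraticMap.polar_smul_right, hrb, smul_zero]
  refine RootMem.of_iso hrq hrc (mem_of_maps h hk hM (eich_mem_omega h.nondeg hn hrq hrc) fun j x hx => ?_)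
  rw [mat_eichIso, eich_mulVec]
  rcases eq_or_ne i j with rfl | hij
  · exact (D i).add_mem hx ((D i).sub_mem ((D i).sub_mem ((D i).smul_mem _ ((D i).smul_mem _ hb))
      ((D i).smul_mem _ hr)) ((D i).smul_mem _ hr))
  · rw [h.perp hij hr hx, h.perp hij ((D i).smul_mem c hb) hx]
    simpa using hx

/-- Differences under the unipotent elements of one member. -/
theorem eich_diff_mem (h : DSys Q k D) (hn : 5 ≤ Fintype.card ι) (hk : 1 ≤ k) (hM : ContainsFix M D)
    {l : Fin t} {s b v : ι → F} (hs : s ∈ D l) (hb : b ∈ D l) (hsq : Q s = 0) (hsb : 𝔅 s b = 0)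
    (hus : 𝔅 s u = 0) (hub : 𝔅 b u = 0) (hv : v ∈ rootSpace M hu) :
    𝔅 s v • b - (𝔅 b v + Q b * 𝔅 s v) • s ∈ rootSpace M hu := by
  have hg := rootSpace_iso (rootMem_internal h hn hk hM hs hb hsq hsb)
  have := rootSpace_fixed hg (by rw [mat_eichIso, eich_mulVec, hus, hub]; simp) hv
  rw [mat_eichIso, eich_mulVec] at this
  convert this using 1
  module

/-- A nondegenerate space has non-orthogonal vectors orthogonal to a given one. -/
theorem exists_pair_perp {W : Submodule F (ι → F)} (hW : Nd Q W) (hd : 3 ≤ finrank F W) {s : ι → F}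
    (hs : s ∈ W) (hs0 : s ≠ 0) :
    ∃ b ∈ W, ∃ b' ∈ W, 𝔅 s b = 0 ∧ 𝔅 s b' = 0 ∧ 𝔅 b b' ≠ 0 := by
  by_contra! hall
  set X := W ⊓ qperp Q (Submodule.span F {s}) with hX
  obtain ⟨f, hf, hsf⟩ := hW.exists_polar_one hs hs0
  have hle : X ≤ Submodule.span F {s} := fun z hz =>
    hW.mem_span_of_perp hs hz.1 fun x hx hsx => hall x hx z hz.1 hsx (mem_qperp_singleton.1 hz.2)
  have hsup : W ≤ X ⊔ Submodule.span F {f} := fun x hx => by
    refine Submodule.mem_sup.2 ⟨x - 𝔅 s x • f, ⟨W.sub_mem hx (W.smul_mem _ hf), mem_qperp_singleton.2 ?_⟩,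
      𝔅 s x • f, Submodule.smul_mem _ _ (Submodule.mem_span_singleton_self f), sub_add_cancel _ _⟩
    rw [QuadraticMap.polar_sub_right, QuadraticMap.polar_smul_right, hsf, smul_eq_mul, mul_one, sub_self]
  have h1 := Submodule.finrank_mono hle
  have h2 := Submodule.finrank_mono hsup
  have h3 := Submodule.finrank_sup_add_finrank_inf_eq X (Submodule.span F {f})
  have h4 : finrank F (Submodule.span F {s}) ≤ 1 := (finrank_span_le_card _).trans (by simp)
  have h5 : finrank F (Submodule.span F {f}) ≤ 1 := (finrank_span_le_card _).trans (by simp)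
  omega

/-- An invariant root space seen by a member contains it. -/
theorem le_rootSpace (h : DSys Q k D) (hn : 5 ≤ Fintype.card ι) (hk : 3 ≤ k) (hM : ContainsFix M D)
    {l : Fin t} (hul : u ∈ qperp Q (D l)) {v : ι → F} (hv : v ∈ rootSpace M hu) (hvl : v ∉ qperp Q (D l)) :
    D l ≤ rootSpace M hu := by
  set T := rootSpace M hu with hT
  have hperp : ∀ x ∈ D l, 𝔅 x u = 0 := fun x hx => hul x hx
  have hsing : ∀ v ∈ T, ∀ s ∈ D l, Q s = 0 → 𝔅 s v ≠ 0 → s ∈ T := by
    intro v hv s hs hsq hsv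
    have hs0 : s ≠ 0 := fun e => hsv (by rw [e, QuadraticMap.polar_zero_left])
    obtain ⟨b, hb, b', hb', hsb, hsb', hbb⟩ := exists_pair_perp (h.nd l) (by rw [h.dim]; exact hk) hs hs0
    have e1 := eich_diff_mem h hn (by omega) hM hs hb hsq hsb (hperp s hs) (hperp b hb) hv
    have e2 := eich_diff_mem h hn (by omega) hM hs hb' hsq hsb' (hperp s hs) (hperp b' hb') hv
    have e3 := eich_diff_mem h hn (by omega) hM hs ((D l).add_mem hb hb') hsq
      (by rw [QuadraticMap.polar_add_right, hsb, hsb', add_zero]) (hperp s hs) (hperp _ ((D l).add_mem hb hb')) hv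
    have key : (-(𝔅 b b' * 𝔅 s v)) • s ∈ T := by
      convert T.sub_mem (T.sub_mem e3 e1) e2 using 1
      rw [QuadraticMap.map_add (⇑Q), QuadraticMap.polar_add_left]
      module
    exact (T.smul_mem_iff (neg_ne_zero.2 (mul_ne_zero hbb hsv))).1 key
  -- singular vectors of the member detect `v`
  obtain ⟨x, hx, hxv⟩ : ∃ x ∈ D l, 𝔅 x v ≠ 0 := by
    by_contra! hall
    exact hvl (mem_qperp.2 hall)
  obtain ⟨z, hz, hz0, hzq⟩ := exists_singular h.nondeg (D l) (by rw [h.dim]; exact hk)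
  obtain ⟨z', hz', hzz'⟩ := (h.nd l).exists_polar_one hz hz0
  obtain ⟨s, hs, hsq, hsv⟩ := OrthMax.exists_singular_pairing hz hzq hz'
    (by rw [QuadraticMap.polar_comm, hzz']; exact one_ne_zero) hx hxv
  have hsT := hsing v hv s hs hsq hsv
  have hs0 : s ≠ 0 := fun e => hsv (by rw [e, QuadraticMap.polar_zero_left])
  have hoff : ∀ x ∈ D l, 𝔅 s x ≠ 0 → x ∈ T := by
    intro x hx hsx
    have hxs : 𝔅 x s ≠ 0 := by rwa [QuadraticMap.polar_comm]
    have h1 := hsing s hsT _ ((D l).sub_mem hx ((D l).smul_mem (Q x / 𝔅 x s) hs)) (quad_sub_smul hsq hxs) (by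
      rw [QuadraticMap.polar_sub_left, QuadraticMap.polar_smul_left, polar_self', hsq, mul_zero, smul_zero,
        sub_zero]
      exact hxs)
    exact (T.sub_mem_iff_left (T.smul_mem _ hsT)).1 h1
  obtain ⟨f, hf, hsf⟩ := (h.nd l).exists_polar_one hs hs0
  intro x hx
  by_cases hsx : 𝔅 s x = 0
  · have h1 := hoff (x + f) ((D l).add_mem hx hf)
      (by rw [QuadraticMap.polar_add_right, hsx, hsf, zero_add]; exact one_ne_zero)
    exact (T.add_mem_iff_left (hoff f hf (by rw [hsf]; exact one_ne_zero))).1 h1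
  · exact hoff x hx hsx

/-- The Eichler elements between two members lie in `M`. -/
def Cross (M : Subgroup (Isom Q)) (D : Fin t → Submodule F (ι → F)) (i j : Fin t) : Prop :=
  ∀ (r : ι → F) (hr : Q r = 0), r ∈ D i → D j ≤ rootSpace M hr

theorem Cross.symm (h : DSys Q k D) (hn : 5 ≤ Fintype.card ι) (hk : 3 ≤ k) (hM : ContainsFix M D)
    {i j : Fin t} (hij : i ≠ j) (hc : Cross M D i j) : Cross M D j i := by
  intro r' hr' hr'j
  obtain ⟨s, hs, hs0, hsq⟩ := exists_singular h.nondeg (D i) (by rw [h.dim]; exact hk)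
  refine le_rootSpace h hn hk hM (h.mem_qperp hij hr'j) (rootSpace_swap hr' (hc s hsq hs hr'j)) fun hm => hs0 ?_
  exact h.nd i s hs fun x hx => hm x hx

theorem cross_of_mixed (h : DSys Q k D) (hn : 5 ≤ Fintype.card ι) (hk : 3 ≤ k) (hM : ContainsFix M D)
    {i : Fin t} {r v : ι → F} {hr : Q r = 0} (hri : r ∈ D i) (hr0 : r ≠ 0) (hv : v ∈ rootSpace M hr)
    (hvi : v ∉ D i) : ∃ j, i ≠ j ∧ Cross M D i j := by
  obtain ⟨j, hji, hvj⟩ : ∃ j, j ≠ i ∧ v ∉ qperp Q (D j) := by
    by_contra! hall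
    exact hvi (h.mem_of_perp hall)
  refine ⟨j, hji.symm, fun r' hr' hr'i => ?_⟩
  have hjr := le_rootSpace h hn hk hM (h.mem_qperp hji hri) hv hvj
  obtain ⟨s, hs, hs0, hsq⟩ := exists_singular h.nondeg (D j) (by rw [h.dim]; exact hk)
  have hsi := le_rootSpace h hn hk hM (u := s) (hu := hsq) (h.mem_qperp hji.symm hs)
    (rootSpace_swap hsq (hjr hs)) (fun hm => hr0 (h.nd i r hri fun x hx => hm x hx))
  refine le_rootSpace h hn hk hM (h.mem_qperp hji hr'i) (rootSpace_swap hr' (hsi hr'i)) fun hm => hs0 ?_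
  exact h.nd j s hs fun x hx => hm x hx

theorem Cross.map {g : Isom Q} (hg : g ∈ M) {i j i' j' : Fin t} (hi : gmap g (D i) = D i')
    (hj : gmap g (D j) = D j') (hc : Cross M D i j) : Cross M D i' j' := by
  intro r hr hri
  rw [← hi] at hri
  obtain ⟨r₀, hr₀, rfl⟩ := hri
  have hr₀q : Q r₀ = 0 := by rwa [mulVecLin_apply, quad_mulVec] at hr
  intro x hx
  rw [← hj] at hx
  obtain ⟨x₀, hx₀, rfl⟩ := hx
  exact rootSpace_map hg (hc r₀ hr₀q hr₀ hx₀) _

/-- One mixed root group gives `Ω`. -/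
theorem omega_le_of_mixed (h : DSys Q k D) (hn : 5 ≤ Fintype.card ι) (hk : 3 ≤ k) (hM : ContainsFix M D)
    {i : Fin t} {r v : ι → F} {hr : Q r = 0} (hri : r ∈ D i) (hr0 : r ≠ 0) (hv : v ∈ rootSpace M hr)
    (hvi : v ∉ D i) : Cfsg.Omega F ⇑Q ≤ M := by
  obtain ⟨j, hij, hc⟩ := cross_of_mixed h hn hk hM hri hr0 hv hvi
  have step : ∀ {a b : Fin t}, a ≠ b → Cross M D a b → ∀ c, c ≠ a → c ≠ b → Cross M D b c := by
    intro a b hab hcr c hca hcb
    -- the cycle `a → b → c`
    obtain ⟨g, hg, hgS, hac, hcb', -, -⟩ := h.exists_cycle (by omega) (i := a) (j := c) (l := b) hca.symm hcb hab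
    have hm : ∀ {p q : Fin t}, (∀ x ∈ D p, mat Q g *ᵥ x ∈ D q) → gmap g (D p) = D q := fun {p q} hpq =>
      Submodule.eq_of_le_of_finrank_eq (by rintro _ ⟨x, hx, rfl⟩; exact hpq x hx)
        (by rw [finrank_gmap, h.dim, h.dim])
    exact hcr.map (hM g hg hgS) (hm hac) (hm hcb')
  have hall : ∀ a, a ≠ i → Cross M D i a := by
    intro a hai
    rcases eq_or_ne a j with rfl | haj
    · exact hc
    exact step hij.symm (hc.symm h hn hk hM hij) a haj hai
  have hfull : ∀ x, ∀ hx : Q x = 0, x ∈ D i → Full M x := by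
    intro x hx hxi w hxw
    obtain ⟨c, hc', rfl⟩ := h.exists_comp w
    have : ∑ a, c a ∈ rootSpace M hx := by
      refine Submodule.sum_mem _ fun a _ => ?_
      rcases eq_or_ne a i with rfl | hai
      · exact rootMem_internal h hn (by omega) hM hxi (hc' a) hx (by rwa [h.polar_comp hc' hxi] at hxw)
      · exact hall a hai x hx hxi (hc' a)
    simpa using this.2 1
  obtain ⟨f, hf, hfq, hrf⟩ := exists_partner_in hri hr (by
    obtain ⟨f, hf, hrf⟩ := (h.nd i).exists_polar_one hri hr0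
    exact ⟨f, hf, by rw [hrf]; exact one_ne_zero⟩)
  exact omega_le_of_full_pair h.nondeg hn hr hfq (by rw [hrf]; exact one_ne_zero) (hfull r hr hri) (hfull f hfq hf)

end CfsgLib.OrthMax
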