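import Cfsg.Agent.OrthMax.Nondegenerate

/-!
# Stabilisers contained in larger stabilisers

Totally singular subspaces one short of half, pairs of complementary maximal totally singular subspaces of
odd dimension, and hyperbolic planes over at most three elements.
-/

set_option autoImplicit false
set_option linter.unusedSectionVars false

namespace CfsgLib.OrthMax

open Matrix Module CfsgLib.Spinor CfsgLib.Forms Cfsg.Geo CfsgLib.OmegaOrbits

variable {F : Type*} [Field F] {ι : Type} [Fintype ι] [DecidableEq ι] {Q : QuadraticForm F (ι → F)}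
variable [Fintype F]

set_option quotPrecheck false in
local notation "𝔅" => QuadraticMap.polar (⇑Q)

theorem qperp_sup (A B : Submodule F (ι → F)) : qperp Q (A ⊔ B) = qperp Q A ⊓ qperp Q B := by
  ext x
  simp only [Submodule.mem_inf, mem_qperp]
  refine ⟨fun h => ⟨fun w hw => h w (Submodule.mem_sup_left hw), fun w hw => h w (Submodule.mem_sup_right hw)⟩,
    fun h w hw => ?_⟩
  obtain ⟨a, ha, b, hb, rfl⟩ := Submodule.mem_sup.1 hw
  rw [QuadraticMap.polar_add_left, h.1 a ha, h.2 b hb, add_zero]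

theorem qperp_lag (hQ : (QuadraticMap.polarBilin Q).Nondegenerate) {T : Submodule F (ι → F)}
    (hT : ∀ x ∈ T, Q x = 0) (hTd : 2 * finrank F T = Fintype.card ι) : qperp Q T = T :=
  (Submodule.eq_of_le_of_finrank_le (fun x hx => mem_qperp.2 fun _ hw => polar_eq_zero hT hw hx)
    (by rw [finrank_qperp hQ]; omega)).symm

/-- An element of `Ω` keeps the parity class of a half-dimensional totally singular subspace. -/
theorem even_finrank_inf_of_omega (hQ : (QuadraticMap.polarBilin Q).Nondegenerate) (hn : 5 ≤ Fintype.card ι)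
    {T : Submodule F (ι → F)} (hT : ∀ x ∈ T, Q x = 0) (hTd : 2 * finrank F T = Fintype.card ι)
    {g : Isom Q} (hg : g ∈ Cfsg.Omega F ⇑Q) :
    Even (finrank F (T ⊓ gmap g T : Submodule F (ι → F)) + finrank F T) := by
  obtain ⟨vs, hvs⟩ := exists_isReflProd_finite hQ (Or.inr (show Fintype.card ι ≠ 4 by omega)) g
  have he := ((mem_omega_iff_even hQ (Or.inr (by omega)) hvs).1 hg).1
  have h := even_finrank_inf_gmap hQ hTd.symm rfl hT rfl hT vs g hvs
  rw [inf_idem] at h
  obtain ⟨a, ha⟩ := h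
  obtain ⟨b, hb⟩ := he
  exact ⟨a - b, by omega⟩

theorem not_maximal_singular_submax (hQ : (QuadraticMap.polarBilin Q).Nondegenerate) (hn : 5 ≤ Fintype.card ι)
    {T W : Submodule F (ι → F)} (hT : ∀ x ∈ T, Q x = 0) (hTd : 2 * finrank F T = Fintype.card ι)
    (hW : ∀ x ∈ W, Q x = 0) (hWd : finrank F W + 1 = finrank F T) :
    ∃ K : Subgroup (Matrix.GeneralLinearGroup ι F),
      subspaceStabilizer W ⊓ omegaGL ⇑Q < K ∧ K < omegaGL ⇑Q := by
  set X := W ⊔ (T ⊓ qperp Q W) with hXdef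
  have hX : ∀ x ∈ X, Q x = 0 := by
    intro x hx
    obtain ⟨a, ha, b, hb, rfl⟩ := Submodule.mem_sup.1 hx
    rw [QuadraticMap.map_add (⇑Q), hW a ha, hT b hb.1, mem_qperp.1 hb.2 a ha, add_zero, add_zero]
  have hXd : finrank F X = finrank F T := by
    have h1 := Submodule.finrank_sup_add_finrank_inf_eq W (T ⊓ qperp Q W)
    have h2 := Submodule.finrank_sup_add_finrank_inf_eq T W
    have h3 : finrank F (T ⊓ qperp Q W : Submodule F (ι → F)) =
        Fintype.card ι - finrank F (T ⊔ W : Submodule F (ι → F)) := by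
      rw [← finrank_qperp hQ, qperp_sup, qperp_lag hQ hT hTd]
    have h4 : W ⊓ (T ⊓ qperp Q W) = T ⊓ W := by
      rw [← inf_assoc, inf_comm W T]
      exact inf_eq_left.2 fun x hx => mem_qperp.2 fun w hw => polar_eq_zero hW hw hx.2
    rw [h4] at h1
    have h5 := Submodule.finrank_le (T ⊔ W)
    rw [Module.finrank_pi] at h5
    rw [hXdef]
    omega
  refine not_maximal_omega (T := subspaceStabilizer X) ?_ ?_ ?_
  · rintro _ ⟨hs, g, hg, rfl⟩
    have hgW : gmap g W = W := gmap_eq_of_le g fun u hu => (MaxSub.mem_subspaceStabilizer_iff.1 hs u).1 hu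
    suffices h : gmap g X = X from mem_stab_of_le fun x hx => by
      rw [← h]; exact Submodule.mem_map_of_mem (f := mulVecLin (mat Q g)) hx
    have hpar := even_finrank_inf_of_omega hQ hn hX (by omega) hg
    have hWle : W ≤ X ⊓ gmap g X := le_inf le_sup_left (hgW.ge.trans (Submodule.map_mono le_sup_left))
    have h1 := Submodule.finrank_mono hWle
    have h2 := Submodule.finrank_mono (inf_le_left : X ⊓ gmap g X ≤ X)
    have h3 : finrank F (X ⊓ gmap g X : Submodule F (ι → F)) ≠ finrank F W := fun h => by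
      rw [h] at hpar
      obtain ⟨r, hr⟩ := hpar
      omega
    refine (Submodule.eq_of_le_of_finrank_le (inf_eq_left.1 (Submodule.eq_of_le_of_finrank_le inf_le_left
      (by omega))) (by rw [finrank_gmap])).symm
  · obtain ⟨x, hx, hxW⟩ := SetLike.exists_of_lt (lt_of_le_of_ne (le_sup_left : W ≤ X) fun h => by
      rw [hXdef, ← h] at hXd; omega)
    obtain ⟨w, hw, hw0⟩ := Submodule.exists_mem_ne_zero_of_ne_bot (p := W) fun h => by
      rw [h, finrank_bot] at hWd; omega
    obtain ⟨y, hyx, hyw⟩ := AschbacherQuad.exists_pairing_pair (isNondeg hQ) (u := x) (w := w)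
      (fun h => hxW (h ▸ W.zero_mem)) (fun c hc => hxW ((W.smul_mem_iff (by
        rintro rfl; exact hw0 (by rw [← hc, zero_smul]))).1 (hc ▸ hw))) 0 1
    have hxy : 𝔅 x y = 0 := by rw [QuadraticMap.polar_comm, hyx]
    refine ⟨eichIso Q x y (hX x hx) hxy, eich_mem_omega hQ hn (hX x hx) hxy,
      mem_stab_of_le fun z hz => ?_, fun hs => hxW ?_⟩
    · rw [mat_eichIso, eich_mulVec, polar_eq_zero hX hx hz]
      simpa [sub_eq_add_neg] using X.sub_mem hz (X.smul_mem (𝔅 y z) hx)
    · have h := (MaxSub.mem_subspaceStabilizer_iff.1 hs w).1 hw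
      change mat Q (eichIso Q x y (hX x hx) hxy) *ᵥ w ∈ W at h
      rw [mat_eichIso, eich_mulVec, hyw, polar_eq_zero hX hx (le_sup_left (a := W) hw)] at h
      simp only [zero_smul, one_smul, mul_zero, sub_zero, zero_sub, W.add_mem_iff_right hw,
        neg_mem_iff] at h
      exact h
  · exact exists_move_singular hQ hn (fun h => by rw [h, finrank_bot] at hXd; omega) hX

/-- An element of `Ω` fixing the first member of a singular pair and moving the second. -/
theorem exists_fix_move_pair (hQ : (QuadraticMap.polarBilin Q).Nondegenerate) (hn : 5 ≤ Fintype.card ι)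
    {D : Fin 2 → Submodule F (ι → F)} (hts : ∀ i, ∀ x ∈ D i, Q x = 0) (hdisj : D 0 ⊓ D 1 = ⊥)
    (hd : ∀ i, 2 * finrank F (D i) = Fintype.card ι) (hd0 : 1 < finrank F (D 0)) :
    ∃ g ∈ Cfsg.Omega F ⇑Q, (g : GL ι F) ∈ subspaceStabilizer (D 0) ∧
      (g : GL ι F) ∉ decompositionStabilizer D := by
  obtain ⟨x, hx, hx0⟩ := Submodule.exists_mem_ne_zero_of_ne_bot (p := D 0) fun h => by
    rw [h, finrank_bot] at hd0; omega
  obtain ⟨x', hx', hx'n⟩ : ∃ x' ∈ D 0, x' ∉ Submodule.span F {x} := by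
    by_contra! h
    have h1 := Submodule.finrank_mono h
    rw [finrank_span_singleton hx0] at h1
    have := hd 0
    omega
  have hxx' := polar_eq_zero (hts 0) hx hx'
  obtain ⟨y, hy, hyx'⟩ : ∃ y ∈ D 1, 𝔅 x' y ≠ 0 := by
    by_contra! h
    refine hx'n ((Submodule.eq_bot_iff _).1 hdisj x' ⟨hx', ?_⟩ ▸ Submodule.zero_mem _)
    rw [← qperp_lag hQ (hts 1) (hd 1), SetLike.mem_coe, mem_qperp]
    exact fun w hw => by rw [QuadraticMap.polar_comm]; exact h w hw
  refine ⟨eichIso Q x x' (hts 0 x hx) hxx', eich_mem_omega hQ hn (hts 0 x hx) hxx',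
    mem_stab_of_le fun z hz => ?_, fun ⟨σ, hσ⟩ => ?_⟩
  · rw [mat_eichIso, eich_mulVec, polar_eq_zero (hts 0) hx hz, polar_eq_zero (hts 0) hx' hz]
    simpa using hz
  · have h : mat Q (eichIso Q x x' (hts 0 x hx) hxx') *ᵥ y ∈ D (σ 1) := by
      rw [← hσ 1]; exact Submodule.mem_map_of_mem hy
    rw [mat_eichIso, eich_mulVec] at h
    set d := 𝔅 x y • x' - 𝔅 x' y • x - (Q x' * 𝔅 x y) • x with hdd
    have hd0 : d ∈ D 0 := (D 0).sub_mem ((D 0).sub_mem ((D 0).smul_mem _ hx') ((D 0).smul_mem _ hx))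
      ((D 0).smul_mem _ hx)
    have hdne : d ≠ 0 := by
      intro h0
      rw [hdd, hts 0 x' hx', zero_mul, zero_smul, sub_zero, sub_eq_zero] at h0
      rcases eq_or_ne (𝔅 x y) 0 with hxy | hxy
      · rw [hxy, zero_smul] at h0
        exact smul_ne_zero hyx' hx0 h0.symm
      · exact hx'n (Submodule.mem_span_singleton.2 ⟨(𝔅 x y)⁻¹ * 𝔅 x' y, by
          rw [← smul_smul, ← h0, inv_smul_smul₀ hxy]⟩)
    rcases Fin.exists_fin_two.1 ⟨σ 1, rfl⟩ with h1 | h1 <;> rw [h1] at h
    · have hy0 : y = 0 := (Submodule.eq_bot_iff _).1 hdisj y ⟨((D 0).add_mem_iff_left hd0).1 h, hy⟩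
      exact hyx' (by rw [hy0, QuadraticMap.polar_zero_right])
    · exact hdne ((Submodule.eq_bot_iff _).1 hdisj d ⟨hd0, ((D 1).add_mem_iff_right hy).1 h⟩)

theorem exists_move_pair (hQ : (QuadraticMap.polarBilin Q).Nondegenerate) (hn : 5 ≤ Fintype.card ι)
    {D : Fin 2 → Submodule F (ι → F)} (hts : ∀ i, ∀ x ∈ D i, Q x = 0) (hdisj : D 0 ⊓ D 1 = ⊥)
    (hd : ∀ i, 2 * finrank F (D i) = Fintype.card ι) (hd0 : 1 < finrank F (D 0)) :
    ∃ g ∈ Cfsg.Omega F ⇑Q, (g : GL ι F) ∉ decompositionStabilizer D := by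
  obtain ⟨g, hg, -, h⟩ := exists_fix_move_pair hQ hn hts hdisj hd hd0
  exact ⟨g, hg, h⟩

theorem not_maximal_singular_pair (hQ : (QuadraticMap.polarBilin Q).Nondegenerate) (hn : 5 ≤ Fintype.card ι)
    {D : Fin 2 → Submodule F (ι → F)} (hts : ∀ i, ∀ x ∈ D i, Q x = 0) (hdisj : D 0 ⊓ D 1 = ⊥)
    (hd : ∀ i, 2 * finrank F (D i) = Fintype.card ι) (hodd : Odd (finrank F (D 0))) :
    ∃ K : Subgroup (Matrix.GeneralLinearGroup ι F),
      decompositionStabilizer D ⊓ omegaGL ⇑Q < K ∧ K < omegaGL ⇑Q := by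
  refine not_maximal_omega (T := subspaceStabilizer (D 0)) ?_ ?_ ?_
  · rintro _ ⟨⟨σ, hσ⟩, g, hg, rfl⟩
    have h0 : gmap g (D 0) = D (σ 0) := hσ 0
    have hσ0 : σ 0 = 0 := by
      by_contra hne
      rw [Fin.eq_one_of_ne_zero _ hne] at h0
      have hpar := even_finrank_inf_of_omega hQ hn (hts 0) (hd 0) hg
      rw [h0, hdisj, finrank_bot, zero_add] at hpar
      exact Nat.not_even_iff_odd.2 hodd hpar
    rw [hσ0] at h0
    exact mem_stab_of_le fun x hx => h0 ▸ Submodule.mem_map_of_mem (f := mulVecLin (mat Q g)) hx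
  · exact exists_fix_move_pair hQ hn hts hdisj hd (by have := hd 0; omega)
  · exact exists_move_singular hQ hn (fun h => by rw [h, finrank_bot] at hodd; simp at hodd) (hts 0)

theorem not_maximal_plus_plane (hQ : (QuadraticMap.polarBilin Q).Nondegenerate) (hn : 5 ≤ Fintype.card ι)
    (hq : Fintype.card F ≤ 3) {W : Submodule F (ι → F)} (hW : Nd Q W) (hdim : finrank F W = 2)
    {s : ι → F} (hs : s ∈ W) (hs0 : s ≠ 0) (hsq : Q s = 0) :
    ∃ K : Subgroup (Matrix.GeneralLinearGroup ι F),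
      subspaceStabilizer W ⊓ omegaGL ⇑Q < K ∧ K < omegaGL ⇑Q := by
  obtain ⟨f, hf, hfq, hsf⟩ := exists_partner_in hs hsq (by
    obtain ⟨w, hw, hsw⟩ := hW.exists_polar_one hs hs0
    exact ⟨w, hw, by rw [hsw]; exact one_ne_zero⟩)
  have hfs : 𝔅 f s = 1 := by rw [QuadraticMap.polar_comm, hsf]
  have hss : 𝔅 s s = 0 := by rw [polar_self', hsq, mul_zero]
  have hff : 𝔅 f f = 0 := by rw [polar_self', hfq, mul_zero]
  have hspan : ∀ z ∈ W, ∃ x y : F, z = x • s + y • f := by
    let φ := ((QuadraticMap.polarBilin Q f).prod (QuadraticMap.polarBilin Q s)).comp W.subtype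
    have hsurj : Function.Surjective φ := fun ⟨a, b⟩ =>
      ⟨⟨a • s + b • f, W.add_mem (W.smul_mem _ hs) (W.smul_mem _ hf)⟩, by
        simp [φ, QuadraticMap.polar_add_right, QuadraticMap.polar_smul_right, hsf, hfs, hss, hff]⟩
    have hinj : Function.Injective φ :=
      (LinearMap.injective_iff_surjective_of_finrank_eq_finrank (by simp [hdim])).2 hsurj
    refine fun z hz => ⟨𝔅 f z, 𝔅 s z, ?_⟩
    exact congrArg Subtype.val (hinj (a₁ := ⟨z, hz⟩)
      (a₂ := ⟨𝔅 f z • s + 𝔅 s z • f, W.add_mem (W.smul_mem _ hs) (W.smul_mem _ hf)⟩) (by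
        simp [φ, QuadraticMap.polar_add_right, QuadraticMap.polar_smul_right, hsf, hfs, hss, hff]))
  have hsqone : ∀ x : F, x ≠ 0 → x * x = 1 := fun x hx => by
    have h := FiniteField.pow_card_sub_one_eq_one x hx
    have := Fintype.one_lt_card (α := F)
    rcases (by omega : Fintype.card F - 1 = 1 ∨ Fintype.card F - 1 = 2) with h' | h' <;> rw [h'] at h
    · rw [pow_one] at h; rw [h, one_mul]
    · rw [← sq]; exact h
  obtain ⟨p, hp, hp0, hpq⟩ := exists_singular hQ (qperp Q W) (by rw [finrank_qperp hQ]; omega)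
  have hpW : ∀ x ∈ W, 𝔅 p x = 0 := fun x hx => by rw [QuadraticMap.polar_comm]; exact mem_qperp.1 hp x hx
  have hnW : p ∉ W := fun h => hp0 ((Submodule.eq_bot_iff _).1 hW.inf_qperp p ⟨h, hp⟩)
  have ha : s + f ∈ W := W.add_mem hs hf
  refine not_maximal_omega (T := subspaceStabilizer (Submodule.span F {s + f})) ?_ ?_ ?_
  · rintro _ ⟨hg, g, -, rfl⟩
    obtain ⟨x, y, hxy⟩ := hspan _ ((MaxSub.mem_subspaceStabilizer_iff.1 hg (s + f)).1 ha)
    change mat Q g *ᵥ (s + f) = x • s + y • f at hxy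
    have hxy1 : x * y = 1 := by
      have := quad_mulVec Q g (s + f)
      rw [hxy, QuadraticMap.map_add (⇑Q), QuadraticMap.map_add (⇑Q), QuadraticMap.map_smul,
        QuadraticMap.map_smul, hsq, hfq, QuadraticMap.polar_smul_left, QuadraticMap.polar_smul_right,
        hsf] at this
      simpa using this
    have hyx : y = x := by
      have hx0 := left_ne_zero_of_mul_eq_one hxy1
      linear_combination x * hxy1 - y * hsqone x hx0
    refine mem_stab_of_le fun z hz => ?_
    obtain ⟨c, rfl⟩ := Submodule.mem_span_singleton.1 hz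
    rw [mulVec_smul, hxy, hyx, ← smul_add]
    exact Submodule.smul_mem _ _ (Submodule.smul_mem _ _ (Submodule.mem_span_singleton_self _))
  · have hpb : 𝔅 p (s - f) = 0 := hpW _ (W.sub_mem hs hf)
    refine ⟨eichIso Q p (s - f) hpq hpb, eich_mem_omega hQ hn hpq hpb, mem_stab_of_le fun z hz => ?_,
      fun hg => hnW ?_⟩
    · obtain ⟨c, rfl⟩ := Submodule.mem_span_singleton.1 hz
      rw [mulVec_smul, mat_eichIso, eich_mulVec, hpW _ ha,
        show 𝔅 (s - f) (s + f) = 0 by
          simp [QuadraticMap.polar_sub_left, QuadraticMap.polar_add_right, hsf, hfs, hss, hff]]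
      simpa using Submodule.smul_mem _ c (Submodule.mem_span_singleton_self (R := F) (s + f))
    · have h := (MaxSub.mem_subspaceStabilizer_iff.1 hg s).1 hs
      change mat Q (eichIso Q p (s - f) hpq hpb) *ᵥ s ∈ W at h
      rw [mat_eichIso, eich_mulVec, hpW s hs, QuadraticMap.polar_sub_left, hss, hfs] at h
      simpa [W.add_mem_iff_right hs] using h
  · have hps : 𝔅 p s = 0 := hpW s hs
    refine ⟨eichIso Q p s hpq hps, eich_mem_omega hQ hn hpq hps, fun hg => hnW ?_⟩
    have h := (MaxSub.mem_subspaceStabilizer_iff.1 hg (s + f)).1 (Submodule.mem_span_singleton_self _)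
    change mat Q (eichIso Q p s hpq hps) *ᵥ (s + f) ∈ _ at h
    rw [mat_eichIso, eich_mulVec, hpW _ ha, QuadraticMap.polar_add_right, hss, hsf] at h
    have h' : -p ∈ Submodule.span F {s + f} := by
      simpa [(Submodule.span F {s + f}).add_mem_iff_right (Submodule.mem_span_singleton_self _)] using h
    exact (neg_mem_iff.1 ((Submodule.span_singleton_le_iff_mem _ _).2 ha h'))

end CfsgLib.OrthMax
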