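import Cfsg.Agent.OrthMax.DecompSearch
import Cfsg.Agent.OrthMax.NotMaximal

/-!
# Maximality of stabilisers of orthogonal decompositions into members of dimension at least three
-/

set_option autoImplicit false
set_option linter.unusedSectionVars false

namespace CfsgLib.OrthMax

open Matrix Module CfsgLib.Spinor CfsgLib.Forms CfsgLib.Forms4 Cfsg.Geo CfsgLib.OmegaOrbits

variable {F : Type*} [Field F] {ι : Type} [Fintype ι] [DecidableEq ι] {Q : QuadraticForm F (ι → F)}
variable [Fintype F] {t k : ℕ} {D : Fin t → Submodule F (ι → F)} {M : Subgroup (Isom Q)}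

set_option quotPrecheck false in
local notation "𝔅" => QuadraticMap.polar (⇑Q)

/-- In the field of two elements every nonzero element is one. -/
theorem eq_one_of_two (hq : Fintype.card F = 2) {x : F} (hx : x ≠ 0) : x = 1 := by
  classical
  by_contra h1
  have : ({0, 1, x} : Finset F).card = 3 :=
    Finset.card_eq_three.2 ⟨0, 1, x, zero_ne_one, Ne.symm hx, Ne.symm h1, rfl⟩
  have := (Finset.card_le_univ ({0, 1, x} : Finset F))
  omega

theorem two_eq_zero_of_card (hq : Fintype.card F = 2) : (2 : F) = 0 := by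
  by_contra h2
  exact one_ne_zero (show (1 : F) = 0 by linear_combination eq_one_of_two hq h2)

/-- No totally singular line in a member of dimension four over two elements. -/
def NoLine (Q : QuadraticForm F (ι → F)) (k : ℕ) (D : Fin t → Submodule F (ι → F)) : Prop :=
  k = 4 → Fintype.card F = 2 → ∀ i, ∀ x ∈ D i, ∀ y ∈ D i, Q x = 0 → Q y = 0 →
    QuadraticMap.polar (⇑Q) x y = 0 → x ≠ 0 → y ∈ Submodule.span F {x}

section Setting

variable (h : DSys Q k D) (hn : 5 ≤ Fintype.card ι) (hk : 3 ≤ k) (hM : ContainsFix M D)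
  (hodd : Odd k → (2 : F) ≠ 0) (h3 : k = 3 → 3 < Fintype.card F) (hline : NoLine Q k D)
include h hn hk hM hodd h3 hline

/-- A perpendicular vector of a member of value different from zero, outside a given small subspace. -/
theorem exists_nonsingular_out {i : Fin t} {r : ι → F} (hr : r ∈ D i) (hr0 : r ≠ 0) (hrq : Q r = 0)
    (X : Submodule F (ι → F)) (hX : finrank F X ≤ 2) (hrX : r ∈ X)
    (hXodd : (2 : F) ≠ 0 → ∀ y ∈ D i, 𝔅 r y = 0 → y ∈ X → Q y = 0) :
    ∃ y ∈ D i, 𝔅 r y = 0 ∧ Q y ≠ 0 ∧ y ∉ X := by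
  obtain ⟨b, hb, b', hb', hrb, hrb', hbb⟩ := exists_pair_perp (h.nd i) (by rw [h.dim]; exact hk) hr hr0
  by_cases h2 : (2 : F) = 0
  swap
  · obtain ⟨y, hy, hry, hyq⟩ : ∃ y ∈ D i, 𝔅 r y = 0 ∧ Q y ≠ 0 := by
      by_contra! hall
      have e := hall _ ((D i).add_mem hb hb') (by rw [QuadraticMap.polar_add_right, hrb, hrb', add_zero])
      rw [QuadraticMap.map_add (⇑Q), hall b hb hrb, hall b' hb' hrb', zero_add, zero_add] at e
      exact hbb e
    exact ⟨y, hy, hry, hyq, fun hm => hyq (hXodd h2 y hy hry hm)⟩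
  have hk4 : 4 ≤ k := by
    rcases Nat.even_or_odd k with ⟨m, rfl⟩ | ho
    · omega
    · exact absurd h2 (hodd ho)
  by_contra! hall
  have hsing : ∀ y ∈ D i, 𝔅 r y = 0 → y ∉ X → Q y = 0 := fun y hy hry hyX => by_contra fun hq => hyX (hall y hy hry hq)
  set W1 := D i ⊓ qperp Q (Submodule.span F {r}) with hW1
  have hW1d : 3 ≤ finrank F W1 := by
    have := finrank_le_inf_qperp_add_one h.nondeg (D i) r
    rw [h.dim, ← hW1] at this
    omega
  obtain ⟨x, hx, hxX⟩ := SetLike.not_le_iff_exists.1 (fun hle : W1 ≤ X => by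
    have := Submodule.finrank_mono hle
    omega)
  have hrx : 𝔅 r x = 0 := mem_qperp_singleton.1 hx.2
  have hxq := hsing x hx.1 hrx hxX
  obtain ⟨y, hy, hry, hxy⟩ : ∃ y ∈ D i, 𝔅 r y = 0 ∧ 𝔅 x y ≠ 0 := by
    by_contra! hall'
    refine hxX ((Submodule.span_singleton_le_iff_mem r X).2 hrX ((h.nd i).mem_span_of_perp hr hx.1
      fun z hz hrz => ?_))
    rw [QuadraticMap.polar_comm]
    exact hall' z hz hrz
  set y' := (𝔅 x y)⁻¹ • y with hy'
  have hy'D : y' ∈ D i := (D i).smul_mem _ hy
  have hry' : 𝔅 r y' = 0 := by rw [hy', QuadraticMap.polar_smul_right, hry, smul_zero]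
  have hxy' : 𝔅 x y' = 1 := by rw [hy', QuadraticMap.polar_smul_right, smul_eq_mul, inv_mul_cancel₀ hxy]
  have hl : ∀ lam : F, Q (x + lam • y') = lam * lam * Q y' + lam := fun lam => by
    rw [QuadraticMap.map_add (⇑Q), QuadraticMap.map_smul, QuadraticMap.polar_smul_right, hxy', hxq, smul_eq_mul,
      smul_eq_mul, mul_one, zero_add]
  have hout : ∀ lam : F, x + lam • y' ∉ X → lam * lam * Q y' + lam = 0 := fun lam hm => by
    rw [← hl]
    exact hsing _ ((D i).add_mem hx.1 ((D i).smul_mem _ hy'D))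
      (by rw [QuadraticMap.polar_add_right, QuadraticMap.polar_smul_right, hrx, hry', smul_zero, add_zero]) hm
  obtain ⟨e, he, heD, hre, hxe, heq, hq⟩ : ∃ e ∈ X, e ∈ D i ∧ 𝔅 r e = 0 ∧ 𝔅 x e = 1 ∧ Q e = 1 ∧ Fintype.card F = 2 := by
    have hcard : (∀ lam : F, lam ≠ 0 → lam = 1) → Fintype.card F = 2 := fun h1 => by
      classical
      have hsub : (Finset.univ : Finset F) ⊆ {0, 1} := fun c _ => by
        rcases eq_or_ne c 0 with h' | h'
        · simp [h']
        · simp [h1 c h']
      have h5 := (Finset.card_le_card hsub).trans Finset.card_le_two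
      rw [Finset.card_univ] at h5
      have h6 := Fintype.one_lt_card (α := F)
      omega
    by_cases hyX : y' ∈ X
    · have h0 : ∀ lam : F, lam ≠ 0 → lam * lam * Q y' + lam = 0 := fun lam _ =>
        hout lam fun hm => hxX ((X.add_mem_iff_left (X.smul_mem _ hyX)).1 hm)
      have e1 := h0 1 one_ne_zero
      have hy1 : Q y' = 1 := by linear_combination e1 - h2
      refine ⟨y', hyX, hy'D, hry', hxy', hy1, hcard fun lam hlam => ?_⟩
      have := h0 lam hlam
      rw [hy1] at this
      have h7 : lam + 1 = 0 := (mul_eq_zero.1 (show lam * (lam + 1) = 0 by linear_combination this)).resolve_left hlam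
      linear_combination h7 - h2
    · have hy0 : Q y' = 0 := hsing y' hy'D hry' hyX
      have hin : ∀ lam : F, lam ≠ 0 → x + lam • y' ∈ X := fun lam hlam => by_contra fun hm => hlam (by
        have := hout lam hm
        rwa [hy0, mul_zero, zero_add] at this)
      refine ⟨x + y', by simpa using hin 1 one_ne_zero, (D i).add_mem hx.1 hy'D, by rw [QuadraticMap.polar_add_right, hrx, hry', add_zero],
        by rw [QuadraticMap.polar_add_right, polar_self', hxy', hxq, mul_zero, zero_add],
        by have := hl 1; rwa [one_smul, hy0, mul_zero, zero_add] at this, hcard fun lam hlam => ?_⟩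
      by_contra hl1
      refine hyX ((X.smul_mem_iff (sub_ne_zero.2 hl1)).1 ?_)
      have := X.sub_mem (hin lam hlam) (hin 1 one_ne_zero)
      rwa [add_sub_add_left_eq_sub, ← sub_smul] at this
  by_cases h5 : k = 4
  · refine hxX ((Submodule.span_singleton_le_iff_mem r X).2 hrX (hline h5 hq i r hr x hx.1 hrq hxq hrx hr0))
  set S := Submodule.span F {r, x} ⊔ Submodule.span F {e} with hS
  have hle : finrank F S ≤ 3 := by
    have h1 := Submodule.finrank_sup_add_finrank_inf_eq (Submodule.span F {r, x}) (Submodule.span F {e})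
    have h3' : finrank F (Submodule.span F {e}) ≤ 1 := (finrank_span_le_card _).trans (by simp)
    have h4 := finrank_span_pair_le r x
    rw [← hS] at h1
    omega
  have hk6 : 6 ≤ k := by
    rcases Nat.even_or_odd k with ⟨m, rfl⟩ | ho
    · omega
    · exact absurd h2 (hodd ho)
  have hKd : 3 ≤ finrank F (D i ⊓ qperp Q S : Submodule F (ι → F)) := by
    have h1 := Submodule.finrank_sup_add_finrank_inf_eq (D i) (qperp Q S)
    have h2' := Submodule.finrank_le (D i ⊔ qperp Q S)
    have h4 := Submodule.finrank_le S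
    rw [finrank_qperp h.nondeg, h.dim] at h1
    rw [Module.finrank_pi] at h2' h4
    omega
  obtain ⟨z, hz, hzX⟩ := SetLike.not_le_iff_exists.1 (fun hle' : D i ⊓ qperp Q S ≤ X => by
    have := Submodule.finrank_mono hle'
    omega)
  obtain ⟨hzD, hzS⟩ := hz
  rw [hS, qperp_sup] at hzS
  obtain ⟨hz1, hz2⟩ := hzS
  obtain ⟨hrz, -⟩ := mem_qperp_span_pair.1 hz1
  have hze : 𝔅 e z = 0 := mem_qperp_singleton.1 hz2
  have hzq := hsing z hzD hrz hzX
  have := hsing (e + z) ((D i).add_mem heD hzD) (by rw [QuadraticMap.polar_add_right, hre, hrz, add_zero])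
    (fun hm => hzX ((X.add_mem_iff_right he).1 hm))
  rw [QuadraticMap.map_add (⇑Q), heq, hzq, hze, add_zero, add_zero] at this
  exact one_ne_zero this

/-- A component of the point and a vector of the root space that is not a multiple of it there. -/
theorem omega_le_of_not_multiple {l : Fin t} {p o a o' : ι → F} {hu : Q (p + o) = 0} (hp : p ∈ D l)
    (ho : o ∈ qperp Q (D l)) (hul : p + o ∉ D l) (ha : a ∈ D l) (ho' : o' ∈ qperp Q (D l))
    (hv : a + o' ∈ rootSpace M hu) (hap : a ∉ Submodule.span F {p}) (hq : Q p ≠ 0 → Fintype.card F ≠ 2) :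
    Cfsg.Omega F ⇑Q ≤ M := by
  by_cases hpq : Q p = 0
  · exact omega_le_of_singular_part h hn hk hM hp ho hul ha ho' hv hap hpq
  by_cases h2 : (2 : F) = 0
  · refine omega_le_of_moved_two h hn hk hM h2 ?_ hp ho hul hpq ha ho' hv hap
    have := hq hpq
    have := Fintype.one_lt_card (α := F)
    omega
  · exact omega_le_of_moved_odd h hn hk hM h2 h3 hp ho hul hpq ha ho' hv hap

/-- The same for a pushed root. -/
theorem omega_le_of_push {l : Fin t} {p o o' : ι → F} {c : F} {hu : Q (p + o) = 0} (hp : p ∈ D l)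
    (ho : o ∈ qperp Q (D l)) (hp0 : p ≠ 0) (ho' : o' ∈ qperp Q (D l)) (hv : c • p + o' ∈ rootSpace M hu)
    (hvq : Q (c • p + o') ≠ 0) (hind : ∀ κ : F, o' ≠ κ • o) (hq : Fintype.card F = 2 → Q p = 1) :
    Cfsg.Omega F ⇑Q ≤ M := by
  obtain ⟨r, α, p', o'', b, hu', hr, hrq, hα, hα0, hp', hp'D, ho'', hul', hb, hbR, hbn⟩ :=
    exists_push h hn hk hM hp ho hp0 ho' hv hvq hind
  refine omega_le_of_not_multiple h hn hk hM hodd h3 hline hp'D ho'' hul' hb (Submodule.zero_mem _)
    (hu := hu') (by rwa [add_zero]) hbn fun hne hcard => hne ?_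
  have h2 := two_eq_zero_of_card hcard
  rw [hp', sub_eq_add_neg, QuadraticMap.map_add (⇑Q), QuadraticMap.map_neg, QuadraticMap.map_smul, hrq,
    QuadraticMap.polar_neg_right, QuadraticMap.polar_smul_right, QuadraticMap.polar_comm (⇑Q) r p, ← hα,
    hq hcard, eq_one_of_two hcard hα0, eq_one_of_two hcard hvq]
  simp

omit hodd h3 hline in
theorem exists_other_nonsingular {l : Fin t} {u : ι → F} {c : Fin t → ι → F} (hc : ∀ i, c i ∈ D i)
    (hsum : ∑ i, c i = u) (hu : Q u = 0) (hl : Q (c l) ≠ 0) : ∃ m, m ≠ l ∧ Q (c m) ≠ 0 := by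
  by_contra! hall
  rw [← hsum, h.quad_comp hc, Finset.sum_eq_single l (fun j _ hj => hall j hj)
    (fun hi => absurd (Finset.mem_univ l) hi)] at hu
  exact hl hu

/-- Two elements: the moved vector is nonsingular. -/
theorem omega_le_of_pi (hcard : Fintype.card F = 2) {l : Fin t} {p o a o' : ι → F} {hu : Q (p + o) = 0}
    (hp : p ∈ D l) (ho : o ∈ qperp Q (D l)) (hul : p + o ∉ D l) (hpq : Q p = 1) (ha : a ∈ D l)
    (ho' : o' ∈ qperp Q (D l)) (hv : a + o' ∈ rootSpace M hu) (hpa : 𝔅 p a = 1) (haq : Q a = 1) :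
    Cfsg.Omega F ⇑Q ≤ M := by
  have h2 := two_eq_zero_of_card hcard
  have hk4 : 4 ≤ k := by
    rcases Nat.even_or_odd k with ⟨m, rfl⟩ | ho
    · omega
    · exact absurd h2 (hodd ho)
  have hpp : 𝔅 p p = 0 := by rw [polar_self', h2, zero_mul]
  have haa : 𝔅 a a = 0 := by rw [polar_self', h2, zero_mul]
  set C := D l ⊓ qperp Q (Submodule.span F {p, a}) with hC
  have hCd : k ≤ finrank F C + 2 := by
    have h1 := Submodule.finrank_sup_add_finrank_inf_eq (D l) (qperp Q (Submodule.span F {p, a}))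
    have h2' := Submodule.finrank_le (D l ⊔ qperp Q (Submodule.span F {p, a}))
    have h4 := finrank_span_pair_le p a
    have h5 := Submodule.finrank_le (Submodule.span F {p, a})
    rw [finrank_qperp h.nondeg, h.dim, ← hC] at h1
    rw [Module.finrank_pi] at h2' h5
    omega
  obtain ⟨s, hs, hs0, hsq⟩ : ∃ s ∈ C, s ≠ 0 ∧ Q s = 0 := by
    by_cases hk5 : 5 ≤ k
    · exact exists_singular h.nondeg C (by omega)
    by_contra! hall
    obtain ⟨b, hb, hb0⟩ := Submodule.exists_mem_ne_zero_of_ne_bot (p := C) (fun e => by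
      rw [e, finrank_bot] at hCd
      omega)
    obtain ⟨hbD, hbp⟩ := hb
    obtain ⟨hpb, hab⟩ := mem_qperp_span_pair.1 hbp
    obtain ⟨y, hy, hby⟩ := (h.nd l).exists_polar_one hbD hb0
    set b' := y - 𝔅 a y • p - 𝔅 p y • a with hb'
    have hb'D : b' ∈ D l := (D l).sub_mem ((D l).sub_mem hy ((D l).smul_mem _ hp)) ((D l).smul_mem _ ha)
    have hpb' : 𝔅 p b' = 0 := by
      simp [hb', QuadraticMap.polar_sub_right, QuadraticMap.polar_smul_right, hpp, hpa]
    have hab' : 𝔅 a b' = 0 := by
      simp [hb', QuadraticMap.polar_sub_right, QuadraticMap.polar_smul_right, haa,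
        (QuadraticMap.polar_comm (⇑Q) a p).trans hpa]
    have hbb' : 𝔅 b b' = 1 := by
      simp [hb', QuadraticMap.polar_sub_right, QuadraticMap.polar_smul_right, hby,
        (QuadraticMap.polar_comm (⇑Q) b p).trans hpb, (QuadraticMap.polar_comm (⇑Q) b a).trans hab]
    have hb'0 : b' ≠ 0 := fun e => by simp [e] at hbb'
    have hbq : Q b = 1 := eq_one_of_two hcard (hall b ⟨hbD, hbp⟩ hb0)
    have hb'q : Q b' = 1 := eq_one_of_two hcard (hall b' ⟨hb'D, mem_qperp_span_pair.2 ⟨hpb', hab'⟩⟩ hb'0)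
    have hx0 : p + b ≠ 0 := fun e => by
      have := congrArg (fun x => 𝔅 x b') e
      simp [QuadraticMap.polar_add_left, hpb', hbb'] at this
    obtain ⟨e, he⟩ := Submodule.mem_span_singleton.1 (hline (by omega) hcard l (p + b) ((D l).add_mem hp hbD)
      (a + b') ((D l).add_mem ha hb'D)
      (by rw [QuadraticMap.map_add (⇑Q), hpq, hbq, hpb]; linear_combination h2)
      (by rw [QuadraticMap.map_add (⇑Q), haq, hb'q, hab']; linear_combination h2)
      (by
        simp only [QuadraticMap.polar_add_left, QuadraticMap.polar_add_right, hpa, hpb', hbb',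
          (QuadraticMap.polar_comm (⇑Q) b a).trans hab]
        linear_combination h2) hx0)
    have := congrArg (fun x => 𝔅 p x) he
    simp [QuadraticMap.polar_add_right, hpp, hpb, hpa, hpb'] at this
  obtain ⟨hsD, hsp⟩ := hs
  obtain ⟨hps, has⟩ := mem_qperp_span_pair.1 hsp
  have := eich_diff_mem h hn (by omega) hM hsD hp hsq (by rw [QuadraticMap.polar_comm, hps])
    (by rw [polar_add_perp hsD ho, QuadraticMap.polar_comm, hps]) (by rw [polar_add_perp hp ho, hpp]) hv
  rw [polar_add_perp hsD ho', polar_add_perp hp ho', QuadraticMap.polar_comm (⇑Q) s a, has, hpa, mul_zero, add_zero,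
    zero_smul, zero_sub, one_smul, neg_mem_iff] at this
  exact omega_le_of_mem h hn hk hM hul hsD hs0 hsq this

/-- An element moving the decomposition gives all of `Ω`. -/
theorem omega_le_of_not_stab {g : Isom Q} (hgM : g ∈ M) (hgS : (g : GL ι F) ∉ decompositionStabilizer D) :
    Cfsg.Omega F ⇑Q ≤ M := by
  obtain ⟨i, r, hr, hr0, hrq, hnot⟩ : ∃ i r, r ∈ D i ∧ r ≠ 0 ∧ Q r = 0 ∧
      ∀ l, ∃ y ∈ D i, 𝔅 r y = 0 ∧ mat Q g *ᵥ y ∉ D l := by
    by_contra! hall
    refine hgS (mem_decompositionStabilizer_of_maps (h.injective (by omega)) h.dim fun i => ?_)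
    obtain ⟨r, hr, hr0, hrq⟩ := exists_singular h.nondeg (D i) (by rw [h.dim]; exact hk)
    obtain ⟨f, hf, hfq, hrf⟩ := exists_partner_in hr hrq (by
      obtain ⟨x, hx, hrx⟩ := (h.nd i).exists_polar_one hr hr0
      exact ⟨x, hx, by rw [hrx]; exact one_ne_zero⟩)
    have hf0 : f ≠ 0 := fun e => by simp [e] at hrf
    obtain ⟨l, hl⟩ := hall i r hr hr0 hrq
    obtain ⟨l', hl'⟩ := hall i f hf hf0 hfq
    obtain ⟨z, hz, hz0⟩ := Submodule.exists_mem_ne_zero_of_ne_bot
      (p := D i ⊓ qperp Q (Submodule.span F {r, f})) (fun e => by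
        have h1 := Submodule.finrank_sup_add_finrank_inf_eq (D i) (qperp Q (Submodule.span F {r, f}))
        have h2 := Submodule.finrank_le (D i ⊔ qperp Q (Submodule.span F {r, f}))
        have h4 := finrank_span_pair_le r f
        have h5 := Submodule.finrank_le (Submodule.span F {r, f})
        rw [e, finrank_bot, finrank_qperp h.nondeg, h.dim] at h1
        rw [Module.finrank_pi] at h2 h5
        omega)
    obtain ⟨hzD, hzS⟩ := hz
    obtain ⟨hrz, hfz⟩ := mem_qperp_span_pair.1 hzS
    have hgz0 : mat Q g *ᵥ z ≠ 0 := fun e => hz0 (OmegaOrbits.mulVec_injective g (by simpa using e))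
    obtain rfl : l = l' := by_contra fun hne => hgz0 (h.nd l _ (hl z hzD hrz) fun x hx =>
      h.perp hne hx (hl' z hzD hfz))
    refine ⟨l, fun x hx => ?_⟩
    show mat Q g *ᵥ x ∈ D l
    have hrr : 𝔅 r r = 0 := by rw [polar_self', hrq, mul_zero]
    have hff : 𝔅 f f = 0 := by rw [polar_self', hfq, mul_zero]
    have h1 := hl (x - 𝔅 r x • f) ((D i).sub_mem hx ((D i).smul_mem _ hf))
      (by rw [QuadraticMap.polar_sub_right, QuadraticMap.polar_smul_right, hrf, smul_eq_mul, mul_one, sub_self])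
    have h2 := hl' f hf hff
    rw [mulVec_sub, mulVec_smul] at h1
    exact ((D l).sub_mem_iff_left ((D l).smul_mem _ h2)).1 h1
  set u := mat Q g *ᵥ r with hudef
  have huq : Q u = 0 := by rw [hudef, quad_mulVec, hrq]
  have hR : ∀ y ∈ D i, 𝔅 r y = 0 → mat Q g *ᵥ y ∈ rootSpace M huq := fun y hy hry =>
    rootSpace_map hgM (rootMem_internal h hn (by omega) hM hr hy hrq hry) huq
  have hu0 : u ≠ 0 := fun e => hr0 (OmegaOrbits.mulVec_injective g (by simpa using e))
  by_cases hsingle : ∃ l, u ∈ D l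
  · obtain ⟨l, hl⟩ := hsingle
    obtain ⟨y, hy, hry, hyl⟩ := hnot l
    exact omega_le_of_mixed h hn hk hM hl hu0 (hR y hy hry) hyl
  push Not at hsingle
  obtain ⟨c, hc, hsum⟩ := h.exists_comp u
  have hout : ∀ l, u - c l ∈ qperp Q (D l) := fun l x hx => by
    show 𝔅 x (u - c l) = 0
    rw [QuadraticMap.polar_sub_right, ← hsum, h.polar_comp hc hx, sub_self]
  have huq' : ∀ l, Q (c l + (u - c l)) = 0 := fun l => by rw [add_sub_cancel]; exact huq
  have hul : ∀ l, c l + (u - c l) ∉ D l := fun l => by rw [add_sub_cancel]; exact hsingle l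
  -- the root space in decomposed form
  have hcast : ∀ (l : Fin t) {v : ι → F}, v ∈ rootSpace M huq → v ∈ rootSpace M (huq' l) := by
    intro l v hv
    rw [mem_rootSpace, add_sub_cancel]
    exact mem_rootSpace.1 hv
  have hcast' : ∀ (l : Fin t) (d : ι → F) {v : ι → F}, v ∈ rootSpace M huq →
      d + (v - d) ∈ rootSpace M (huq' l) := by
    intro l d v hv
    rw [add_sub_cancel d v]
    exact hcast l hv
  have hsingle' : ∀ {v : ι → F}, v ∈ rootSpace M huq → ∀ (d : Fin t → ι → F), (∀ j, d j ∈ D j) → ∑ j, d j = v →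
      ∀ j, (Q (c j) ≠ 0 → Fintype.card F ≠ 2) → d j ∉ Submodule.span F {c j} → Cfsg.Omega F ⇑Q ≤ M := by
    intro v hv d hd hdsum j hq hn'
    refine omega_le_of_not_multiple h hn hk hM hodd h3 hline (hu := huq' j) (hc j) (hout j) (hul j) (hd j)
      (o' := v - d j) (fun x hx => ?_) (hcast' j _ hv) hn' hq
    show 𝔅 x (v - d j) = 0
    rw [QuadraticMap.polar_sub_right, ← hdsum, h.polar_comp hd hx, sub_self]
  -- a vector of the root space outside the plane of `u` and a component
  have hpick : ∀ l, ∃ v ∈ rootSpace M huq, Q v ≠ 0 ∧ v ∉ Submodule.span F {u, c l} := by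
    intro l
    have hfin : finrank F ((Submodule.span F {u, c l}).comap (mulVecLin (mat Q g))) ≤ 2 := by
      rw [← finrank_gmap g]
      exact (Submodule.finrank_mono (Submodule.map_comap_le _ _)).trans (finrank_span_pair_le _ _)
    obtain ⟨y, hy, hry, hyq, hyX⟩ := exists_nonsingular_out h hn hk hM hodd h3 hline hr hr0 hrq _ hfin
      (show mat Q g *ᵥ r ∈ Submodule.span F {u, c l} from Submodule.subset_span (by simp [hudef])) (by
      intro h2 y hy hry hm
      obtain ⟨e, f, hef⟩ := Submodule.mem_span_pair.1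
        (show mat Q g *ᵥ y ∈ Submodule.span F {u, c l} from hm)
      have hul' : 𝔅 u (c l) = 2 * Q (c l) := by
        rw [QuadraticMap.polar_comm, ← hsum, h.polar_comp hc (hc l), polar_self']
      have h0 : 𝔅 u (mat Q g *ᵥ y) = 0 := by rw [hudef, polar_mulVec, hry]
      rw [← hef, QuadraticMap.polar_add_right, QuadraticMap.polar_smul_right, QuadraticMap.polar_smul_right,
        polar_self', huq, hul', smul_eq_mul, smul_eq_mul, mul_zero, mul_zero, zero_add] at h0
      have h1 : f * Q (c l) = 0 := (mul_eq_zero.1 (show (2 : F) * (f * Q (c l)) = 0 by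
        linear_combination h0)).resolve_left h2
      rw [← quad_mulVec Q g y, ← hef, QuadraticMap.map_add (⇑Q), QuadraticMap.map_smul, QuadraticMap.map_smul, huq,
        QuadraticMap.polar_smul_left, QuadraticMap.polar_smul_right, hul', smul_eq_mul, smul_eq_mul, smul_eq_mul,
        smul_eq_mul]
      linear_combination (f + 2 * e) * h1)
    exact ⟨_, hR y hy hry, by rwa [quad_mulVec], hyX⟩
  -- the component `l` at which a root is pushed
  have hpush : ∀ l, c l ≠ 0 → ∀ {v : ι → F}, v ∈ rootSpace M huq → Q v ≠ 0 → v ∉ Submodule.span F {u, c l} →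
      (Fintype.card F = 2 → Q (c l) = 1) → ∀ {d}, d ∈ D l → v - d ∈ qperp Q (D l) →
      d ∈ Submodule.span F {c l} → Cfsg.Omega F ⇑Q ≤ M := by
    intro l hl v hv hvq hvX hq d hd hvd hmem
    obtain ⟨e, rfl⟩ := Submodule.mem_span_singleton.1 hmem
    refine omega_le_of_push h hn hk hM hodd h3 hline (hu := huq' l) (hc l) (hout l) hl (c := e) hvd
      (hcast' l _ hv) (by rwa [add_sub_cancel]) (fun κ hκ => hvX ?_) hq
    refine Submodule.mem_span_pair.2 ⟨κ, e - κ, ?_⟩
    linear_combination (norm := module) -hκ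
  have hperp : ∀ {d : Fin t → ι → F} {v : ι → F}, (∀ j, d j ∈ D j) → ∑ j, d j = v → ∀ j,
      v - d j ∈ qperp Q (D j) := fun {d v} hd hdsum j x hx => by
    show 𝔅 x (v - d j) = 0
    rw [QuadraticMap.polar_sub_right, ← hdsum, h.polar_comp hd hx, sub_self]
  by_cases hcard : Fintype.card F = 2
  swap
  · obtain ⟨l, hl⟩ : ∃ l, c l ≠ 0 := by
      by_contra! hall
      exact hu0 (by rw [← hsum]; exact Finset.sum_eq_zero fun j _ => hall j)
    obtain ⟨v, hv, hvq, hvX⟩ := hpick l
    obtain ⟨d, hd, hdsum⟩ := h.exists_comp v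
    by_cases hmem : d l ∈ Submodule.span F {c l}
    · exact hpush l hl hv hvq hvX (fun e => absurd e hcard) (hd l) (hperp hd hdsum l) hmem
    · exact hsingle' hv d hd hdsum l (fun _ => hcard) hmem
  have h2 := two_eq_zero_of_card hcard
  by_cases hns : ∃ l, Q (c l) ≠ 0
  swap
  · push Not at hns
    obtain ⟨v, hv, hvq, -⟩ := hpick ⟨0, by have := h.two_le; omega⟩
    obtain ⟨d, hd, hdsum⟩ := h.exists_comp v
    by_cases hex : ∃ j, d j ∉ Submodule.span F {c j}
    · obtain ⟨j, hj⟩ := hex
      exact hsingle' hv d hd hdsum j (fun h' => absurd (hns j) h') hj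
    push Not at hex
    refine absurd ?_ hvq
    rw [← hdsum, h.quad_comp hd]
    refine Finset.sum_eq_zero fun j _ => ?_
    obtain ⟨e, he⟩ := Submodule.mem_span_singleton.1 (hex j)
    rw [← he, QuadraticMap.map_smul, hns, smul_zero]
  obtain ⟨l, hl⟩ := hns
  have hl1 := eq_one_of_two hcard hl
  have hl0 : c l ≠ 0 := fun e => hl (by rw [e, QuadraticMap.map_zero])
  obtain ⟨v, hv, hvq, hvX⟩ := hpick l
  obtain ⟨d, hd, hdsum⟩ := h.exists_comp v
  by_cases hmem : d l ∈ Submodule.span F {c l}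
  · exact hpush l hl0 hv hvq hvX (fun _ => hl1) (hd l) (hperp hd hdsum l) hmem
  obtain ⟨s, hsD, hsq, hps, hsa⟩ := exists_singular_two h hn hk hM h2 (hc l) hl (hd l) hmem
  have hsa1 : 𝔅 s (d l) = 1 := eq_one_of_two hcard hsa
  have hpp : 𝔅 (c l) (c l) = 0 := by rw [polar_self', h2, zero_mul]
  obtain ⟨m, hml, hm⟩ := exists_other_nonsingular h hn hk hM hc hsum huq hl
  have hm0 : c m ≠ 0 := fun e => hm (by rw [e, QuadraticMap.map_zero])
  have hm1 := eq_one_of_two hcard hm
  have hdiff := eich_diff_mem h hn (by omega) hM hsD (hc l) hsq (by rw [QuadraticMap.polar_comm, hps])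
    (by rw [← hsum, h.polar_comp hc hsD, QuadraticMap.polar_comm, hps])
    (by rw [← hsum, h.polar_comp hc (hc l), hpp]) hv
  rw [← hdsum, h.polar_comp hd hsD, h.polar_comp hd (hc l), hsa1, hl1, one_smul, one_mul] at hdiff
  by_cases hπ : 𝔅 (c l) (d l) = 0
  · rw [hπ, zero_add, one_smul] at hdiff
    have hwD : c l - s ∈ D l := (D l).sub_mem (hc l) hsD
    have hwq : Q (c l - s) = 1 := by
      rw [sub_eq_add_neg, QuadraticMap.map_add (⇑Q), QuadraticMap.map_neg, QuadraticMap.polar_neg_right, hl1, hsq,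
        hps]
      simp
    refine hpush m hm0 hdiff (by rw [hwq]; exact one_ne_zero) (fun hX => ?_) (fun _ => hm1) (Submodule.zero_mem _)
      (by rw [sub_zero]; exact h.mem_qperp hml hwD) (Submodule.zero_mem _)
    obtain ⟨e, f, hef⟩ := Submodule.mem_span_pair.1 hX
    refine hsa (?_ : 𝔅 s (d l) = 0)
    have hkey : e • c l = c l - s := by
      refine sub_eq_zero.1 (h.nd l _ ((D l).sub_mem ((D l).smul_mem _ (hc l)) hwD) fun x hx => ?_)
      rw [← hef, QuadraticMap.polar_sub_right, QuadraticMap.polar_add_right, QuadraticMap.polar_smul_right,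
        QuadraticMap.polar_smul_right, QuadraticMap.polar_smul_right, ← hsum, h.polar_comp hc hx,
        h.perp hml.symm hx (hc m), smul_zero, add_zero, sub_self]
    have hs_eq : s = (1 - e) • c l := by rw [sub_smul, one_smul, hkey]; abel
    rw [hs_eq, QuadraticMap.polar_smul_left, hπ, smul_zero]
  have hπ1 : 𝔅 (c l) (d l) = 1 := eq_one_of_two hcard hπ
  rw [hπ1, show (1 : F) + 1 = 2 from one_add_one_eq_two, h2, zero_smul, sub_zero] at hdiff
  by_cases haq : Q (d l) = 0
  swap
  · exact omega_le_of_pi h hn hk hM hodd h3 hline hcard (hu := huq' l) (hc l) (hout l) (hul l) hl1 (hd l)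
      (o' := v - d l) (hperp hd hdsum l) (hcast' l _ hv) hπ1 (eq_one_of_two hcard haq)
  by_cases hX : c l ∈ Submodule.span F {u, c m}
  swap
  · exact hpush m hm0 hdiff hl hX (fun _ => hm1) (Submodule.zero_mem _)
      (by rw [sub_zero]; exact h.mem_qperp hml (hc l)) (Submodule.zero_mem _)
  -- the support of `u` is `{l, m}`
  obtain ⟨e, f, hef⟩ := Submodule.mem_span_pair.1 hX
  have he0 : e ≠ 0 := fun e0 => hπ (by
    rw [e0, zero_smul, zero_add] at hef
    rw [← hef, QuadraticMap.polar_smul_left, h.perp hml (hc m) (hd l), smul_zero])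
  rw [eq_one_of_two hcard he0, one_smul] at hef
  have hucl : u = c l - f • c m := by rw [← hef]; abel
  have hsupp : ∀ j, j ≠ l → j ≠ m → c j = 0 := fun j hjl hjm => h.nd j _ (hc j) fun x hx => by
    rw [← h.polar_comp hc hx, hsum, hucl, QuadraticMap.polar_sub_right, QuadraticMap.polar_smul_right,
      h.perp hjl hx (hc l), h.perp hjm hx (hc m), smul_zero, sub_zero]
  by_cases hex : ∃ j, j ≠ l ∧ j ≠ m ∧ d j ≠ 0
  · obtain ⟨j, hjl, hjm, hj⟩ := hex
    refine hsingle' hv d hd hdsum j (fun h' => absurd (by rw [hsupp j hjl hjm, QuadraticMap.map_zero]) h') ?_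
    rw [hsupp j hjl hjm, Submodule.span_zero_singleton]
    exact hj
  push Not at hex
  have hv2 : d l + d m = v := by
    rw [← hdsum, Finset.sum_eq_add l m hml.symm (fun j _ hj => hex j hj.1 hj.2)
      (fun hh => absurd (Finset.mem_univ _) hh) (fun hh => absurd (Finset.mem_univ _) hh)]
  have hvX' : v ∉ Submodule.span F {u, c m} := fun hv' => hvX (by
    refine (Submodule.span_le.2 ?_) hv'
    rintro x (rfl | rfl)
    · exact Submodule.subset_span (by simp)
    · have hf0 : f ≠ 0 := fun f0 => hsingle l (by rw [hucl, f0, zero_smul, sub_zero]; exact hc l)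
      refine (Submodule.smul_mem_iff _ hf0).1 ?_
      rw [show f • c m = c l - u by rw [hucl]; abel]
      exact Submodule.sub_mem _ (Submodule.subset_span (by simp)) (Submodule.subset_span (by simp)))
  by_cases hmm : d m ∈ Submodule.span F {c m}
  · exact hpush m hm0 hv hvq hvX' (fun _ => hm1) (hd m) (hperp hd hdsum m) hmm
  have hf1 : f = 1 := eq_one_of_two hcard fun f0 => hsingle l (by rw [hucl, f0, zero_smul, sub_zero]; exact hc l)
  have hπm : 𝔅 (c m) (d m) = 1 := by
    have huv := (mem_rootSpace.1 hv).1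
    rw [hucl, ← hv2, hf1, one_smul, QuadraticMap.polar_sub_left, QuadraticMap.polar_add_right,
      QuadraticMap.polar_add_right, hπ1, h.perp hml.symm (hc l) (hd m), h.perp hml (hc m) (hd l)] at huv
    linear_combination -huv
  have hmq : Q (d m) = 1 := eq_one_of_two hcard fun hq0 => hvq (by
    rw [← hv2, QuadraticMap.map_add (⇑Q), haq, hq0, h.perp hml.symm (hd l) (hd m), add_zero, add_zero])
  exact omega_le_of_pi h hn hk hM hodd h3 hline hcard (hu := huq' m) (hc m) (hout m) (hul m) hm1 (hd m)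
    (o' := v - d m) (hperp hd hdsum m) (hcast' m _ hv) hπm hmq

end Setting

/-- The stabiliser of an orthogonal decomposition into members of dimension at least three is maximal. -/
theorem isMaximalIn_decomp (h : DSys Q k D) (hn : 5 ≤ Fintype.card ι) (hk : 3 ≤ k)
    (hodd : Odd k → (2 : F) ≠ 0) (h3 : k = 3 → 3 < Fintype.card F) (hline : NoLine Q k D) :
    IsMaximalIn (omegaGL ⇑Q) (decompositionStabilizer D ⊓ omegaGL ⇑Q) := by
  refine isMaximalIn_omega _ ?_ fun M hM g hgM _ hgS => omega_le_of_not_stab h hn hk hM hodd h3 hline hgM hgS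
  obtain ⟨i⟩ : Nonempty (Fin t) := ⟨⟨0, by have := h.two_le; omega⟩⟩
  obtain ⟨j, hij⟩ : ∃ j, i ≠ j := by
    by_contra! hall
    have := Fintype.card_le_one_iff_subsingleton.2 ⟨fun a b => (hall a).symm.trans (hall b)⟩
    rw [Fintype.card_fin] at this
    have := h.two_le
    omega
  refine exists_move_decomp h.nondeg hn h.orth (h.nd i) (fun e => ?_) ?_
  · have := h.dim i
    rw [e, finrank_bot] at this
    omega
  · calc 3 ≤ finrank F (D j) := by rw [h.dim]; exact hk
      _ ≤ _ := Submodule.finrank_mono fun x hx => h.mem_qperp hij hx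

end CfsgLib.OrthMax
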