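import Cfsg.Agent.OrthMax.DecompTools

/-!
# Orthogonal decompositions refined by frames

Over three and five elements some small members carry a canonical orthogonal frame, or a canonical line;
the stabiliser of such a decomposition is then not maximal.
-/

set_option autoImplicit false
set_option linter.unusedSectionVars false

namespace CfsgLib.OrthMax

open Matrix Module CfsgLib.Spinor CfsgLib.Forms Cfsg.Geo CfsgLib.OmegaOrbits

variable {F : Type*} [Field F] {ι : Type} [Fintype ι] [DecidableEq ι] {Q : QuadraticForm F (ι → F)}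
variable [Fintype F]

set_option quotPrecheck false in
local notation "𝔅" => QuadraticMap.polar (⇑Q)

variable {t k : ℕ} {D : Fin t → Submodule F (ι → F)}

/-- Each member carries an orthogonal frame of value `c` containing all its vectors of that value. -/
theorem not_maximal_frames (hQ : (QuadraticMap.polarBilin Q).Nondegenerate) (hn : 5 ≤ Fintype.card ι)
    (h2 : (2 : F) ≠ 0) (ht : 3 ≤ t) (hk : 2 ≤ k)
    (horth : ∀ i j, i ≠ j → AreOrthogonalFor (QuadraticMap.polar ⇑Q) (D i) (D j))
    {c : F} (hc : c ≠ 0) {a : Fin t → Fin k → ι → F} (ha : ∀ i r, a i r ∈ D i)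
    (haq : ∀ i r, Q (a i r) = c) (hao : ∀ i r l, r ≠ l → 𝔅 (a i r) (a i l) = 0)
    (hsingle : ∀ i, ∀ v ∈ D i, Q v = c → ∃ r, v ∈ Submodule.span F {a i r}) :
    ∃ K : Subgroup (GL ι F), decompositionStabilizer D ⊓ omegaGL ⇑Q < K ∧ K < omegaGL ⇑Q := by
  let p : Fin (t * k) ≃ Fin t × Fin k := finProdFinEquiv.symm
  let b : Fin t × Fin k → ι → F := fun x => a x.1 x.2
  let E : Fin (t * k) → Submodule F (ι → F) := fun j => Submodule.span F {b (p j)}
  have hbb : ∀ x y, 𝔅 (b x) (b y) = if x = y then 2 * c else 0 := by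
    rintro ⟨i, r⟩ ⟨j, l⟩
    by_cases hij : i = j
    · subst hij
      by_cases hrl : r = l
      · subst hrl; rw [if_pos rfl, polar_self', haq]
      · rw [if_neg (by simp [hrl]), hao i r l hrl]
    · rw [if_neg (by simp [hij]), horth i j hij _ (ha i r) _ (ha j l)]
  have h2c : 2 * c ≠ 0 := mul_ne_zero h2 hc
  have hb0 : ∀ x, b x ≠ 0 := fun x h => h2c (by
    have := hbb x x
    rwa [if_pos rfl, h, QuadraticMap.polar_zero_left, eq_comm] at this)
  have hEd : ∀ j, finrank F (E j) = 1 := fun j => finrank_span_singleton (hb0 _)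
  have hEinj : Function.Injective E := fun j j' hjj => by
    obtain ⟨e, he⟩ := Submodule.mem_span_singleton.1
      (show b (p j) ∈ E j' by rw [← hjj]; exact Submodule.mem_span_singleton_self _)
    by_contra hne
    have := hbb (p j) (p j)
    conv_lhs at this => arg 2; rw [← he]
    rw [QuadraticMap.polar_smul_left, hbb, if_neg (fun h => hne (p.injective h).symm), if_pos rfl,
      smul_zero, eq_comm] at this
    exact h2c this
  have hEo : ∀ i j, i ≠ j → AreOrthogonalFor (QuadraticMap.polar ⇑Q) (E i) (E j) := by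
    intro i j hij u hu v hv
    obtain ⟨e, rfl⟩ := Submodule.mem_span_singleton.1 hu
    obtain ⟨e', rfl⟩ := Submodule.mem_span_singleton.1 hv
    rw [QuadraticMap.polar_smul_left, QuadraticMap.polar_smul_right, hbb,
      if_neg (fun h => hij (p.injective h)), smul_zero, smul_zero]
  refine not_maximal_omega (T := decompositionStabilizer E) ?_ ?_ ?_
  · rintro _ ⟨⟨σ, hσ⟩, g, -, rfl⟩
    refine mem_decompositionStabilizer_of_maps hEinj hEd fun j => ?_
    have hmem : mat Q g *ᵥ b (p j) ∈ D (σ (p j).1) := by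
      rw [← hσ]; exact Submodule.mem_map_of_mem (ha _ _)
    obtain ⟨r, hr⟩ := hsingle _ _ hmem (by rw [quad_mulVec]; exact haq _ _)
    refine ⟨p.symm (σ (p j).1, r), fun x hx => ?_⟩
    obtain ⟨e, rfl⟩ := Submodule.mem_span_singleton.1 hx
    rw [mulVec_smul]
    refine Submodule.smul_mem _ _ ?_
    simp only [E, Equiv.apply_symm_apply]
    exact hr
  · -- a transposition across two members and one inside a third
    set x₀ : Fin t × Fin k := (⟨0, by omega⟩, ⟨0, by omega⟩) with hx₀
    set x₁ : Fin t × Fin k := (⟨1, by omega⟩, ⟨0, by omega⟩) with hx₁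
    set y₀ : Fin t × Fin k := (⟨2, by omega⟩, ⟨0, by omega⟩) with hy₀
    set y₁ : Fin t × Fin k := (⟨2, by omega⟩, ⟨1, by omega⟩) with hy₁
    have n01 : x₀ ≠ x₁ := by simp [hx₀, hx₁]
    have n23 : y₀ ≠ y₁ := by simp [hy₀, hy₁]
    have n02 : x₀ ≠ y₀ := by simp [hx₀, hy₀]
    have n03 : x₀ ≠ y₁ := by simp [hx₀, hy₁]
    have n12 : x₁ ≠ y₀ := by simp [hx₁, hy₀]
    have n13 : x₁ ≠ y₁ := by simp [hx₁, hy₁]
    have hq : ∀ x y, x ≠ y → Q (b x - b y) = 2 * c := fun x y hxy => by
      rw [sub_eq_add_neg, QuadraticMap.map_add (⇑Q), QuadraticMap.map_neg, QuadraticMap.polar_neg_right,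
        hbb, if_neg hxy, haq, haq]
      ring
    obtain ⟨g, hg, hgx⟩ := exists_double_refl hQ hn (v := b x₀ - b x₁) (v' := b y₀ - b y₁)
      (by rw [hq _ _ n01]; exact h2c) (by rw [hq _ _ n01, hq _ _ n23])
      (by simp [QuadraticMap.polar_sub_left, QuadraticMap.polar_sub_right, hbb, n02, n03, n12, n13])
    have hkey : c⁻¹ * 2⁻¹ * (2 * c) = 1 := by field_simp
    have hact : ∀ x, mat Q g *ᵥ b x = b (Equiv.swap y₀ y₁ (Equiv.swap x₀ x₁ x)) := fun x => by
      rw [hgx, hq _ _ n01, QuadraticMap.polar_sub_left, QuadraticMap.polar_sub_left, hbb, hbb, hbb, hbb]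
      rcases eq_or_ne x x₀ with rfl | h0
      · simp [n01.symm, n02.symm, n03.symm, n12, n13, Equiv.swap_apply_left, Equiv.swap_apply_of_ne_of_ne, hkey]
      rcases eq_or_ne x x₁ with rfl | h1
      · simp [n01, n12.symm, n13.symm, n02, n03, Equiv.swap_apply_right, Equiv.swap_apply_of_ne_of_ne, hkey]
      rw [Equiv.swap_apply_of_ne_of_ne h0 h1]
      rcases eq_or_ne x y₀ with rfl | h2'
      · simp [n02, n12, n23.symm, Equiv.swap_apply_left, hkey]
      rcases eq_or_ne x y₁ with rfl | h3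
      · simp [n03, n13, n23, Equiv.swap_apply_right, hkey]
      simp [Ne.symm h0, Ne.symm h1, Ne.symm h2', Ne.symm h3, Equiv.swap_apply_of_ne_of_ne h2' h3]
    refine ⟨g, hg, mem_decompositionStabilizer_of_maps hEinj hEd fun j =>
      ⟨p.symm (Equiv.swap y₀ y₁ (Equiv.swap x₀ x₁ (p j))), fun x hx => ?_⟩, fun ⟨σ, hσ⟩ => ?_⟩
    · obtain ⟨e, rfl⟩ := Submodule.mem_span_singleton.1 hx
      rw [show ((g : GL ι F) : Matrix ι ι F) = mat Q g from rfl, mulVec_smul, hact]
      refine Submodule.smul_mem _ _ ?_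
      simp only [E, Equiv.apply_symm_apply]
      exact Submodule.mem_span_singleton_self _
    · set z : Fin t × Fin k := (⟨0, by omega⟩, ⟨1, by omega⟩) with hz
      have m0 : b x₁ ∈ D (σ x₀.1) := by
        rw [← hσ, show b x₁ = mat Q g *ᵥ b x₀ by
          rw [hact, Equiv.swap_apply_left, Equiv.swap_apply_of_ne_of_ne n12 n13]]
        exact Submodule.mem_map_of_mem (ha _ _)
      have mz : b z ∈ D (σ x₀.1) := by
        rw [← hσ, show b z = mat Q g *ᵥ b z by
          rw [hact, Equiv.swap_apply_of_ne_of_ne (a := x₀) (b := x₁) (by simp [hz, hx₀]) (by simp [hz, hx₁]),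
            Equiv.swap_apply_of_ne_of_ne (by simp [hz, hy₀]) (by simp [hz, hy₁])]]
        exact Submodule.mem_map_of_mem (ha _ _)
      have e1 : σ x₀.1 = x₁.1 := eq_of_pairing horth m0 (ha x₁.1 x₁.2) (by
        show 𝔅 (b x₁) (b x₁) ≠ 0
        rw [hbb, if_pos rfl]; exact h2c)
      have e0 : σ x₀.1 = z.1 := eq_of_pairing horth mz (ha z.1 z.2) (by
        show 𝔅 (b z) (b z) ≠ 0
        rw [hbb, if_pos rfl]; exact h2c)
      simpa [hx₁, hz] using e1.symm.trans e0
  · have htk : 0 < t * k := Nat.mul_pos (by omega) (by omega)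
    refine exists_move_decomp hQ hn hEo (i := ⟨0, htk⟩) (fun z hz hzero => ?_) (fun h => ?_) ?_
    · obtain ⟨e, rfl⟩ := Submodule.mem_span_singleton.1 hz
      have := hzero _ (Submodule.mem_span_singleton_self _)
      rw [QuadraticMap.polar_smul_right, hbb, if_pos rfl, smul_eq_mul] at this
      rw [(mul_eq_zero.1 this).resolve_right h2c, zero_smul]
    · have := hEd ⟨0, htk⟩
      rw [h, finrank_bot] at this
      omega
    · rw [finrank_qperp hQ, hEd]; omega

/-- Each member carries a line of value `c` containing all its vectors of that value. -/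
theorem not_maximal_lines (hQ : (QuadraticMap.polarBilin Q).Nondegenerate) (hn : 5 ≤ Fintype.card ι)
    (h2 : (2 : F) ≠ 0) (ht : 4 ≤ t) (htn : t + 3 ≤ Fintype.card ι)
    (horth : ∀ i j, i ≠ j → AreOrthogonalFor (QuadraticMap.polar ⇑Q) (D i) (D j))
    (hnd : ∀ i, Nd Q (D i)) (hdim : ∀ i, 2 ≤ finrank F (D i))
    {c : F} (hc : c ≠ 0) {a : Fin t → ι → F} (ha : ∀ i, a i ∈ D i) (haq : ∀ i, Q (a i) = c)
    (hsingle : ∀ i, ∀ v ∈ D i, Q v = c → v ∈ Submodule.span F {a i}) :
    ∃ K : Subgroup (GL ι F), decompositionStabilizer D ⊓ omegaGL ⇑Q < K ∧ K < omegaGL ⇑Q := by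
  set A := Submodule.span F (Set.range a) with hA
  have haA : ∀ i, a i ∈ A := fun i => Submodule.subset_span ⟨i, rfl⟩
  have hbb : ∀ i j, 𝔅 (a i) (a j) = if i = j then 2 * c else 0 := fun i j => by
    by_cases hij : i = j
    · subst hij; rw [if_pos rfl, polar_self', haq]
    · rw [if_neg hij, horth i j hij _ (ha i) _ (ha j)]
  have h2c : 2 * c ≠ 0 := mul_ne_zero h2 hc
  have hAn : Nd Q A := by
    intro z hz hzero
    obtain ⟨e, he⟩ := (Submodule.mem_span_range_iff_exists_fun F).1 hz
    rw [← he]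
    refine Finset.sum_eq_zero fun j _ => ?_
    have := hzero (a j) (haA j)
    rw [← he, ← QuadraticMap.polarBilin_apply_apply, map_sum, Finset.sum_eq_single j] at this
    · rw [map_smul, QuadraticMap.polarBilin_apply_apply, hbb, if_pos rfl, smul_eq_mul] at this
      rw [(mul_eq_zero.1 this).resolve_right h2c, zero_smul]
    · intro i _ hij
      rw [map_smul, QuadraticMap.polarBilin_apply_apply, hbb, if_neg (Ne.symm hij), smul_zero]
    · exact fun h => absurd (Finset.mem_univ j) h
  have hAd : finrank F A ≤ t := (finrank_range_le_card a).trans (Fintype.card_fin t).le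
  refine not_maximal_omega (T := subspaceStabilizer A) ?_ ?_ ?_
  · rintro _ ⟨⟨σ, hσ⟩, g, -, rfl⟩
    refine mem_stab_of_le fun x hx => ?_
    suffices hle : A ≤ A.comap (mulVecLin (mat Q g)) from hle hx
    refine Submodule.span_le.2 ?_
    rintro _ ⟨i, rfl⟩
    have hmem : mat Q g *ᵥ a i ∈ D (σ i) := by rw [← hσ]; exact Submodule.mem_map_of_mem (ha i)
    exact (Submodule.span_singleton_le_iff_mem _ _).2 (haA (σ i))
      (hsingle _ _ hmem (by rw [← haq i]; exact quad_mulVec Q g (a i)))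
  · set i0 : Fin t := ⟨0, by omega⟩
    set i1 : Fin t := ⟨1, by omega⟩
    set i2 : Fin t := ⟨2, by omega⟩
    set i3 : Fin t := ⟨3, by omega⟩
    have n01 : i0 ≠ i1 := by simp [i0, i1, Fin.ext_iff]
    have n02 : i0 ≠ i2 := by simp [i0, i2, Fin.ext_iff]
    have n03 : i0 ≠ i3 := by simp [i0, i3, Fin.ext_iff]
    have n12 : i1 ≠ i2 := by simp [i1, i2, Fin.ext_iff]
    have n13 : i1 ≠ i3 := by simp [i1, i3, Fin.ext_iff]
    have n23 : i2 ≠ i3 := by simp [i2, i3, Fin.ext_iff]
    have hq : ∀ x y, x ≠ y → Q (a x - a y) = 2 * c := fun x y hxy => by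
      rw [sub_eq_add_neg, QuadraticMap.map_add (⇑Q), QuadraticMap.map_neg, QuadraticMap.polar_neg_right,
        hbb, if_neg hxy, haq, haq]
      ring
    obtain ⟨g, hg, hgx⟩ := exists_double_refl hQ hn (v := a i0 - a i1) (v' := a i2 - a i3)
      (by rw [hq _ _ n01]; exact h2c) (by rw [hq _ _ n01, hq _ _ n23])
      (by simp [QuadraticMap.polar_sub_left, QuadraticMap.polar_sub_right, hbb, n02, n03, n12, n13])
    obtain ⟨z, hz, hza, hz0⟩ : ∃ z ∈ D i0, 𝔅 (a i0) z = 0 ∧ z ≠ 0 := by
      have h := finrank_le_inf_qperp_add_one hQ (D i0) (a i0)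
      obtain ⟨z, hz, hz0⟩ := Submodule.exists_mem_ne_zero_of_ne_bot
        (p := D i0 ⊓ qperp Q (Submodule.span F {a i0})) fun hb => by
          rw [hb, finrank_bot] at h
          have := hdim i0
          omega
      exact ⟨z, hz.1, mem_qperp_singleton.1 hz.2, hz0⟩
    refine ⟨g, hg, mem_stab_of_le fun x hx => ?_, fun ⟨σ, hσ⟩ => ?_⟩
    · rw [hgx]
      exact A.sub_mem (A.sub_mem hx (A.smul_mem _ (A.sub_mem (haA _) (haA _))))
        (A.smul_mem _ (A.sub_mem (haA _) (haA _)))
    · have h : mat Q g *ᵥ (a i0 + z) ∈ D (σ i0) := by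
        rw [← hσ]; exact Submodule.mem_map_of_mem ((D i0).add_mem (ha i0) hz)
      have ho : ∀ j, j ≠ i0 → 𝔅 (a j) z = 0 := fun j hj => horth j i0 hj _ (ha j) _ hz
      rw [hgx, hq _ _ n01] at h
      simp only [QuadraticMap.polar_sub_left, QuadraticMap.polar_add_right, hbb, hza, ho _ n01.symm,
        ho _ n02.symm, ho _ n03.symm, if_neg n01.symm, if_neg n02.symm, if_neg n03.symm, if_pos,
        add_zero, sub_zero, mul_zero, zero_smul, inv_mul_cancel₀ h2c, one_smul] at h
      rw [show a i0 + z - (a i0 - a i1) = a i1 + z by abel] at h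
      obtain ⟨z', hz', hzz'⟩ := (hnd i0).exists_polar_one hz hz0
      have e0 : σ i0 = i0 := eq_of_pairing horth h hz' (by
        rw [QuadraticMap.polar_add_left, horth i1 i0 n01.symm _ (ha i1) _ hz', hzz', zero_add]
        exact one_ne_zero)
      have e1 : σ i0 = i1 := eq_of_pairing horth h (ha i1) (by
        rw [QuadraticMap.polar_add_left, hbb, if_pos rfl, horth i0 i1 n01 _ hz _ (ha i1), add_zero]
        exact h2c)
      exact n01 (e0.symm.trans e1)
  · refine exists_move_nd hQ hn hAn (fun h => ?_) (by rw [finrank_qperp hQ]; omega)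
    have h' := haA ⟨0, by omega⟩
    rw [h, Submodule.mem_bot] at h'
    exact h2c (by
      have := hbb ⟨0, by omega⟩ ⟨0, by omega⟩
      rwa [if_pos rfl, h', QuadraticMap.polar_zero_left, eq_comm] at this)

end CfsgLib.OrthMax
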