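import Cfsg.Agent.OrthMax.DecompRoots
import Cfsg.Agent.OrthMax.NonsingularVector

/-!
# Finding a mixed root group

`omega_le_of_singular_part`, `omega_le_of_moved`: a root group seen by a member at a vector not in the line of
the component of its singular point gives `Ω`. `exists_push`: pushing a root of a member across.
-/

set_option autoImplicit false
set_option linter.unusedSectionVars false

namespace CfsgLib.OrthMax

open Matrix Module CfsgLib.Spinor CfsgLib.Forms CfsgLib.Forms4 Cfsg.Geo CfsgLib.OmegaOrbits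

variable {F : Type*} [Field F] {ι : Type} [Fintype ι] [DecidableEq ι] {Q : QuadraticForm F (ι → F)}
variable [Fintype F] {t k : ℕ} {D : Fin t → Submodule F (ι → F)} {M : Subgroup (Isom Q)}

set_option quotPrecheck false in
local notation "𝔅" => QuadraticMap.polar (⇑Q)

theorem Nd.inf_perp {W : Submodule F (ι → F)} (hW : Nd Q W) {a : ι → F} (ha : a ∈ W) (haa : 𝔅 a a ≠ 0) :
    Nd Q (W ⊓ qperp Q (Submodule.span F {a})) := by
  intro z hz hzero
  obtain ⟨c, hc⟩ := Submodule.mem_span_singleton.1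
    (hW.mem_span_of_perp ha hz.1 fun x hx hax => hzero x ⟨hx, mem_qperp_singleton.2 hax⟩)
  have h0 := mem_qperp_singleton.1 hz.2
  rw [← hc, QuadraticMap.polar_smul_right, smul_eq_zero] at h0
  rw [← hc, h0.resolve_right haa, zero_smul]

theorem polar_add_perp {W : Submodule F (ι → F)} {x p o : ι → F} (hx : x ∈ W) (ho : o ∈ qperp Q W) :
    𝔅 x (p + o) = 𝔅 x p := by
  rw [QuadraticMap.polar_add_right, show 𝔅 x o = 0 from ho x hx, add_zero]

section Setting

variable (h : DSys Q k D) (hn : 5 ≤ Fintype.card ι) (hk : 3 ≤ k) (hM : ContainsFix M D)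
include h hn hk hM

/-- A singular vector of a member in a root space outside it. -/
theorem omega_le_of_mem {l : Fin t} {u s : ι → F} {hu : Q u = 0} (hul : u ∉ D l) (hs : s ∈ D l) (hs0 : s ≠ 0)
    (hsq : Q s = 0) (h' : s ∈ rootSpace M hu) : Cfsg.Omega F ⇑Q ≤ M :=
  omega_le_of_mixed h hn hk hM hs hs0 (rootSpace_swap hsq h') hul

/-- A singular vector of a member recovered by polarising. -/
theorem mem_of_eich_pair {l : Fin t} {u v s b b' : ι → F} {hu : Q u = 0} (hs : s ∈ D l) (hb : b ∈ D l)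
    (hb' : b' ∈ D l) (hsq : Q s = 0) (hsb : 𝔅 s b = 0) (hsb' : 𝔅 s b' = 0) (hbb : 𝔅 b b' ≠ 0)
    (hus : 𝔅 s u = 0) (hub : 𝔅 b u = 0) (hub' : 𝔅 b' u = 0) (hv : v ∈ rootSpace M hu) (hsv : 𝔅 s v ≠ 0) :
    s ∈ rootSpace M hu := by
  set T := rootSpace M hu
  have e1 := eich_diff_mem h hn (by omega) hM hs hb hsq hsb hus hub hv
  have e2 := eich_diff_mem h hn (by omega) hM hs hb' hsq hsb' hus hub' hv
  have e3 := eich_diff_mem h hn (by omega) hM hs ((D l).add_mem hb hb') hsq
    (by rw [QuadraticMap.polar_add_right, hsb, hsb', add_zero]) hus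
    (by rw [QuadraticMap.polar_add_left, hub, hub', add_zero]) hv
  have key : (-(𝔅 b b' * 𝔅 s v)) • s ∈ T := by
    convert T.sub_mem (T.sub_mem e3 e1) e2 using 1
    rw [QuadraticMap.map_add (⇑Q), QuadraticMap.polar_add_left]
    module
  exact (T.smul_mem_iff (neg_ne_zero.2 (mul_ne_zero hbb hsv))).1 key

/-- The component of the singular point in the member is singular. -/
theorem omega_le_of_singular_part {l : Fin t} {p o a o' : ι → F} {hu : Q (p + o) = 0} (hp : p ∈ D l)
    (ho : o ∈ qperp Q (D l)) (hul : p + o ∉ D l) (ha : a ∈ D l) (ho' : o' ∈ qperp Q (D l))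
    (hv : a + o' ∈ rootSpace M hu) (hap : a ∉ Submodule.span F {p}) (hpq : Q p = 0) :
    Cfsg.Omega F ⇑Q ≤ M := by
  have ha0 : a ≠ 0 := fun e => hap (e ▸ Submodule.zero_mem _)
  by_cases hp0 : p = 0
  · subst hp0
    obtain ⟨s, hs, hs0, hsq⟩ := exists_singular h.nondeg (D l) (by rw [h.dim]; exact hk)
    refine omega_le_of_mem h hn hk hM hul hs hs0 hsq
      (le_rootSpace h hn hk hM (by rwa [zero_add]) hv (fun hm => ?_) hs)
    exact ha0 (h.nd l a ha fun x hx => by
      rw [← polar_add_perp (Q := Q) hx ho' (p := a)]; exact hm x hx)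
  refine omega_le_of_mem h hn hk hM (hu := hu) hul hp hp0 hpq ?_
  have hpu : 𝔅 p (p + o) = 0 := by rw [polar_add_perp hp ho, polar_self', hpq, mul_zero]
  by_cases hpa : 𝔅 p a = 0
  · obtain ⟨b, hb, hpb, hba⟩ : ∃ b ∈ D l, 𝔅 p b = 0 ∧ 𝔅 b a ≠ 0 := by
      by_contra! hall
      exact hap ((h.nd l).mem_span_of_perp hp ha hall)
    have := eich_diff_mem h hn (by omega) hM hp hb hpq hpb hpu
      (by rw [polar_add_perp hb ho, QuadraticMap.polar_comm, hpb]) hv
    rw [polar_add_perp hp ho', polar_add_perp hb ho', hpa, zero_smul, mul_zero, add_zero, zero_sub,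
      neg_mem_iff] at this
    exact ((rootSpace M hu).smul_mem_iff hba).1 this
  · obtain ⟨b, hb, b', hb', hpb, hpb', hbb⟩ := exists_pair_perp (h.nd l) (by rw [h.dim]; exact hk) hp hp0
    refine mem_of_eich_pair h hn hk hM hp hb hb' hpq hpb hpb' hbb hpu ?_ ?_ hv (by rwa [polar_add_perp hp ho'])
    · rw [polar_add_perp hb ho, QuadraticMap.polar_comm, hpb]
    · rw [polar_add_perp hb' ho, QuadraticMap.polar_comm, hpb']

/-- A nonsingular component of the point has a companion of any value in another member. -/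
theorem exists_outer_value (h2 : (2 : F) ≠ 0) {l : Fin t} {p o : ι → F} (hu : Q (p + o) = 0) (hp : p ∈ D l)
    (ho : o ∈ qperp Q (D l)) (hpq : Q p ≠ 0) {γ : F} (hγ : γ ≠ 0) :
    ∃ m, m ≠ l ∧ ∃ z ∈ D m, 𝔅 z (p + o) = 0 ∧ Q z = γ := by
  obtain ⟨c, hc, hsum⟩ := h.exists_comp (p + o)
  have hcl : c l = p := sub_eq_zero.1 (h.nd l _ ((D l).sub_mem (hc l) hp) fun x hx => by
    rw [QuadraticMap.polar_sub_right, ← h.polar_comp hc hx, hsum, polar_add_perp hx ho, sub_self])
  obtain ⟨m, hml, hm⟩ : ∃ m, m ≠ l ∧ Q (c m) ≠ 0 := by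
    by_contra! hall
    rw [← hsum, h.quad_comp hc, Finset.sum_eq_single l (fun j _ hj => hall j hj)
      (fun hl => absurd (Finset.mem_univ l) hl), hcl] at hu
    exact hpq hu
  have hmm : 𝔅 (c m) (c m) ≠ 0 := by rw [polar_self']; exact mul_ne_zero h2 hm
  have hW := (h.nd m).inf_perp (hc m) hmm
  obtain ⟨z, hz, hzq⟩ := exists_value_mem hW.inf_qperp (by
    have := finrank_le_inf_qperp_add_one h.nondeg (D m) (c m)
    rw [h.dim] at this
    omega) γ hγ
  refine ⟨m, hml, z, hz.1, ?_, hzq⟩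
  rw [← hsum, h.polar_comp hc hz.1, QuadraticMap.polar_comm, mem_qperp_singleton.1 hz.2]

/-- Products of reflections preserving every member. -/
theorem reflPair_mem {z z' : ι → F} (hz : Q z ≠ 0) (hz' : Q z' ≠ 0) {l m : Fin t} (hzl : z ∈ D l) (hzm : z' ∈ D m)
    (heq : Q z' = Q z) : reflIso Q z hz * reflIso Q z' hz' ∈ M := by
  have hmap : ∀ {l : Fin t} {z : ι → F}, z ∈ D l → ∀ j, ∀ x ∈ D j, refl Q z x ∈ D j := by
    intro l z hzl j x hx
    rw [refl_apply]
    rcases eq_or_ne l j with rfl | hlj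
    · exact (D l).sub_mem hx ((D l).smul_mem _ hzl)
    · rw [h.perp hlj hzl hx, mul_zero, zero_smul, sub_zero]
      exact hx
  refine mem_of_maps h (by omega) hM ((mem_omega_iff_even h.nondeg (Or.inr (by omega))
    ((IsReflProd.reflIso z hz).mul (IsReflProd.reflIso z' hz'))).2 ⟨by simp, ⟨Q z, by simp [heq]⟩⟩)
    fun j x hx => ?_
  rw [mat_mul, ← mulVec_mulVec, mat_reflIso_mulVec, mat_reflIso_mulVec]
  exact hmap hzl j _ (hmap hzm j x hx)

/-- A nonsingular vector of the member orthogonal to the point, with all multiples: odd characteristic. -/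
theorem omega_le_of_inner (h2 : (2 : F) ≠ 0) (hq : 3 < Fintype.card F) {l : Fin t} {p o w : ι → F}
    {hu : Q (p + o) = 0} (hp : p ∈ D l) (ho : o ∈ qperp Q (D l)) (hul : p + o ∉ D l) (hpq : Q p ≠ 0)
    (hw : w ∈ D l) (hwR : w ∈ rootSpace M hu) (hwq : Q w ≠ 0) : Cfsg.Omega F ⇑Q ≤ M := by
  have hpp : 𝔅 p p ≠ 0 := by rw [polar_self']; exact mul_ne_zero h2 hpq
  have hpw : 𝔅 p w = 0 := by
    have := hwR.1
    rwa [QuadraticMap.polar_comm, polar_add_perp hw ho, QuadraticMap.polar_comm] at this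
  -- a singular vector seen by `p` and `w`
  set W := D l ⊓ qperp Q (Submodule.span F {p}) with hWdef
  have hW : Nd Q W := (h.nd l).inf_perp hp hpp
  have hwW : w ∈ W := ⟨hw, mem_qperp_singleton.2 hpw⟩
  obtain ⟨y, hy, hyq, hyw⟩ : ∃ y ∈ W, Q y = -Q p ∧ 𝔅 w y ≠ 0 := by
    obtain ⟨y, hy, hyq⟩ := exists_value_mem hW.inf_qperp (by
      have := finrank_le_inf_qperp_add_one h.nondeg (D l) p
      rw [h.dim, ← hWdef] at this
      omega) (-Q p) (neg_ne_zero.2 hpq)
    by_cases hyw : 𝔅 w y = 0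
    swap
    · exact ⟨y, hy, hyq, hyw⟩
    obtain ⟨μ, hμ0, hμ⟩ : ∃ μ : F, μ ≠ 0 ∧ Q w - μ * μ * Q p ≠ 0 := by
      by_contra! hall
      refine absurd (card_le_three fun c => ?_) (by omega : ¬ Fintype.card F ≤ 3)
      rcases eq_or_ne c 0 with hc | hc
      · exact Or.inl hc
      refine Or.inr (mul_self_eq_one_iff.1 (mul_right_cancel₀ hpq ?_))
      linear_combination hall 1 one_ne_zero - hall c hc
    set v := w + μ • y with hv
    have hvq : Q v = Q w - μ * μ * Q p := by
      rw [hv, QuadraticMap.map_add (⇑Q), QuadraticMap.map_smul, QuadraticMap.polar_smul_right, hyw, hyq, smul_zero,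
        add_zero, smul_eq_mul, mul_neg, ← sub_eq_add_neg]
    have hvy : 𝔅 v y = μ * (2 * -Q p) := by
      rw [hv, QuadraticMap.polar_add_left, QuadraticMap.polar_smul_left, polar_self', hyw, hyq, zero_add, smul_eq_mul]
    refine ⟨refl Q v y, ?_, ?_, ?_⟩
    · rw [refl_apply]
      exact W.sub_mem hy (W.smul_mem _ (W.add_mem hwW (W.smul_mem _ hy)))
    · have : mat Q (reflIso Q v (hvq ▸ hμ)) *ᵥ y = refl Q v y := mat_reflIso_mulVec v _ y
      rw [← this, quad_mulVec, hyq]
    · rw [refl_apply, QuadraticMap.polar_sub_right, hyw, zero_sub, neg_ne_zero, QuadraticMap.polar_smul_right,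
        smul_eq_mul, hvy, show 𝔅 w v = 2 * Q w by
          rw [hv, QuadraticMap.polar_add_right, QuadraticMap.polar_smul_right, hyw, polar_self', smul_zero, add_zero]]
      exact mul_ne_zero (mul_ne_zero (inv_ne_zero (hvq ▸ hμ))
        (mul_ne_zero hμ0 (mul_ne_zero h2 (neg_ne_zero.2 hpq)))) (mul_ne_zero h2 hwq)
  set s := p + y with hs
  have hpy : 𝔅 p y = 0 := mem_qperp_singleton.1 hy.2
  have hsD : s ∈ D l := (D l).add_mem hp hy.1
  have hsq : Q s = 0 := by rw [hs, QuadraticMap.map_add (⇑Q), hyq, hpy]; ring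
  have hsp : 𝔅 s p = 2 * Q p := by
    rw [hs, QuadraticMap.polar_add_left, polar_self', QuadraticMap.polar_comm (⇑Q) y p, hpy, add_zero]
  set B := 𝔅 w s with hB
  have hB0 : B ≠ 0 := by
    rw [hB, hs, QuadraticMap.polar_add_right, QuadraticMap.polar_comm (⇑Q) w p, hpw, zero_add]; exact hyw
  have hs0 : s ≠ 0 := fun e => hB0 (by rw [hB, e, QuadraticMap.polar_zero_right])
  set z := s + (B / Q w) • w with hzdef
  have hzD : z ∈ D l := (D l).add_mem hsD ((D l).smul_mem _ hw)
  have hzq : Q z = 2 * B * B / Q w := by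
    rw [hzdef, QuadraticMap.map_add (⇑Q), QuadraticMap.map_smul, hsq, QuadraticMap.polar_smul_right,
      QuadraticMap.polar_comm (⇑Q) s w, ← hB, smul_eq_mul, smul_eq_mul]
    field_simp
    ring
  have hz0 : Q z ≠ 0 := by rw [hzq]; exact div_ne_zero (mul_ne_zero (mul_ne_zero h2 hB0) hB0) hwq
  obtain ⟨m, hml, z', hz'D, hz'u, hz'q⟩ := exists_outer_value h hn hk hM h2 hu hp ho hpq hz0
  have hz'0 : Q z' ≠ 0 := hz'q ▸ hz0
  set u := p + o with hudef
  set k₀ := reflIso Q z hz0 * reflIso Q z' hz'0 with hk₀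
  have hk₀M : k₀ ∈ M := reflPair_mem h hn hk hM hz0 hz'0 hzD hz'D hz'q
  set σ := 2 * Q p with hσ
  have hσ0 : σ ≠ 0 := mul_ne_zero h2 hpq
  have hzu : 𝔅 z u = σ := by
    rw [hudef, polar_add_perp hzD ho, hzdef, QuadraticMap.polar_add_left, QuadraticMap.polar_smul_left, hsp,
      QuadraticMap.polar_comm (⇑Q) w p, hpw, smul_zero, add_zero]
  have hzw : 𝔅 z w = 3 * B := by
    rw [hzdef, QuadraticMap.polar_add_left, QuadraticMap.polar_smul_left, QuadraticMap.polar_comm (⇑Q) s w, ← hB,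
      polar_self', smul_eq_mul]
    field_simp
    ring
  have hku : mat Q k₀ *ᵥ u = u - ((Q z)⁻¹ * σ) • z := by
    rw [hk₀, mat_mul, ← mulVec_mulVec, mat_reflIso_mulVec, mat_reflIso_mulVec, refl_apply Q z', hz'u, mul_zero,
      zero_smul, sub_zero, refl_apply, hzu]
  have hkw : mat Q k₀ *ᵥ w = w - ((Q z)⁻¹ * (3 * B)) • z := by
    rw [hk₀, mat_mul, ← mulVec_mulVec, mat_reflIso_mulVec, mat_reflIso_mulVec, refl_apply Q z',
      h.perp hml hz'D hw, mul_zero, zero_smul, sub_zero, refl_apply, hzw]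
  have hu' : Q (mat Q k₀ *ᵥ u) = 0 := by rw [quad_mulVec, hu]
  have h1 := rootSpace_map hk₀M hwR hu'
  set c := -(B / Q w) / σ with hc
  have he := rootSpace_iso ((rootSpace M hu).smul_mem c hwR)
  set E := eichIso Q u (c • w) hu ((rootSpace M hu).smul_mem c hwR).1
  have hr' : Q (mat Q E *ᵥ (mat Q k₀ *ᵥ u)) = 0 := by rw [quad_mulVec, hu']
  have h2' := rootSpace_map he h1 hr'
  have hwu : 𝔅 w u = 0 := by rw [QuadraticMap.polar_comm]; exact hwR.1
  have huu : 𝔅 u u = 0 := by rw [polar_self', hu, mul_zero]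
  have huz : 𝔅 u z = σ := by rw [QuadraticMap.polar_comm, hzu]
  have hwz : 𝔅 w z = 3 * B := by rw [QuadraticMap.polar_comm, hzw]
  have hr : mat Q E *ᵥ (mat Q k₀ *ᵥ u) = (-((Q z)⁻¹ * σ)) • s := by
    rw [mat_eichIso, eich_mulVec, hku, QuadraticMap.polar_sub_right, QuadraticMap.polar_sub_right,
      QuadraticMap.polar_smul_left, QuadraticMap.polar_smul_left, QuadraticMap.polar_smul_right,
      QuadraticMap.polar_smul_right, QuadraticMap.map_smul, huu, hwu, huz, hwz]
    simp only [smul_eq_mul, zero_sub, mul_zero, hzdef, hc]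
    rw [hzq]
    match_scalars <;> field_simp <;> ring
  set lam := -((Q z)⁻¹ * σ) with hlam
  have hlam0 : lam ≠ 0 := neg_ne_zero.2 (mul_ne_zero (inv_ne_zero hz0) hσ0)
  refine omega_le_of_mixed h hn hk hM (hr.symm ▸ (D l).smul_mem _ hsD) (hr.symm ▸ smul_ne_zero hlam0 hs0) h2'
    fun hm => ?_
  rw [mat_eichIso, eich_mulVec, hkw, QuadraticMap.polar_sub_right, QuadraticMap.polar_sub_right,
    QuadraticMap.polar_smul_left, QuadraticMap.polar_smul_left, QuadraticMap.polar_smul_right,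
    QuadraticMap.polar_smul_right, QuadraticMap.map_smul, polar_self', hwz, huz, hwR.1] at hm
  simp only [smul_eq_mul, zero_sub] at hm
  have hkwD : w - ((Q z)⁻¹ * (3 * B)) • z ∈ D l := (D l).sub_mem hw ((D l).smul_mem _ hzD)
  rw [(D l).add_mem_iff_right hkwD, sub_sub,
    (D l).sub_mem_iff_right ((D l).smul_mem _ ((D l).smul_mem _ hw)), ← add_smul] at hm
  refine hul (((D l).smul_mem_iff ?_).1 hm)
  rw [hc, hzq]
  intro h0
  field_simp at h0
  refine mul_ne_zero h2 hB0 ?_
  ring_nf at h0 ⊢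
  exact h0

/-- A root group moved by the stabiliser of a nonsingular component: odd characteristic. -/
theorem omega_le_of_moved_odd (h2 : (2 : F) ≠ 0) (hq : k = 3 → 3 < Fintype.card F) {l : Fin t}
    {p o a o' : ι → F} {hu : Q (p + o) = 0} (hp : p ∈ D l) (ho : o ∈ qperp Q (D l)) (hul : p + o ∉ D l)
    (hpq : Q p ≠ 0) (ha : a ∈ D l) (ho' : o' ∈ qperp Q (D l)) (hv : a + o' ∈ rootSpace M hu)
    (hap : a ∉ Submodule.span F {p}) : Cfsg.Omega F ⇑Q ≤ M := by
  set W := D l ⊓ qperp Q (Submodule.span F {p}) with hWdef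
  have hW : Nd Q W := (h.nd l).inf_perp hp (by rw [polar_self']; exact mul_ne_zero h2 hpq)
  have hWd : k ≤ finrank F W + 1 := by
    have := finrank_le_inf_qperp_add_one h.nondeg (D l) p
    rwa [h.dim] at this
  have hWu : ∀ x ∈ W, 𝔅 x (p + o) = 0 := fun x hx => by
    rw [polar_add_perp hx.1 ho, QuadraticMap.polar_comm, mem_qperp_singleton.1 hx.2]
  obtain ⟨x, hx, hxa⟩ : ∃ x ∈ W, 𝔅 x a ≠ 0 := by
    by_contra! hall
    exact hap ((h.nd l).mem_span_of_perp hp ha fun x hx hpx => hall x ⟨hx, mem_qperp_singleton.2 hpx⟩)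
  by_cases hk4 : 4 ≤ k
  · obtain ⟨z, hz, hz0, hzq⟩ := exists_singular h.nondeg W (by omega)
    obtain ⟨z', hz', hzz'⟩ := hW.exists_polar_one hz hz0
    obtain ⟨s, hs, hsq, hsa⟩ := OrthMax.exists_singular_pairing hz hzq hz'
      (by rw [QuadraticMap.polar_comm, hzz']; exact one_ne_zero) hx hxa
    have hs0 : s ≠ 0 := fun e => hsa (by rw [e, QuadraticMap.polar_zero_left])
    obtain ⟨b, hb, b', hb', hsb, hsb', hbb⟩ := exists_pair_perp hW (by omega) hs hs0
    exact omega_le_of_mem h hn hk hM hul hs.1 hs0 hsq (mem_of_eich_pair h hn hk hM hs.1 hb.1 hb'.1 hsq hsb hsb'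
      hbb (hWu s hs) (hWu b hb) (hWu b' hb') hv (by rwa [polar_add_perp hs.1 ho']))
  have hq' := hq (by omega)
  obtain ⟨z, hz, hzq, hza⟩ : ∃ z ∈ W, Q z ≠ 0 ∧ 𝔅 z a ≠ 0 := by
    by_contra! hall
    have hxq : Q x = 0 := by_contra fun h' => hxa (hall x hx h')
    have hoff : ∀ y ∈ W, 𝔅 y a = 0 → Q y = 0 ∧ 𝔅 x y = 0 := by
      intro y hy hya
      have e1 : Q (x + y) = 0 := by_contra fun h' => hxa (by
        have := hall _ (W.add_mem hx hy) h'
        rwa [QuadraticMap.polar_add_left, hya, add_zero] at this)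
      have e2 : Q (x + (2 : F) • y) = 0 := by_contra fun h' => hxa (by
        have := hall _ (W.add_mem hx (W.smul_mem _ hy)) h'
        rwa [QuadraticMap.polar_add_left, QuadraticMap.polar_smul_left, hya, smul_zero, add_zero] at this)
      rw [QuadraticMap.map_add (⇑Q), hxq] at e1 e2
      rw [QuadraticMap.map_smul, QuadraticMap.polar_smul_right, smul_eq_mul, smul_eq_mul] at e2
      have hy0 : Q y = 0 := (mul_eq_zero.1 (by linear_combination e2 - 2 * e1 : (2 : F) * Q y = 0)).resolve_left h2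
      exact ⟨hy0, by linear_combination e1 - hy0⟩
    have hle : W ≤ Submodule.span F {x} := by
      intro y hy
      have hy' := (hoff (y - (𝔅 y a / 𝔅 x a) • x) (W.sub_mem hy (W.smul_mem _ hx)) (by
        rw [QuadraticMap.polar_sub_left, QuadraticMap.polar_smul_left, smul_eq_mul, div_mul_cancel₀ _ hxa,
          sub_self])).2
      rw [QuadraticMap.polar_sub_right, QuadraticMap.polar_smul_right, polar_self', hxq, mul_zero, smul_zero,
        sub_zero] at hy'
      refine hW.mem_span_of_perp hx hy fun v hv hxv => ?_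
      set c := 𝔅 v a / 𝔅 x a with hc
      have hv1 := hoff (v - c • x) (W.sub_mem hv (W.smul_mem _ hx)) (by
        rw [QuadraticMap.polar_sub_left, QuadraticMap.polar_smul_left, smul_eq_mul, hc, div_mul_cancel₀ _ hxa,
          sub_self])
      set d := 𝔅 y a / 𝔅 x a with hd
      have hy1 := hoff (y - d • x) (W.sub_mem hy (W.smul_mem _ hx)) (by
        rw [QuadraticMap.polar_sub_left, QuadraticMap.polar_smul_left, smul_eq_mul, hd, div_mul_cancel₀ _ hxa,
          sub_self])
      have hvy := hoff (v - c • x + (y - d • x)) (W.add_mem (W.sub_mem hv (W.smul_mem _ hx))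
        (W.sub_mem hy (W.smul_mem _ hx))) (by
        simp only [QuadraticMap.polar_add_left, QuadraticMap.polar_sub_left, QuadraticMap.polar_smul_left,
          smul_eq_mul, hc, hd, div_mul_cancel₀ _ hxa, sub_self, add_zero])
      have := hvy.1
      rw [QuadraticMap.map_add (⇑Q), hv1.1, hy1.1] at this
      simp only [QuadraticMap.polar_sub_left, QuadraticMap.polar_sub_right, QuadraticMap.polar_smul_left,
        QuadraticMap.polar_smul_right, polar_self', hxq, hxv, hy', QuadraticMap.polar_comm (⇑Q) v x, mul_zero,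
        smul_zero, sub_zero, zero_add] at this
      exact this
    have h1 := Submodule.finrank_mono hle
    have h3 : finrank F (Submodule.span F {x}) ≤ 1 := (finrank_span_le_card _).trans (by simp)
    omega
  obtain ⟨t₁, ht₁, hzt₁⟩ : ∃ t₁ ∈ W, 𝔅 z t₁ = 0 ∧ t₁ ∉ Submodule.span F {z} := by
    by_contra! hall
    have hle : W ⊓ qperp Q (Submodule.span F {z}) ≤ Submodule.span F {z} := fun y hy =>
      hall y hy.1 (mem_qperp_singleton.1 hy.2)
    have h0 : W ⊓ qperp Q (Submodule.span F {z}) = ⊥ := (Submodule.eq_bot_iff _).2 fun y hy => by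
      obtain ⟨c, rfl⟩ := Submodule.mem_span_singleton.1 (hle hy)
      have := mem_qperp_singleton.1 hy.2
      rw [QuadraticMap.polar_smul_right, polar_self', smul_eq_mul, mul_eq_zero] at this
      rw [this.resolve_right (mul_ne_zero h2 hzq), zero_smul]
    have := finrank_le_inf_qperp_add_one h.nondeg W z
    rw [h0, finrank_bot] at this
    omega
  obtain ⟨hzt, ht₁n⟩ := hzt₁
  obtain ⟨μ, hμ0, hμ⟩ : ∃ μ : F, μ ≠ 0 ∧ Q z + μ * μ * Q t₁ ≠ 0 := by
    by_contra! hall
    refine absurd (card_le_three fun c => ?_) (by omega : ¬ Fintype.card F ≤ 3)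
    rcases eq_or_ne c 0 with hc | hc
    · exact Or.inl hc
    have ht0 : Q t₁ ≠ 0 := fun e => hzq (by linear_combination hall 1 one_ne_zero - e)
    exact Or.inr (mul_self_eq_one_iff.1 (mul_right_cancel₀ ht0 (by linear_combination hall c hc - hall 1 one_ne_zero)))
  set y := z + μ • t₁ with hy
  have hyq : Q y = Q z + μ * μ * Q t₁ := by
    rw [hy, QuadraticMap.map_add (⇑Q), QuadraticMap.map_smul, QuadraticMap.polar_smul_right, hzt, smul_zero,
      add_zero, smul_eq_mul]
  have hy0 : Q y ≠ 0 := hyq ▸ hμ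
  have hyz : 𝔅 y z = 2 * Q z := by
    rw [hy, QuadraticMap.polar_add_left, QuadraticMap.polar_smul_left, QuadraticMap.polar_comm (⇑Q) t₁ z, hzt,
      polar_self', smul_zero, add_zero]
  set z' := mat Q (reflIso Q y hy0) *ᵥ z with hz'
  have hz'q : Q z' = Q z := quad_mulVec _ _ _
  have hz'W : z' ∈ W := by
    rw [hz', mat_reflIso_mulVec, refl_apply]
    exact W.sub_mem hz (W.smul_mem _ (W.add_mem hz (W.smul_mem _ ht₁)))
  set k₀ := reflIso Q z hzq * reflIso Q z' (hz'q ▸ hzq) with hk₀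
  have hk₀M : k₀ ∈ M := reflPair_mem h hn hk hM hzq (hz'q ▸ hzq) hz.1 hz'W.1 hz'q
  have hku : mat Q k₀ *ᵥ (p + o) = p + o := by
    rw [hk₀, mat_mul, ← mulVec_mulVec, mat_reflIso_mulVec, mat_reflIso_mulVec, refl_apply Q z', hWu z' hz'W,
      mul_zero, zero_smul, sub_zero, refl_apply, hWu z hz, mul_zero, zero_smul, sub_zero]
  have hwR := rootSpace_fixed hk₀M hku hv
  set w := mat Q k₀ *ᵥ (a + o') - (a + o') with hw
  have hwD : w ∈ D l := by
    rw [hw, hk₀, mat_mul, ← mulVec_mulVec, mat_reflIso_mulVec, mat_reflIso_mulVec, refl_apply Q z', refl_apply,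
      show ∀ X A B : ι → F, X - A - B - X = -A - B from fun X A B => by abel]
    exact (D l).sub_mem ((D l).neg_mem ((D l).smul_mem _ hz'W.1)) ((D l).smul_mem _ hz.1)
  have hw0 : w ≠ 0 := by
    intro e
    rw [hw, sub_eq_zero, hk₀, mat_mul, ← mulVec_mulVec, mat_reflIso_mulVec, mat_reflIso_mulVec] at e
    have e' : refl Q z' (a + o') = refl Q z (a + o') := by
      have := congrArg (refl Q z) e
      rwa [refl_refl Q hzq] at this
    simp only [refl_apply, polar_add_perp hz.1 ho', polar_add_perp hz'W.1 ho', sub_right_inj] at e'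
    rw [hz'q] at e'
    have hne : (Q z)⁻¹ * 𝔅 z a ≠ 0 := mul_ne_zero (inv_ne_zero hzq) hza
    have hmem : z' ∈ Submodule.span F {z} := by
      refine Submodule.mem_span_singleton.2 ⟨((Q z)⁻¹ * 𝔅 z' a)⁻¹ * ((Q z)⁻¹ * 𝔅 z a), ?_⟩
      rw [mul_smul, ← e', inv_smul_smul₀ fun h0 => hne ((smul_eq_zero.1 (by rw [← e', h0, zero_smul])).resolve_right
        fun hz0 => hzq (by rw [hz0, QuadraticMap.map_zero]))]
    rw [hz', mat_reflIso_mulVec, refl_apply, Submodule.sub_mem_iff_right _ (Submodule.mem_span_singleton_self z),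
      Submodule.smul_mem_iff _ (mul_ne_zero (inv_ne_zero hy0) (by rw [hyz]; exact mul_ne_zero h2 hzq)), hy,
      Submodule.add_mem_iff_right _ (Submodule.mem_span_singleton_self z), Submodule.smul_mem_iff _ hμ0] at hmem
    exact ht₁n hmem
  by_cases hwq : Q w = 0
  · exact omega_le_of_mem h hn hk hM hul hwD hw0 hwq hwR
  · exact omega_le_of_inner h hn hk hM h2 hq' hp ho hul hpq hwD hwR hwq

/-- A singular vector orthogonal to a nonsingular one, seen by a given vector: characteristic two. -/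
theorem exists_singular_two (h2 : (2 : F) = 0) {l : Fin t} {p a : ι → F} (hp : p ∈ D l) (hpq : Q p ≠ 0)
    (ha : a ∈ D l) (hap : a ∉ Submodule.span F {p}) : ∃ s ∈ D l, Q s = 0 ∧ 𝔅 p s = 0 ∧ 𝔅 s a ≠ 0 := by
  haveI : CharP F 2 := CharTwo.of_one_ne_zero_of_two_eq_zero one_ne_zero h2
  have hpp : 𝔅 p p = 0 := by rw [polar_self', h2, zero_mul]
  by_contra! hall
  have key : ∀ y ∈ D l, 𝔅 p y = 0 → ∃ μ : F, μ * μ * Q p = Q y ∧ 𝔅 y a + μ * 𝔅 p a = 0 := by
    intro y hy hpy
    obtain ⟨μ, hμ⟩ := FiniteField.isSquare_of_char_two (ringChar.eq F 2) (Q y / Q p)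
    have hμ' : μ * μ * Q p = Q y := by rw [← hμ, div_mul_cancel₀ _ hpq]
    refine ⟨μ, hμ', ?_⟩
    have := hall (y + μ • p) ((D l).add_mem hy ((D l).smul_mem _ hp)) (by
      rw [QuadraticMap.map_add (⇑Q), QuadraticMap.map_smul, QuadraticMap.polar_smul_right,
        QuadraticMap.polar_comm (⇑Q) y p, hpy, smul_zero, add_zero, smul_eq_mul, hμ']
      linear_combination Q y * h2) (by
      rw [QuadraticMap.polar_add_right, QuadraticMap.polar_smul_right, hpy, hpp, smul_zero, add_zero])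
    rwa [QuadraticMap.polar_add_left, QuadraticMap.polar_smul_left, smul_eq_mul] at this
  by_cases hπ : 𝔅 p a = 0
  · refine hap ((h.nd l).mem_span_of_perp hp ha fun y hy hpy => ?_)
    obtain ⟨μ, -, hμ⟩ := key y hy hpy
    rwa [hπ, mul_zero, add_zero] at hμ
  obtain ⟨b, hb, b', hb', hpb, hpb', hbb⟩ := exists_pair_perp (h.nd l) (by rw [h.dim]; exact hk) hp
    (fun e => hpq (by rw [e, QuadraticMap.map_zero]))
  obtain ⟨μ, e1, e2⟩ := key b hb hpb
  obtain ⟨μ', e3, e4⟩ := key b' hb' hpb'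
  obtain ⟨ν, e5, e6⟩ := key (b + b') ((D l).add_mem hb hb') (by rw [QuadraticMap.polar_add_right, hpb, hpb', add_zero])
  rw [QuadraticMap.polar_add_left] at e6
  have hν : ν = μ + μ' := mul_right_cancel₀ hπ (by linear_combination e6 - e2 - e4)
  rw [QuadraticMap.map_add (⇑Q), hν] at e5
  exact hbb (by linear_combination e1 + e3 - e5 + μ * μ' * Q p * h2)

/-- A root group moved by the stabiliser of a nonsingular component: even characteristic, four elements or more. -/
theorem omega_le_of_moved_two (h2 : (2 : F) = 0) (hq : 2 < Fintype.card F) {l : Fin t} {p o a o' : ι → F}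
    {hu : Q (p + o) = 0} (hp : p ∈ D l) (ho : o ∈ qperp Q (D l)) (hul : p + o ∉ D l) (hpq : Q p ≠ 0)
    (ha : a ∈ D l) (ho' : o' ∈ qperp Q (D l)) (hv : a + o' ∈ rootSpace M hu)
    (hap : a ∉ Submodule.span F {p}) : Cfsg.Omega F ⇑Q ≤ M := by
  obtain ⟨s, hs, hsq, hps, hsa⟩ := exists_singular_two h hn hk hM h2 hp hpq ha hap
  obtain ⟨μ, hμ0, hμ1⟩ : ∃ μ : F, μ ≠ 0 ∧ μ ≠ 1 := by
    classical
    by_contra! hall
    have : (Finset.univ : Finset F) ⊆ {0, 1} := fun c _ => by
      rcases eq_or_ne c 0 with h' | h'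
      · simp [h']
      · simp [hall c h']
    have := (Finset.card_le_card this).trans Finset.card_le_two
    rw [Finset.card_univ] at this
    omega
  have hus : 𝔅 s (p + o) = 0 := by rw [polar_add_perp hs ho, QuadraticMap.polar_comm, hps]
  have hup : ∀ c : F, 𝔅 (c • p) (p + o) = 0 := fun c => by
    rw [QuadraticMap.polar_smul_left, polar_add_perp hp ho, polar_self', h2, zero_mul, smul_zero]
  have hsp : ∀ c : F, 𝔅 s (c • p) = 0 := fun c => by
    rw [QuadraticMap.polar_smul_right, QuadraticMap.polar_comm, hps, smul_zero]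
  set T := rootSpace M hu
  have e1 := eich_diff_mem h hn (by omega) hM hs ((D l).smul_mem (1 : F) hp) hsq (hsp 1) hus (hup 1) hv
  have e2 := eich_diff_mem h hn (by omega) hM hs ((D l).smul_mem μ hp) hsq (hsp μ) hus (hup μ) hv
  have key : ((μ * μ - μ) * (Q p * 𝔅 s (a + o'))) • s ∈ T := by
    convert T.sub_mem (T.smul_mem μ e1) e2 using 1
    simp only [QuadraticMap.polar_smul_left, QuadraticMap.map_smul, smul_eq_mul]
    module
  refine omega_le_of_mem h hn hk hM hul hs (fun e => hsa (by rw [e, QuadraticMap.polar_zero_left])) hsq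
    ((T.smul_mem_iff (mul_ne_zero ?_ (mul_ne_zero hpq (by rwa [polar_add_perp hs ho'])))).1 key)
  rw [show μ * μ - μ = μ * (μ - 1) by ring]
  exact mul_ne_zero hμ0 (sub_ne_zero.2 hμ1)

/-- Pushing a root of a member by an element whose component is a multiple of that of the point. -/
theorem exists_push {l : Fin t} {p o o' : ι → F} {c : F} {hu : Q (p + o) = 0} (hp : p ∈ D l)
    (ho : o ∈ qperp Q (D l)) (hp0 : p ≠ 0) (ho' : o' ∈ qperp Q (D l)) (hv : c • p + o' ∈ rootSpace M hu)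
    (hvq : Q (c • p + o') ≠ 0)
    (hind : ∀ κ : F, o' ≠ κ • o) :
    ∃ (r : ι → F) (α : F) (p' o'' b : ι → F) (hu' : Q (p' + o'') = 0), r ∈ D l ∧ Q r = 0 ∧ α = 𝔅 p r ∧ α ≠ 0 ∧
      p' = r - (α * Q (c • p + o')) • p ∧ p' ∈ D l ∧ o'' ∈ qperp Q (D l) ∧ p' + o'' ∉ D l ∧
      b ∈ D l ∧ b ∈ rootSpace M hu' ∧ b ∉ Submodule.span F {p'} := by
  obtain ⟨x, hx, hpx⟩ := (h.nd l).exists_polar_one hp hp0
  obtain ⟨z, hz, hz0, hzq⟩ := exists_singular h.nondeg (D l) (by rw [h.dim]; exact hk)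
  obtain ⟨z', hz', hzz'⟩ := (h.nd l).exists_polar_one hz hz0
  obtain ⟨r, hr, hrq, hrp⟩ := OrthMax.exists_singular_pairing hz hzq hz'
    (by rw [QuadraticMap.polar_comm, hzz']; exact one_ne_zero) hx
    (b := p) (by rw [QuadraticMap.polar_comm, hpx]; exact one_ne_zero)
  obtain ⟨b, hbK, hb0⟩ := Submodule.exists_mem_ne_zero_of_ne_bot
    (p := D l ⊓ qperp Q (Submodule.span F {r, p})) (fun e => by
      have h1 := Submodule.finrank_sup_add_finrank_inf_eq (D l) (qperp Q (Submodule.span F {r, p}))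
      have h2 := Submodule.finrank_le (D l ⊔ qperp Q (Submodule.span F {r, p}))
      have h3 := finrank_span_pair_le r p
      have h4 := Submodule.finrank_le (Submodule.span F {r, p})
      rw [e, finrank_bot, finrank_qperp h.nondeg, h.dim] at h1
      rw [Module.finrank_pi] at h2 h4
      omega)
  obtain ⟨hb, hbK'⟩ := hbK
  obtain ⟨hrb, hpb⟩ := mem_qperp_span_pair.1 hbK'
  set u := p + o with hudef
  set v := c • p + o' with hvdef
  set α := 𝔅 p r with hα
  have hα0 : α ≠ 0 := by rw [hα, QuadraticMap.polar_comm]; exact hrp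
  have hur : 𝔅 u r = α := by rw [QuadraticMap.polar_comm, hudef, polar_add_perp hr ho, QuadraticMap.polar_comm]
  have hvr : 𝔅 v r = c * α := by
    rw [QuadraticMap.polar_comm, hvdef, polar_add_perp hr ho', QuadraticMap.polar_smul_right,
      QuadraticMap.polar_comm (⇑Q) r p, smul_eq_mul]
  set E := eichIso Q u v hu hv.1 with hE
  have hEM : E ∈ M := rootSpace_iso hv
  set p' := r - (α * Q v) • p with hp'
  set o'' := α • o' - (c * α + α * Q v) • o with ho''
  have hEr : mat Q E *ᵥ r = p' + o'' := by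
    rw [hE, mat_eichIso, eich_mulVec, hur, hvr, hp', ho'', hudef, hvdef]
    module
  have hu' : Q (p' + o'') = 0 := by rw [← hEr, quad_mulVec, hrq]
  have hp'D : p' ∈ D l := (D l).sub_mem hr ((D l).smul_mem _ hp)
  have ho''D : o'' ∈ qperp Q (D l) := Submodule.sub_mem _ (Submodule.smul_mem _ _ ho') (Submodule.smul_mem _ _ ho)
  have hbu : 𝔅 u b = 0 := by rw [QuadraticMap.polar_comm, hudef, polar_add_perp hb ho, QuadraticMap.polar_comm, hpb]
  have hbv : 𝔅 v b = 0 := by
    rw [QuadraticMap.polar_comm, hvdef, polar_add_perp hb ho', QuadraticMap.polar_smul_right,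
      QuadraticMap.polar_comm (⇑Q) b p, hpb, smul_zero]
  have hbR : b ∈ rootSpace M hu' := by
    have hEb : mat Q E *ᵥ b = b := by
      rw [hE, mat_eichIso, eich_mulVec, hbu, hbv]
      simp
    have := rootSpace_map hEM (rootMem_internal h hn (by omega) hM hr hb hrq hrb) (by rw [hEr]; exact hu')
    rw [hEb] at this
    refine ⟨by rw [← hEr]; exact this.1, fun e => ?_⟩
    rw [← hEr]
    exact this.2 e
  refine ⟨r, α, p', o'', b, hu', hr, hrq, hα, hα0, rfl, hp'D, ho''D, fun hm => ?_, hb, hbR, fun hm => ?_⟩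
  · have : o'' = 0 := (Submodule.eq_bot_iff _).1 (h.nd l).inf_qperp o''
      ⟨((D l).add_mem_iff_right hp'D).1 hm, ho''D⟩
    rw [ho'', sub_eq_zero] at this
    refine hind (α⁻¹ * (c * α + α * Q v)) ?_
    rw [mul_smul, ← this, inv_smul_smul₀ hα0]
  · obtain ⟨e, rfl⟩ := Submodule.mem_span_singleton.1 hm
    rw [QuadraticMap.polar_smul_right, hp', QuadraticMap.polar_sub_right, QuadraticMap.polar_smul_right,
      polar_self', hrq, mul_zero, zero_sub, QuadraticMap.polar_comm (⇑Q) r p, ← hα, smul_eq_mul, smul_eq_mul,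
      mul_eq_zero] at hrb
    rcases hrb with he | he
    · exact hb0 (by rw [he, zero_smul])
    · exact mul_ne_zero (mul_ne_zero hα0 hvq) hα0 (neg_eq_zero.1 he)

end Setting

end CfsgLib.OrthMax
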