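import Cfsg.Agent.OrthMax.DecompTools

/-!
# Decompositions into hyperbolic planes over two or four elements, and into `4⁺`-spaces over two

`not_maximal_decomp_even` assembles the cases of characteristic two.
-/

set_option autoImplicit false
set_option linter.unusedSectionVars false

namespace CfsgLib.OrthMax

open Matrix Module CfsgLib.Spinor CfsgLib.Forms Cfsg.Geo CfsgLib.OmegaOrbits

variable {F : Type*} [Field F] {ι : Type} [Fintype ι] [DecidableEq ι] {Q : QuadraticForm F (ι → F)}
variable [Fintype F]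

set_option quotPrecheck false in
local notation "𝔅" => QuadraticMap.polar (⇑Q)

variable {t : ℕ} {D : Fin t → Submodule F (ι → F)}

/-- An isometry mapping a set into itself stabilises it. -/
theorem mem_setStab_of_mapsTo {s : Set (ι → F)} {g : Isom Q} (h : ∀ x ∈ s, mat Q g *ᵥ x ∈ s) :
    (g : GL ι F) ∈ MaxSub.setStab s := by
  classical
  have : Finite (ι → F) := inferInstance
  let f : s → s := fun x => ⟨mat Q g *ᵥ (x : ι → F), h x x.2⟩
  have hf : Function.Injective f := fun x y e =>
    Subtype.ext (OmegaOrbits.mulVec_injective g (congrArg Subtype.val e))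
  refine MaxSub.mem_setStab.2 fun x => ⟨fun hx => ?_, h x⟩
  obtain ⟨y, hy⟩ := (Finite.injective_iff_surjective.1 hf) ⟨_, hx⟩
  rw [← show (y : ι → F) = x from OmegaOrbits.mulVec_injective g (congrArg Subtype.val hy)]
  exact y.2

/-- Hyperbolic planes whose vectors of value one span a lattice with small scalar products. -/
theorem not_maximal_planes_two (hQ : (QuadraticMap.polarBilin Q).Nondegenerate) (hn : 5 ≤ Fintype.card ι)
    (h2 : (2 : F) = 0) (ht : 3 ≤ t)
    (horth : ∀ i j, i ≠ j → AreOrthogonalFor (QuadraticMap.polar ⇑Q) (D i) (D j))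
    (hdim : ∀ i, finrank F (D i) = 2) {e f : Fin t → ι → F} (he : ∀ i, e i ∈ D i) (hf : ∀ i, f i ∈ D i)
    (heq : ∀ i, Q (e i) = 0) (hfq : ∀ i, Q (f i) = 0) (hef : ∀ i, 𝔅 (e i) (f i) = 1)
    (S : AddSubgroup F) (hS : ∀ x : F, x ≠ 0 → x + x⁻¹ ∈ S) (hS1 : S ≤ AddSubgroup.zmultiples (1 : F))
    {l : F} (hl : l ∉ S) :
    ∃ K : Subgroup (GL ι F), decompositionStabilizer D ⊓ omegaGL ⇑Q < K ∧ K < omegaGL ⇑Q := by
  have hfe : ∀ i, 𝔅 (f i) (e i) = 1 := fun i => by rw [QuadraticMap.polar_comm, hef]
  have hee : ∀ i, 𝔅 (e i) (e i) = 0 := fun i => by rw [polar_self', h2, zero_mul]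
  have hff : ∀ i, 𝔅 (f i) (f i) = 0 := fun i => by rw [polar_self', h2, zero_mul]
  set gens : Set (ι → F) := {v | ∃ i, v ∈ D i ∧ Q v = 1} with hgens
  set L := AddSubgroup.closure gens with hL
  have hgen : ∀ u ∈ gens, ∀ v ∈ gens, 𝔅 u v ∈ S := by
    rintro u ⟨i, hu, huq⟩ v ⟨j, hv, hvq⟩
    by_cases hij : i = j
    · subst hij
      rw [eq_pair_coords (hdim i) (he i) (hf i) (heq i) (hfq i) (hef i) hu] at huq ⊢
      rw [eq_pair_coords (hdim i) (he i) (hf i) (heq i) (hfq i) (hef i) hv] at hvq ⊢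
      generalize 𝔅 (f i) u = x at huq ⊢
      generalize 𝔅 (e i) u = y at huq ⊢
      generalize 𝔅 (f i) v = x' at hvq ⊢
      generalize 𝔅 (e i) v = y' at hvq ⊢
      rw [QuadraticMap.map_add (⇑Q), QuadraticMap.map_smul, QuadraticMap.map_smul, heq, hfq,
        QuadraticMap.polar_smul_left, QuadraticMap.polar_smul_right, hef] at huq hvq
      simp only [smul_eq_mul, mul_zero, zero_add, mul_one] at huq hvq
      have hx := left_ne_zero_of_mul_eq_one huq
      have hx' := left_ne_zero_of_mul_eq_one hvq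
      rw [show y = x⁻¹ from eq_inv_of_mul_eq_one_right huq, show y' = x'⁻¹ from eq_inv_of_mul_eq_one_right hvq]
      simp only [QuadraticMap.polar_add_left, QuadraticMap.polar_add_right, QuadraticMap.polar_smul_left,
        QuadraticMap.polar_smul_right, hef, hfe, hee, hff, smul_eq_mul, mul_zero, mul_one, add_zero, zero_add]
      have := hS (x * x'⁻¹) (mul_ne_zero hx (inv_ne_zero hx'))
      rw [mul_inv, inv_inv] at this
      convert this using 1
      ring
    · rw [horth i j hij u hu v hv]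
      exact S.zero_mem
  have hLS : ∀ u ∈ L, ∀ v ∈ L, 𝔅 u v ∈ S := by
    intro u hu v hv
    induction hv using AddSubgroup.closure_induction with
    | mem v hv =>
      induction hu using AddSubgroup.closure_induction with
      | mem u hu => exact hgen u hu v hv
      | zero => rw [QuadraticMap.polar_zero_left]; exact S.zero_mem
      | add x y _ _ hx hy => rw [QuadraticMap.polar_add_left]; exact S.add_mem hx hy
      | neg x _ hx => rw [QuadraticMap.polar_neg_left]; exact S.neg_mem hx
    | zero => rw [QuadraticMap.polar_zero_right]; exact S.zero_mem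
    | add x y _ _ hx hy => rw [QuadraticMap.polar_add_right]; exact S.add_mem hx hy
    | neg x _ hx => rw [QuadraticMap.polar_neg_right]; exact S.neg_mem hx
  have hsmul : ∀ c ∈ S, ∀ v ∈ L, c • v ∈ L := by
    intro c hc v hv
    obtain ⟨m, rfl⟩ := AddSubgroup.mem_zmultiples_iff.1 (hS1 hc)
    rw [smul_assoc, one_smul]
    exact L.zsmul_mem hv m
  have haL : ∀ i, e i + f i ∈ L := fun i => AddSubgroup.subset_closure
    ⟨i, (D i).add_mem (he i) (hf i), by rw [QuadraticMap.map_add (⇑Q), heq, hfq, hef, zero_add, zero_add]⟩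
  set i0 : Fin t := ⟨0, by omega⟩
  set i1 : Fin t := ⟨1, by omega⟩
  set i2 : Fin t := ⟨2, by omega⟩
  have n01 : i0 ≠ i1 := by simp [i0, i1, Fin.ext_iff]
  have n02 : i0 ≠ i2 := by simp [i0, i2, Fin.ext_iff]
  have n12 : i1 ≠ i2 := by simp [i1, i2, Fin.ext_iff]
  have ho : ∀ {i j}, i ≠ j → ∀ {u v}, u ∈ D i → v ∈ D j → 𝔅 u v = 0 := fun h _ _ hu hv => horth _ _ h _ hu _ hv
  have hmem : ∀ i, e i + f i ∈ D i := fun i => (D i).add_mem (he i) (hf i)
  have hqa : ∀ i, Q (e i + f i) = 1 := fun i => by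
    rw [QuadraticMap.map_add (⇑Q), heq, hfq, hef, zero_add, zero_add]
  refine not_maximal_omega (T := MaxSub.setStab (L : Set (ι → F))) ?_ ?_ ?_
  · rintro _ ⟨⟨σ, hσ⟩, g, -, rfl⟩
    refine mem_setStab_of_mapsTo fun x hx => ?_
    induction hx using AddSubgroup.closure_induction with
    | mem v hv =>
      obtain ⟨i, hv, hvq⟩ := hv
      refine AddSubgroup.subset_closure ⟨σ i, ?_, by rw [quad_mulVec]; exact hvq⟩
      rw [← hσ i]
      exact Submodule.mem_map_of_mem hv
    | zero => rw [mulVec_zero]; exact L.zero_mem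
    | add x y _ _ hx hy => rw [mulVec_add]; exact L.add_mem hx hy
    | neg x _ hx => rw [mulVec_neg]; exact L.neg_mem hx
  · set p := (e i0 + f i0) + (e i1 + f i1) with hpdef
    set w := e i2 + f i2 with hwdef
    have hpq : Q p = 0 := by
      rw [hpdef, QuadraticMap.map_add (⇑Q), hqa, hqa, ho n01 (hmem i0) (hmem i1)]
      linear_combination h2
    have hpw : 𝔅 p w = 0 := by
      rw [hpdef, hwdef, QuadraticMap.polar_add_left, ho n02 (hmem i0) (hmem i2), ho n12 (hmem i1) (hmem i2),
        add_zero]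
    refine ⟨eichIso Q p w hpq hpw, eich_mem_omega hQ hn hpq hpw, mem_setStab_of_mapsTo fun x hx => ?_,
      fun ⟨σ, hσ⟩ => ?_⟩
    · have hpL : p ∈ L := L.add_mem (haL i0) (haL i1)
      rw [mat_eichIso, eich_mulVec, hwdef, hqa, one_mul, ← hwdef]
      exact L.add_mem hx (L.sub_mem (L.sub_mem (hsmul _ (hLS p hpL x hx) w (haL i2))
        (hsmul _ (hLS w (haL i2) x hx) p hpL)) (hsmul _ (hLS p hpL x hx) p hpL))
    · have h : mat Q (eichIso Q p w hpq hpw) *ᵥ f i0 ∈ D (σ i0) := by
        rw [← hσ i0]; exact Submodule.mem_map_of_mem (hf i0)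
      rw [mat_eichIso, eich_mulVec, hwdef, hqa, ← hwdef,
        show 𝔅 p (f i0) = 1 by
          rw [hpdef, QuadraticMap.polar_add_left, QuadraticMap.polar_add_left, hef, hff,
            ho n01.symm (hmem i1) (hf i0), add_zero, add_zero],
        show 𝔅 w (f i0) = 0 from ho n02.symm (hmem i2) (hf i0)] at h
      simp only [zero_smul, one_smul, one_mul, sub_zero] at h
      have e0 : σ i0 = i0 := eq_of_pairing horth h (hf i0) (by
        simp [hwdef, hpdef, QuadraticMap.polar_add_left, QuadraticMap.polar_sub_left, hef, hff,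
          ho n02.symm (he i2) (hf i0), ho n02.symm (hf i2) (hf i0), ho n01.symm (he i1) (hf i0),
          ho n01.symm (hf i1) (hf i0)])
      have e2 : σ i0 = i2 := eq_of_pairing horth h (he i2) (by
        simp [hwdef, hpdef, QuadraticMap.polar_add_left, QuadraticMap.polar_sub_left, hfe, hee,
          ho n02 (he i0) (he i2), ho n02 (hf i0) (he i2), ho n12 (he i1) (he i2), ho n12 (hf i1) (he i2)])
      exact n02 (e0.symm.trans e2)
  · set p := l • e i0 + e i1 with hpdef
    have hpq : Q p = 0 := by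
      rw [hpdef, QuadraticMap.map_add (⇑Q), QuadraticMap.map_smul, heq, heq, QuadraticMap.polar_smul_left,
        ho n01 (he i0) (he i1)]
      simp
    have hp2 : ∀ {v : ι → F}, v ∈ D i2 → 𝔅 p v = 0 := fun hv => by
      rw [hpdef, QuadraticMap.polar_add_left, QuadraticMap.polar_smul_left, ho n02 (he i0) hv,
        ho n12 (he i1) hv, smul_zero, add_zero]
    refine ⟨eichIso Q p (e i2) hpq (hp2 (he i2)), eich_mem_omega hQ hn hpq _, fun hs => hl ?_⟩
    have h := (MaxSub.mem_setStab.1 hs (e i2 + f i2)).2 (haL i2)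
    change mat Q (eichIso Q p (e i2) hpq (hp2 (he i2))) *ᵥ (e i2 + f i2) ∈ L at h
    rw [mat_eichIso, eich_mulVec, hp2 (hmem i2), heq, QuadraticMap.polar_add_right, hee, hef] at h
    simp only [zero_smul, zero_add, one_smul, mul_zero, sub_zero, zero_sub,
      L.add_mem_cancel_left (haL i2), neg_mem_iff] at h
    have := hLS p h (e i0 + f i0) (haL i0)
    rw [hpdef, QuadraticMap.polar_add_left, QuadraticMap.polar_smul_left, ho n01.symm (he i1) (hmem i0),
      QuadraticMap.polar_add_right, hee, hef] at this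
    simpa using this

/-- `4⁺`-spaces over two elements, each split into two anisotropic planes. -/
theorem not_maximal_four_two (hQ : (QuadraticMap.polarBilin Q).Nondegenerate) (hn : 5 ≤ Fintype.card ι)
    (hF : ∀ x : F, x = 0 ∨ x = 1) (h2 : (2 : F) = 0) (ht : 2 ≤ t) (htn : 5 ≤ Fintype.card ι)
    (horth : ∀ i j, i ≠ j → AreOrthogonalFor (QuadraticMap.polar ⇑Q) (D i) (D j))
    (hdim : ∀ i, finrank F (D i) = 4) {b : Fin t → Fin 2 → Fin 2 → ι → F} (hb : ∀ i s r, b i s r ∈ D i)
    (hbq : ∀ i s r, Q (b i s r) = 1) (hbb : ∀ i s, 𝔅 (b i s 0) (b i s 1) = 1)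
    (hbo : ∀ i r r', 𝔅 (b i 0 r) (b i 1 r') = 0) :
    ∃ K : Subgroup (GL ι F), decompositionStabilizer D ⊓ omegaGL ⇑Q < K ∧ K < omegaGL ⇑Q := by
  let P : Fin t × Fin 2 → Submodule F (ι → F) := fun x => Submodule.span F {b x.1 x.2 0, b x.1 x.2 1}
  have hbP : ∀ i s r, b i s r ∈ P (i, s) := fun i s r => by
    fin_cases r <;> exact Submodule.subset_span (by simp)
  have hself : ∀ i s r, 𝔅 (b i s r) (b i s r) = 0 := fun i s r => by rw [polar_self', h2, zero_mul]
  have hbb' : ∀ i s, 𝔅 (b i s 1) (b i s 0) = 1 := fun i s => by rw [QuadraticMap.polar_comm, hbb]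
  have hbo' : ∀ i s s', s ≠ s' → ∀ r r', 𝔅 (b i s r) (b i s' r') = 0 := by
    intro i s s' hss r r'
    fin_cases s <;> fin_cases s'
    · exact absurd rfl hss
    · exact hbo i r r'
    · rw [QuadraticMap.polar_comm]; exact hbo i r' r
    · exact absurd rfl hss
  have hPo : ∀ x y, x ≠ y → AreOrthogonalFor (QuadraticMap.polar ⇑Q) (P x) (P y) := by
    intro x y hxy u hu v hv
    obtain ⟨c, d, rfl⟩ := Submodule.mem_span_pair.1 hu
    obtain ⟨c', d', rfl⟩ := Submodule.mem_span_pair.1 hv
    have hz : ∀ r r', 𝔅 (b x.1 x.2 r) (b y.1 y.2 r') = 0 := fun r r' => by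
      by_cases h1 : x.1 = y.1
      · rw [h1]; exact hbo' _ _ _ (fun h => hxy (Prod.ext h1 h)) r r'
      · exact horth _ _ h1 _ (hb _ _ _) _ (hb _ _ _)
    simp [QuadraticMap.polar_add_left, QuadraticMap.polar_add_right, QuadraticMap.polar_smul_left,
      QuadraticMap.polar_smul_right, hz]
  have hcoord : ∀ x, ∀ z ∈ P x, z = 𝔅 (b x.1 x.2 1) z • b x.1 x.2 0 + 𝔅 (b x.1 x.2 0) z • b x.1 x.2 1 := by
    intro x z hz
    obtain ⟨c, d, rfl⟩ := Submodule.mem_span_pair.1 hz
    simp [QuadraticMap.polar_add_right, QuadraticMap.polar_smul_right, hbb, hbb', hself]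
  have hPn : ∀ x, Nd Q (P x) := fun x z hz hzero => by
    rw [hcoord x z hz, hzero _ (hbP _ _ 1), hzero _ (hbP _ _ 0), zero_smul, zero_smul, add_zero]
  have hPd : ∀ x, finrank F (P x) = 2 := fun x => by
    refine finrank_eq_two (Q := Q) (a := b x.1 x.2 0) (b := b x.1 x.2 1) ?_ fun z hz h0 h1 => ?_
    · have hli : LinearIndependent F ![b x.1 x.2 0, b x.1 x.2 1] := by
        refine LinearIndependent.pair_iff.2 fun c d hcd => ?_
        have e1 := congrArg (𝔅 (b x.1 x.2 0)) hcd
        have e2 := congrArg (𝔅 (b x.1 x.2 1)) hcd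
        simp [QuadraticMap.polar_add_right, QuadraticMap.polar_smul_right, hbb, hbb', hself] at e1 e2
        exact ⟨e2, e1⟩
      have := finrank_span_eq_card hli
      rw [show P x = Submodule.span F (Set.range ![b x.1 x.2 0, b x.1 x.2 1]) by
        simp only [P, Matrix.range_cons, Matrix.range_empty, Set.union_empty, Set.singleton_union]]
      exact this.ge
    · rw [hcoord x z hz, h0, h1, zero_smul, zero_smul, add_zero]
  -- the vectors of value one of a member lie in one of its planes
  have hsingle : ∀ i, ∀ v ∈ D i, Q v = 1 → ∃ s, v ∈ P (i, s) := by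
    intro i v hv hvq
    set p0 := 𝔅 (b i 0 1) v • b i 0 0 + 𝔅 (b i 0 0) v • b i 0 1 with hp0
    set p1 := 𝔅 (b i 1 1) v • b i 1 0 + 𝔅 (b i 1 0) v • b i 1 1 with hp1
    have hP0 : p0 ∈ P (i, 0) := (P (i, 0)).add_mem ((P _).smul_mem _ (hbP i 0 0)) ((P _).smul_mem _ (hbP i 0 1))
    have hP1 : p1 ∈ P (i, 1) := (P (i, 1)).add_mem ((P _).smul_mem _ (hbP i 1 0)) ((P _).smul_mem _ (hbP i 1 1))
    have hveq : v = p0 + p1 := by
      let L : D i →ₗ[F] (Fin 2 → Fin 2 → F) :=
        LinearMap.pi fun s => LinearMap.pi fun r => (QuadraticMap.polarBilin Q (b i s r)).comp (D i).subtype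
      have hsurj : Function.Surjective L := fun c => ⟨⟨c 0 1 • b i 0 0 + c 0 0 • b i 0 1 +
          (c 1 1 • b i 1 0 + c 1 0 • b i 1 1), (D i).add_mem
            ((D i).add_mem ((D i).smul_mem _ (hb _ _ _)) ((D i).smul_mem _ (hb _ _ _)))
            ((D i).add_mem ((D i).smul_mem _ (hb _ _ _)) ((D i).smul_mem _ (hb _ _ _)))⟩, by
        funext s r
        fin_cases s <;> fin_cases r <;>
          simp [L, QuadraticMap.polar_add_right, QuadraticMap.polar_smul_right, hbb, hbb', hself, hbo' i 0 1,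
            hbo' i 1 0]⟩
      have hinj : Function.Injective L :=
        (LinearMap.injective_iff_surjective_of_finrank_eq_finrank (by simp [hdim, Module.finrank_pi_fintype])).2 hsurj
      have hm : p0 + p1 ∈ D i := (D i).add_mem
        ((D i).add_mem ((D i).smul_mem _ (hb _ _ _)) ((D i).smul_mem _ (hb _ _ _)))
        ((D i).add_mem ((D i).smul_mem _ (hb _ _ _)) ((D i).smul_mem _ (hb _ _ _)))
      refine congrArg Subtype.val (hinj (a₁ := ⟨v, hv⟩) (a₂ := ⟨p0 + p1, hm⟩) ?_)
      funext s r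
      fin_cases s <;> fin_cases r <;>
        simp [L, hp0, hp1, QuadraticMap.polar_add_right, QuadraticMap.polar_smul_right, hbb, hbb', hself,
          hbo' i 0 1, hbo' i 1 0]
    -- an anisotropic plane
    have hq1 : ∀ s (x y : F), Q (x • b i s 0 + y • b i s 1) = 0 ∨ Q (x • b i s 0 + y • b i s 1) = 1 := fun s x y =>
      hF _
    have haniso : ∀ s (x y : F), Q (x • b i s 0 + y • b i s 1) = 0 → x • b i s 0 + y • b i s 1 = 0 := by
      intro s x y h
      rw [QuadraticMap.map_add (⇑Q), QuadraticMap.map_smul, QuadraticMap.map_smul, hbq, hbq,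
        QuadraticMap.polar_smul_left, QuadraticMap.polar_smul_right, hbb] at h
      simp only [smul_eq_mul, mul_one] at h
      rcases hF x with rfl | rfl <;> rcases hF y with rfl | rfl
      · simp
      · simp at h
      · simp at h
      · exact absurd (show (1 : F) = 0 by linear_combination h - h2) one_ne_zero
    rcases hq1 0 (𝔅 (b i 0 1) v) (𝔅 (b i 0 0) v) with h | h
    · rw [← hp0] at h
      rw [hp0, haniso 0 _ _ h, zero_add] at hveq
      exact ⟨1, hveq ▸ hP1⟩
    · rw [← hp0] at h
      have h1 : Q p1 = 0 := by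
        have := hvq
        rw [hveq, QuadraticMap.map_add (⇑Q), h, hPo (i, 0) (i, 1) (by simp) _ hP0 _ hP1] at this
        linear_combination this
      rw [hp1] at h1
      rw [hp1, haniso 1 _ _ h1, add_zero] at hveq
      exact ⟨0, hveq ▸ hP0⟩
  let pe : Fin (t * 2) ≃ Fin t × Fin 2 := finProdFinEquiv.symm
  let E : Fin (t * 2) → Submodule F (ι → F) := fun j => P (pe j)
  have hPinj : Function.Injective P := fun x y hxy => by_contra fun hne => one_ne_zero (α := F)
    ((hbb x.1 x.2).symm.trans (hPo x y hne _ (hbP _ _ 0) _ (hxy ▸ hbP _ _ 1)))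
  have hEinj : Function.Injective E := hPinj.comp pe.injective
  have hEo : ∀ i j, i ≠ j → AreOrthogonalFor (QuadraticMap.polar ⇑Q) (E i) (E j) := fun i j hij =>
    hPo _ _ fun h => hij (pe.injective h)
  have hmaps : ∀ {g : Isom Q}, (∀ x : Fin t × Fin 2, ∃ y, mat Q g *ᵥ b x.1 x.2 0 ∈ P y ∧ mat Q g *ᵥ b x.1 x.2 1 ∈ P y) →
      (g : GL ι F) ∈ decompositionStabilizer E := by
    intro g h
    refine mem_decompositionStabilizer_of_maps hEinj (fun j => hPd _) fun j => ?_
    obtain ⟨y, h0, h1⟩ := h (pe j)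
    refine ⟨pe.symm y, fun x hx => ?_⟩
    obtain ⟨c, d, rfl⟩ := Submodule.mem_span_pair.1 hx
    simp only [E, Equiv.apply_symm_apply]
    rw [show ((g : GL ι F) : Matrix ι ι F) = mat Q g from rfl, mulVec_add, mulVec_smul, mulVec_smul]
    exact (P y).add_mem ((P y).smul_mem _ h0) ((P y).smul_mem _ h1)
  refine not_maximal_omega (T := decompositionStabilizer E) ?_ ?_ ?_
  · rintro _ ⟨⟨σ, hσ⟩, g, -, rfl⟩
    refine hmaps fun x => ?_
    have hm : ∀ r, mat Q g *ᵥ b x.1 x.2 r ∈ D (σ x.1) := fun r => by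
      rw [← hσ]; exact Submodule.mem_map_of_mem (hb _ _ _)
    obtain ⟨s, hs⟩ := hsingle _ _ (hm 0) (by rw [quad_mulVec]; exact hbq _ _ _)
    obtain ⟨s', hs'⟩ := hsingle _ _ (hm 1) (by rw [quad_mulVec]; exact hbq _ _ _)
    have : ((σ x.1, s) : Fin t × Fin 2) = (σ x.1, s') := by_contra fun hne => one_ne_zero (α := F) (by
      rw [← hbb x.1 x.2, ← polar_mulVec Q g]
      exact hPo _ _ hne _ hs _ hs')
    exact ⟨(σ x.1, s), hs, this ▸ hs'⟩
  · set j0 : Fin t := ⟨0, by omega⟩
    set j1 : Fin t := ⟨1, by omega⟩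
    have n01 : j0 ≠ j1 := by simp [j0, j1, Fin.ext_iff]
    set u := b j0 0 0 + b j1 0 0 with hudef
    set w := b j0 0 1 + b j1 0 1 with hwdef
    have hz : ∀ r r', 𝔅 (b j0 0 r) (b j1 0 r') = 0 := fun r r' => horth _ _ n01 _ (hb _ _ _) _ (hb _ _ _)
    have hz' : ∀ r r', 𝔅 (b j1 0 r) (b j0 0 r') = 0 := fun r r' => horth _ _ n01.symm _ (hb _ _ _) _ (hb _ _ _)
    have huq : Q u = 0 := by
      rw [hudef, QuadraticMap.map_add (⇑Q), hbq, hbq, hz]; linear_combination h2
    have hwq : Q w = 0 := by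
      rw [hwdef, QuadraticMap.map_add (⇑Q), hbq, hbq, hz]; linear_combination h2
    have huw : 𝔅 u w = 0 := by
      simp only [hudef, hwdef, QuadraticMap.polar_add_left, QuadraticMap.polar_add_right, hbb, hz, hz']
      linear_combination h2
    set g := eichIso Q u w huq huw
    have hfix : ∀ x : Fin t × Fin 2, x ≠ (j0, 0) → x ≠ (j1, 0) → ∀ r, mat Q g *ᵥ b x.1 x.2 r = b x.1 x.2 r := by
      intro x hx0 hx1 r
      have hu0 : 𝔅 u (b x.1 x.2 r) = 0 := by
        rw [hudef, QuadraticMap.polar_add_left, hPo (j0, 0) x (Ne.symm hx0) _ (hbP _ _ _) _ (hbP _ _ _),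
          hPo (j1, 0) x (Ne.symm hx1) _ (hbP _ _ _) _ (hbP _ _ _), add_zero]
      have hw0 : 𝔅 w (b x.1 x.2 r) = 0 := by
        rw [hwdef, QuadraticMap.polar_add_left, hPo (j0, 0) x (Ne.symm hx0) _ (hbP _ _ _) _ (hbP _ _ _),
          hPo (j1, 0) x (Ne.symm hx1) _ (hbP _ _ _) _ (hbP _ _ _), add_zero]
      rw [mat_eichIso, eich_mulVec, hu0, hw0]
      simp
    have hneg : ∀ v : ι → F, -v = v := fun v => by
      rw [← neg_one_smul F, show (-1 : F) = 1 by linear_combination -h2, one_smul]
    have hadd : ∀ v : ι → F, v + v = 0 := fun v => by nth_rewrite 2 [← hneg v]; exact add_neg_cancel v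
    have hm0 : mat Q g *ᵥ b j0 0 0 = b j1 0 0 ∧ mat Q g *ᵥ b j0 0 1 = b j1 0 1 := by
      constructor <;> rw [mat_eichIso, eich_mulVec, hwq] <;>
        simp [hudef, hwdef, QuadraticMap.polar_add_left, hbb, hbb', hself, hz', hneg, sub_eq_add_neg,
          ← add_assoc, hadd]
    refine ⟨g, eich_mem_omega hQ hn huq huw, hmaps fun x => ?_, fun ⟨σ, hσ⟩ => ?_⟩
    · by_cases hx0 : x = (j0, 0)
      · subst hx0
        exact ⟨(j1, 0), by rw [hm0.1]; exact hbP _ _ _, by rw [hm0.2]; exact hbP _ _ _⟩
      by_cases hx1 : x = (j1, 0)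
      · subst hx1
        refine ⟨(j0, 0), ?_, ?_⟩ <;>
          rw [mat_eichIso, eich_mulVec, hwq] <;>
          simp [hudef, hwdef, QuadraticMap.polar_add_left, hbb, hbb', hself, hz, hneg, sub_eq_add_neg,
            add_comm (b j0 0 0) (b j1 0 0), add_comm (b j0 0 1) (b j1 0 1), ← add_assoc, hadd] <;>
          exact hbP _ _ _
      exact ⟨x, by rw [hfix x hx0 hx1]; exact hbP _ _ _, by rw [hfix x hx0 hx1]; exact hbP _ _ _⟩
    · have m0 : b j1 0 0 ∈ D (σ j0) := by rw [← hσ, ← hm0.1]; exact Submodule.mem_map_of_mem (hb _ _ _)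
      have mz : b j0 1 0 ∈ D (σ j0) := by
        rw [← hσ, ← hfix (j0, 1) (by simp) (by simp) 0]; exact Submodule.mem_map_of_mem (hb _ _ _)
      have e1 : σ j0 = j1 := eq_of_pairing horth m0 (hb j1 0 1) (by rw [hbb]; exact one_ne_zero)
      have e0 : σ j0 = j0 := eq_of_pairing horth mz (hb j0 1 1) (by rw [hbb]; exact one_ne_zero)
      exact n01 (e0.symm.trans e1)
  · refine exists_move_decomp hQ hn hEo (i := ⟨0, by omega⟩) (hPn _) (fun h => ?_)
      (by rw [finrank_qperp hQ, hPd]; omega)
    have := hPd (pe ⟨0, by omega⟩)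
    rw [show P (pe ⟨0, by omega⟩) = ⊥ from h, finrank_bot] at this
    omega

/-- The small exceptional decompositions in characteristic two. -/
theorem not_maximal_decomp_even (hQ : (QuadraticMap.polarBilin Q).Nondegenerate) (hn : 13 ≤ Fintype.card ι)
    {k : ℕ} (hD : IsOrthogonalMDecomposition (⇑Q) k D) (hplus : ∀ i, IsPlusTypeOn (⇑Q) (D i))
    (hcase : (k = 2 ∧ (Fintype.card F = 2 ∨ Fintype.card F = 4)) ∨ (k = 4 ∧ Fintype.card F = 2)) :
    ∃ K : Subgroup (GL ι F), decompositionStabilizer D ⊓ omegaGL ⇑Q < K ∧ K < omegaGL ⇑Q := by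
  have h2 : (2 : F) = 0 := by
    have hcast := FiniteField.cast_card_eq_zero F
    rcases hcase with ⟨-, h | h⟩ | ⟨-, h⟩ <;> rw [h] at hcast
    · exact_mod_cast hcast
    · have : (2 : F) * 2 = 0 := by push_cast at hcast; linear_combination hcast
      exact mul_self_eq_zero.1 this
    · exact_mod_cast hcast
  have ht : 3 ≤ t := by
    have h := MaxSub.card_le_of_isMDecomposition hD.decomp.decomp
    have hk : k ≤ 4 := by rcases hcase with ⟨h, -⟩ | ⟨h, -⟩ <;> omega
    by_contra hlt
    have : t * k ≤ 2 * 4 := Nat.mul_le_mul (by omega) hk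
    omega
  have hnd : ∀ i, Nd Q (D i) := fun i => nd_of_isNondegenerateOn (hD.decomp.nondegenerate i)
  have hfin := hD.decomp.decomp.finrank_eq
  -- a hyperbolic pair in each member
  have hpair : ∀ i, ∃ e ∈ D i, ∃ f ∈ D i, Q e = 0 ∧ Q f = 0 ∧ 𝔅 e f = 1 := by
    intro i
    obtain ⟨U, hUW, hU, hUd⟩ := hplus i
    obtain ⟨s, hs, hs0⟩ := Submodule.exists_mem_ne_zero_of_ne_bot (p := U) fun h => by
      rw [h, finrank_bot, hfin] at hUd
      rcases hcase with ⟨h', -⟩ | ⟨h', -⟩ <;> omega
    obtain ⟨f, hf, hfq, hsf⟩ := exists_partner_in (hUW hs) (hU s hs) (by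
      obtain ⟨w, hw, hsw⟩ := (hnd i).exists_polar_one (hUW hs) hs0
      exact ⟨w, hw, by rw [hsw]; exact one_ne_zero⟩)
    exact ⟨s, hUW hs, f, hf, hU s hs, hfq, hsf⟩
  choose e he f hf heq hfq hef using hpair
  rcases hcase with ⟨rfl, hq⟩ | ⟨rfl, hq⟩
  · rcases hq with hq | hq
    · refine not_maximal_planes_two hQ (by omega) h2 ht hD.decomp.orthogonal hfin he hf heq hfq hef
        (⊥ : AddSubgroup F) (fun x hx => ?_) bot_le (l := 1) (by simp)
      have : x = 1 := by
        have := FiniteField.pow_card_sub_one_eq_one x hx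
        rwa [hq, pow_one] at this
      rw [this, inv_one, AddSubgroup.mem_bot]
      linear_combination h2
    · obtain ⟨l, hl⟩ : ∃ l : F, l ∉ AddSubgroup.zmultiples (1 : F) := by
        classical
        by_contra! hall
        have : (Finset.univ : Finset F) ⊆ {0, 1} := fun c _ => by
          obtain ⟨m, hm⟩ := AddSubgroup.mem_zmultiples_iff.1 (hall c)
          rw [zsmul_one] at hm
          rcases Int.even_or_odd m with ⟨j, rfl⟩ | ⟨j, rfl⟩ <;> push_cast at hm
          · simp only [Finset.mem_insert, Finset.mem_singleton]; left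
            linear_combination -hm + j * h2
          · simp only [Finset.mem_insert, Finset.mem_singleton]; right
            linear_combination -hm + j * h2
        have := Finset.card_le_card this
        rw [Finset.card_univ, hq] at this
        exact absurd (this.trans Finset.card_le_two) (by omega)
      refine not_maximal_planes_two hQ (by omega) h2 ht hD.decomp.orthogonal hfin he hf heq hfq hef
        (AddSubgroup.zmultiples (1 : F)) (fun x hx => ?_) le_rfl hl
      have hx3 : x ^ 3 = 1 := by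
        have := FiniteField.pow_card_sub_one_eq_one x hx
        rwa [hq] at this
      rcases eq_or_ne x 1 with rfl | hx1
      · rw [inv_one, show (1 : F) + 1 = 0 by linear_combination h2]
        exact zero_mem _
      · have h0 : x * x + x + 1 = 0 := (mul_eq_zero.1
          (show (x - 1) * (x * x + x + 1) = 0 by linear_combination hx3)).resolve_left (sub_ne_zero.2 hx1)
        rw [show x⁻¹ = x * x from inv_eq_of_mul_eq_one_right (by linear_combination hx3),
          show x + x * x = 1 by linear_combination h0 - h2]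
        exact AddSubgroup.mem_zmultiples _
  · have hF : ∀ x : F, x = 0 ∨ x = 1 := fun x => by
      rcases eq_or_ne x 0 with h | h
      · exact Or.inl h
      · right
        have := FiniteField.pow_card_sub_one_eq_one x h
        rwa [hq, pow_one] at this
    -- a second pair orthogonal to the first
    have hsecond : ∀ i, ∃ e' ∈ D i, ∃ f' ∈ D i, Q e' = 0 ∧ Q f' = 0 ∧ 𝔅 e' f' = 1 ∧
        𝔅 (e i) e' = 0 ∧ 𝔅 (e i) f' = 0 ∧ 𝔅 (f i) e' = 0 ∧ 𝔅 (f i) f' = 0 := by
      intro i
      have hfe : 𝔅 (f i) (e i) = 1 := by rw [QuadraticMap.polar_comm, hef]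
      have hee : 𝔅 (e i) (e i) = 0 := by rw [polar_self', h2, zero_mul]
      have hff : 𝔅 (f i) (f i) = 0 := by rw [polar_self', h2, zero_mul]
      set P := D i ⊓ qperp Q (Submodule.span F {e i}) ⊓ qperp Q (Submodule.span F {f i}) with hP
      have hproj : ∀ v ∈ D i, v - 𝔅 (f i) v • e i - 𝔅 (e i) v • f i ∈ P := fun v hv =>
        ⟨⟨(D i).sub_mem ((D i).sub_mem hv ((D i).smul_mem _ (he i))) ((D i).smul_mem _ (hf i)),
          mem_qperp_singleton.2 (by
            simp [QuadraticMap.polar_sub_right, QuadraticMap.polar_smul_right, hee, hef])⟩,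
          mem_qperp_singleton.2 (by
            simp [QuadraticMap.polar_sub_right, QuadraticMap.polar_smul_right, hff, hfe])⟩
      obtain ⟨U, hUW, hU, hUd⟩ := hplus i
      rw [hfin] at hUd
      -- a singular vector of the complement
      obtain ⟨s, hsP, hs0, hsq⟩ : ∃ s ∈ P, s ≠ 0 ∧ Q s = 0 := by
        have h1 := finrank_le_inf_qperp_add_one hQ (D i) (e i)
        have h2' := finrank_le_inf_qperp_add_one hQ (D i ⊓ qperp Q (Submodule.span F {e i})) (f i)
        rw [← hP] at h2'
        by_contra! hns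
        -- otherwise project the totally singular plane
        have hinj : ∀ u ∈ U, u - 𝔅 (f i) u • e i - 𝔅 (e i) u • f i = 0 → u ∈ Submodule.span F {e i, f i} :=
          fun u _ h => Submodule.mem_span_pair.2 ⟨𝔅 (f i) u, 𝔅 (e i) u, by linear_combination (norm := module) -h⟩
        have hval : ∀ u ∈ U, Q (u - 𝔅 (f i) u • e i - 𝔅 (e i) u • f i) = 𝔅 (f i) u * 𝔅 (e i) u := by
          intro u hu
          set x := 𝔅 (f i) u
          set y := 𝔅 (e i) u
          rw [show u - x • e i - y • f i = u + ((-x) • e i + (-y) • f i) by module, QuadraticMap.map_add (⇑Q),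
            QuadraticMap.map_add (⇑Q), QuadraticMap.map_smul, QuadraticMap.map_smul, hU u hu, heq, hfq,
            QuadraticMap.polar_add_right, QuadraticMap.polar_smul_right, QuadraticMap.polar_smul_right,
            QuadraticMap.polar_smul_left, QuadraticMap.polar_smul_right, hef,
            QuadraticMap.polar_comm (⇑Q) u (e i), QuadraticMap.polar_comm (⇑Q) u (f i)]
          simp only [smul_eq_mul, x, y]
          linear_combination (-(𝔅 (f i) u * 𝔅 (e i) u)) * h2
        -- every member of `U` with a vanishing coordinate lies in the first plane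
        have hU2 : ∀ u ∈ U, 𝔅 (f i) u = 0 ∨ 𝔅 (e i) u = 0 → u ∈ Submodule.span F {e i, f i} := by
          intro u hu h
          refine hinj u hu (by_contra fun hne => hns _ (hproj u (hUW hu)) hne ?_)
          rw [hval u hu]
          rcases h with h | h <;> rw [h] <;> simp
        obtain ⟨u₁, hu₁, hu₁0⟩ := Submodule.exists_mem_ne_zero_of_ne_bot
          (p := U ⊓ qperp Q (Submodule.span F {e i})) fun h => by
            have := finrank_le_inf_qperp_add_one hQ U (e i)
            rw [h, finrank_bot] at this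
            omega
        obtain ⟨u₂, hu₂, hu₂0⟩ := Submodule.exists_mem_ne_zero_of_ne_bot
          (p := U ⊓ qperp Q (Submodule.span F {f i})) fun h => by
            have := finrank_le_inf_qperp_add_one hQ U (f i)
            rw [h, finrank_bot] at this
            omega
        have a1 : 𝔅 (e i) u₁ = 0 := mem_qperp_singleton.1 hu₁.2
        have a2 : 𝔅 (f i) u₂ = 0 := mem_qperp_singleton.1 hu₂.2
        obtain ⟨c, d, hcd⟩ := Submodule.mem_span_pair.1 (hU2 u₁ hu₁.1 (Or.inr a1))
        obtain ⟨c', d', hcd'⟩ := Submodule.mem_span_pair.1 (hU2 u₂ hu₂.1 (Or.inl a2))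
        have hd : d = 0 := by
          rwa [← hcd, QuadraticMap.polar_add_right, QuadraticMap.polar_smul_right, QuadraticMap.polar_smul_right,
            hee, hef, smul_zero, zero_add, smul_eq_mul, mul_one] at a1
        have hc' : c' = 0 := by
          rwa [← hcd', QuadraticMap.polar_add_right, QuadraticMap.polar_smul_right, QuadraticMap.polar_smul_right,
            hfe, hff, smul_zero, add_zero, smul_eq_mul, mul_one] at a2
        have := polar_eq_zero hU hu₁.1 hu₂.1
        rw [← hcd, ← hcd', hd, hc'] at this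
        simp only [zero_smul, add_zero, zero_add, QuadraticMap.polar_smul_left, QuadraticMap.polar_smul_right,
          hef, smul_eq_mul, mul_one, mul_eq_zero] at this
        rcases this with h | h
        · exact hu₂0 (by rw [← hcd', hc', h]; simp)
        · exact hu₁0 (by rw [← hcd, hd, h]; simp)
      obtain ⟨f', hf', hf'q, hsf'⟩ := exists_partner_in hsP hsq (by
        obtain ⟨w, hw, hsw⟩ := (hnd i).exists_polar_one hsP.1.1 hs0
        refine ⟨_, hproj w hw, ?_⟩
        rw [QuadraticMap.polar_sub_right, QuadraticMap.polar_sub_right, hsw, QuadraticMap.polar_smul_right,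
          QuadraticMap.polar_smul_right, QuadraticMap.polar_comm (⇑Q) s (e i),
          QuadraticMap.polar_comm (⇑Q) s (f i), mem_qperp_singleton.1 hsP.1.2, mem_qperp_singleton.1 hsP.2]
        simp)
      exact ⟨s, hsP.1.1, f', hf'.1.1, hsq, hf'q, hsf', mem_qperp_singleton.1 hsP.1.2,
        mem_qperp_singleton.1 hf'.1.2, mem_qperp_singleton.1 hsP.2, mem_qperp_singleton.1 hf'.2⟩
    choose e' he' f' hf' heq' hfq' hef' h1 h2' h3 h4 using hsecond
    refine not_maximal_four_two hQ (by omega) hF h2 (by omega) (by omega) hD.decomp.orthogonal hfin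
      (b := fun i => ![![e i + f i, e i + e' i + f' i], ![e' i + f' i, e' i + e i + f i]])
      (fun i s r => ?_) (fun i s r => ?_) (fun i s => ?_) fun i r r' => ?_
    · fin_cases s <;> fin_cases r
      · exact (D i).add_mem (he i) (hf i)
      · exact (D i).add_mem ((D i).add_mem (he i) (he' i)) (hf' i)
      · exact (D i).add_mem (he' i) (hf' i)
      · exact (D i).add_mem ((D i).add_mem (he' i) (he i)) (hf i)
    · fin_cases s <;> fin_cases r <;>
        simp [QuadraticMap.map_add (⇑Q), QuadraticMap.polar_add_left, heq, hfq, heq', hfq', hef, hef', h1, h2', h3,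
          h4, QuadraticMap.polar_comm (⇑Q) (e' i) (e i), QuadraticMap.polar_comm (⇑Q) (e' i) (f i)]
    · have hee : 𝔅 (e i) (e i) = 0 := by rw [polar_self', h2, zero_mul]
      have hee' : 𝔅 (e' i) (e' i) = 0 := by rw [polar_self', h2, zero_mul]
      fin_cases s <;>
        simp [QuadraticMap.polar_add_left, QuadraticMap.polar_add_right, hee, hee', h1, h2', h3, h4,
          QuadraticMap.polar_comm (⇑Q) (f i) (e i), QuadraticMap.polar_comm (⇑Q) (f' i) (e' i), hef, hef',
          QuadraticMap.polar_comm (⇑Q) (e' i) (e i), QuadraticMap.polar_comm (⇑Q) (e' i) (f i),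
          QuadraticMap.polar_comm (⇑Q) (f' i) (e i), QuadraticMap.polar_comm (⇑Q) (f' i) (f i)]
    · have hee : 𝔅 (e i) (e i) = 0 := by rw [polar_self', h2, zero_mul]
      have hee' : 𝔅 (e' i) (e' i) = 0 := by rw [polar_self', h2, zero_mul]
      have hff : 𝔅 (f i) (f i) = 0 := by rw [polar_self', h2, zero_mul]
      have hff' : 𝔅 (f' i) (f' i) = 0 := by rw [polar_self', h2, zero_mul]
      fin_cases r <;> fin_cases r' <;>
        simp [QuadraticMap.polar_add_left, QuadraticMap.polar_add_right, hee, hee', hff, hff', h1, h2', h3, h4,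
          QuadraticMap.polar_comm (⇑Q) (f i) (e i), QuadraticMap.polar_comm (⇑Q) (f' i) (e' i), hef, hef',
          QuadraticMap.polar_comm (⇑Q) (e' i) (e i), QuadraticMap.polar_comm (⇑Q) (e' i) (f i),
          QuadraticMap.polar_comm (⇑Q) (f' i) (e i), QuadraticMap.polar_comm (⇑Q) (f' i) (f i)] <;>
        linear_combination h2

end CfsgLib.OrthMax
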