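import Cfsg.Agent.OrthMax.DecompNotMaxOdd

/-!
# Members of dimension two or three over three and five elements

`not_maximal_decomp_odd` assembles the cases in odd characteristic.
-/

set_option autoImplicit false
set_option linter.unusedSectionVars false

namespace CfsgLib.OrthMax

open Matrix Module CfsgLib.Spinor CfsgLib.Forms Cfsg.Geo CfsgLib.OmegaOrbits

variable {F : Type*} [Field F] {ι : Type} [Fintype ι] [DecidableEq ι] {Q : QuadraticForm F (ι → F)}
variable [Fintype F]

set_option quotPrecheck false in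
local notation "𝔅" => QuadraticMap.polar (⇑Q)

theorem sq_three (hq : Fintype.card F = 3) {x : F} (hx : x ≠ 0) : x * x = 1 := by
  have := FiniteField.pow_card_sub_one_eq_one x hx
  rwa [hq, pow_two] at this

theorem three_facts (hq : Fintype.card F = 3) : (2 : F) ≠ 0 ∧ (2 : F) ≠ 1 ∧ (3 : F) = 0 := by
  have h30 : (3 : F) = 0 := by
    have h := FiniteField.cast_card_eq_zero F
    rw [hq] at h
    exact_mod_cast h
  exact ⟨fun h => one_ne_zero (by linear_combination h30 - h),
    fun h => one_ne_zero (by linear_combination h), h30⟩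

theorem five_facts (hq : Fintype.card F = 5) : (2 : F) ≠ 0 ∧ (3 : F) ≠ 0 ∧ (5 : F) = 0 := by
  have h50 : (5 : F) = 0 := by
    have h := FiniteField.cast_card_eq_zero F
    rw [hq] at h
    exact_mod_cast h
  exact ⟨fun h => one_ne_zero (show (1 : F) = 0 by linear_combination h50 - 2 * h),
    fun h => one_ne_zero (show (1 : F) = 0 by linear_combination 2 * h - h50), h50⟩

theorem sq_five (hq : Fintype.card F = 5) {x : F} (hx : x ≠ 0) : x * x = 1 ∨ x * x = -1 := by
  refine mul_self_eq_one_iff.1 ?_
  have := FiniteField.pow_card_sub_one_eq_one x hx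
  rw [hq] at this
  linear_combination this

/-- A frame with arithmetically unique vectors of its value. -/
theorem mem_line_of_frame (h2 : (2 : F) ≠ 0) {k : ℕ} {W : Submodule F (ι → F)} (hWd : finrank F W = k)
    {c : F} (hc : c ≠ 0) {a : Fin k → ι → F} (ha : ∀ r, a r ∈ W) (haq : ∀ r, Q (a r) = c)
    (hao : ∀ r l, r ≠ l → 𝔅 (a r) (a l) = 0)
    (harith : ∀ x : Fin k → F, ∑ r, x r * x r = 1 → ∃ r, ∀ l, l ≠ r → x l = 0)
    {v : ι → F} (hv : v ∈ W) (hvq : Q v = c) : ∃ r, v ∈ Submodule.span F {a r} := by
  have h2c : 2 * c ≠ 0 := mul_ne_zero h2 hc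
  have hpair : ∀ (x : Fin k → F) l, 𝔅 (∑ r, x r • a r) (a l) = x l * (2 * c) := fun x l => by
    rw [← QuadraticMap.polarBilin_apply_apply, map_sum, LinearMap.sum_apply, Finset.sum_eq_single l]
    · rw [map_smul, LinearMap.smul_apply, QuadraticMap.polarBilin_apply_apply, polar_self', haq, smul_eq_mul]
    · intro r _ hrl
      rw [map_smul, LinearMap.smul_apply, QuadraticMap.polarBilin_apply_apply, hao r l hrl, smul_zero]
    · exact fun h => absurd (Finset.mem_univ l) h
  let L : (Fin k → F) →ₗ[F] W := (Fintype.linearCombination F fun r => (⟨a r, ha r⟩ : W))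
  have hL : ∀ x : Fin k → F, (L x : ι → F) = ∑ r, x r • a r := fun x => by
    simp [L, Fintype.linearCombination_apply]
  have hinj : Function.Injective L := by
    intro x y h
    funext l
    have := congrArg (fun w : W => 𝔅 (w : ι → F) (a l)) h
    simp only [hL, hpair] at this
    exact mul_right_cancel₀ h2c this
  obtain ⟨x, hx⟩ := (LinearMap.injective_iff_surjective_of_finrank_eq_finrank (by simp [hWd])).1 hinj ⟨v, hv⟩
  have hvx : v = ∑ r, x r • a r := by rw [← hL, hx]
  have hsum : ∑ r, x r * x r = 1 := by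
    have h1 : 𝔅 v v = (2 * c) * ∑ r, x r * x r := by
      conv_lhs => arg 3; rw [hvx]
      rw [← QuadraticMap.polarBilin_apply_apply, map_sum, Finset.mul_sum]
      refine Finset.sum_congr rfl fun r _ => ?_
      rw [map_smul, QuadraticMap.polarBilin_apply_apply, hvx, hpair, smul_eq_mul]
      ring
    rw [polar_self', hvq] at h1
    exact (mul_left_cancel₀ h2c (by linear_combination -h1))
  obtain ⟨r, hr⟩ := harith x hsum
  refine ⟨r, Submodule.mem_span_singleton.2 ⟨x r, ?_⟩⟩
  rw [hvx, Finset.sum_eq_single r (fun l _ hl => by rw [hr l hl, zero_smul])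
    (fun h => absurd (Finset.mem_univ r) h)]

theorem arith_two (h : ∀ x y : F, x ≠ 0 → y ≠ 0 → x * x + y * y ≠ 1) :
    ∀ x : Fin 2 → F, ∑ r, x r * x r = 1 → ∃ r, ∀ l, l ≠ r → x l = 0 := by
  intro x hx
  rw [Fin.sum_univ_two] at hx
  by_cases h0 : x 0 = 0
  · exact ⟨1, fun l hl => by fin_cases l <;> simp_all⟩
  · by_cases h1 : x 1 = 0
    · exact ⟨0, fun l hl => by fin_cases l <;> simp_all⟩
    · exact absurd hx (h _ _ h0 h1)

theorem arith_three (hq : Fintype.card F = 3) :
    ∀ x : Fin 3 → F, ∑ r, x r * x r = 1 → ∃ r, ∀ l, l ≠ r → x l = 0 := by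
  obtain ⟨-, h21, h30⟩ := three_facts hq
  intro x hx
  rw [Fin.sum_univ_three] at hx
  by_cases c0 : x 0 = 0 <;> by_cases c1 : x 1 = 0 <;> by_cases c2 : x 2 = 0
  · exact ⟨0, fun l hl => by fin_cases l <;> simp_all⟩
  · exact ⟨2, fun l hl => by fin_cases l <;> simp_all⟩
  · exact ⟨1, fun l hl => by fin_cases l <;> simp_all⟩
  · rw [c0, sq_three hq c1, sq_three hq c2] at hx
    exact absurd (by linear_combination hx) h21
  · exact ⟨0, fun l hl => by fin_cases l <;> simp_all⟩
  · rw [c1, sq_three hq c0, sq_three hq c2] at hx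
    exact absurd (by linear_combination hx) h21
  · rw [c2, sq_three hq c0, sq_three hq c1] at hx
    exact absurd (by linear_combination hx) h21
  · rw [sq_three hq c0, sq_three hq c1, sq_three hq c2] at hx
    exact absurd (by linear_combination h30 - hx) (one_ne_zero (α := F))

/-- A frame with one value in a three-dimensional member over three elements. -/
theorem exists_frame_space (hq : Fintype.card F = 3) {W : Submodule F (ι → F)} (hW : Nd Q W)
    (hdim : finrank F W = 3) (hQ : (QuadraticMap.polarBilin Q).Nondegenerate) :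
    ∃ (c : F) (a : Fin 3 → ι → F), c ≠ 0 ∧ (∀ r, a r ∈ W) ∧ (∀ r, Q (a r) = c) ∧
      ∀ r l, r ≠ l → 𝔅 (a r) (a l) = 0 := by
  obtain ⟨h20, h21, h30⟩ := three_facts hq
  have hsplit : ∀ {X : Submodule F (ι → F)}, Nd Q X → ∀ {a : ι → F}, a ∈ X → Q a ≠ 0 →
      Nd Q (X ⊓ qperp Q (Submodule.span F {a})) := by
    intro X hX a ha haq z hz hzero
    have hza : 𝔅 a z = 0 := mem_qperp_singleton.1 hz.2
    have haa : 𝔅 a a ≠ 0 := by rw [polar_self']; exact mul_ne_zero h20 haq
    refine hX z hz.1 fun x hx => ?_
    have := hzero (x - (𝔅 a x / 𝔅 a a) • a) ⟨X.sub_mem hx (X.smul_mem _ ha), mem_qperp_singleton.2 (by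
      rw [QuadraticMap.polar_sub_right, QuadraticMap.polar_smul_right, smul_eq_mul, div_mul_cancel₀ _ haa,
        sub_self])⟩
    rwa [QuadraticMap.polar_sub_left, QuadraticMap.polar_smul_left, hza, smul_zero, sub_zero] at this
  obtain ⟨a, ha, haq⟩ := exists_value_mem hW.inf_qperp (by omega) (1 : F) one_ne_zero
  set P := W ⊓ qperp Q (Submodule.span F {a})
  have hP : Nd Q P := hsplit hW ha (by rw [haq]; exact one_ne_zero)
  have hPd : 2 ≤ finrank F P := by
    have : finrank F W ≤ finrank F P + 1 := finrank_le_inf_qperp_add_one hQ W a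
    omega
  obtain ⟨b, hb, hbq⟩ := exists_value_mem hP.inf_qperp hPd (1 : F) one_ne_zero
  set R := P ⊓ qperp Q (Submodule.span F {b})
  have hR : Nd Q R := hsplit hP hb (by rw [hbq]; exact one_ne_zero)
  obtain ⟨d, hd, hd0⟩ := Submodule.exists_mem_ne_zero_of_ne_bot (p := R) fun h => by
    have : finrank F P ≤ finrank F R + 1 := finrank_le_inf_qperp_add_one hQ P b
    rw [h, finrank_bot] at this
    omega
  have hdq : Q d ≠ 0 := by
    intro h0
    obtain ⟨e, he, hde⟩ := hR.exists_polar_one hd hd0
    -- the complement of two frame vectors is a line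
    have hab : 𝔅 a b = 0 := mem_qperp_singleton.1 hb.2
    have hline : finrank F R ≤ 1 := by
      let L : R × (F × F) →ₗ[F] W :=
        (Submodule.inclusion (inf_le_left.trans inf_le_left : R ≤ W)).coprod
          ((LinearMap.toSpanSingleton F W ⟨a, ha⟩).coprod (LinearMap.toSpanSingleton F W ⟨b, hb.1⟩))
      have hinj : Function.Injective L := by
        refine LinearMap.ker_eq_bot.1 ((Submodule.eq_bot_iff _).2 ?_)
        rintro ⟨r, x, y⟩ hz
        have h0 : (r : ι → F) + (x • a + y • b) = 0 := congrArg Subtype.val (LinearMap.mem_ker.1 hz)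
        have hra : 𝔅 a (r : ι → F) = 0 := mem_qperp_singleton.1 r.2.1.2
        have hrb : 𝔅 b (r : ι → F) = 0 := mem_qperp_singleton.1 r.2.2
        have e1 := congrArg (𝔅 a) h0
        have e2 := congrArg (𝔅 b) h0
        simp [QuadraticMap.polar_add_right, QuadraticMap.polar_smul_right, polar_self', haq, hbq, hab, hra, hrb,
          QuadraticMap.polar_comm (⇑Q) b a, h20] at e1 e2
        rw [e1, e2, zero_smul, zero_smul, add_zero, add_zero] at h0
        exact Prod.ext (Subtype.ext h0) (Prod.ext e1 e2)
      have := LinearMap.finrank_le_finrank_of_injective hinj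
      rw [Module.finrank_prod, Module.finrank_prod, Module.finrank_self, hdim] at this
      omega
    have hspan : Submodule.span F {d} = R := Submodule.eq_of_le_of_finrank_le
      ((Submodule.span_singleton_le_iff_mem _ _).2 hd) (by rw [finrank_span_singleton hd0]; exact hline)
    obtain ⟨q, hqe⟩ := Submodule.mem_span_singleton.1 (show e ∈ Submodule.span F {d} by rw [hspan]; exact he)
    rw [← hqe, QuadraticMap.polar_smul_right, polar_self', h0, mul_zero, smul_zero] at hde
    exact zero_ne_one hde
  have hab : 𝔅 a b = 0 := mem_qperp_singleton.1 hb.2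
  have had : 𝔅 a d = 0 := mem_qperp_singleton.1 hd.1.2
  have hbd : 𝔅 b d = 0 := mem_qperp_singleton.1 hd.2
  by_cases hd1 : Q d = 1
  · refine ⟨1, ![a, b, d], one_ne_zero, fun r => ?_, fun r => ?_, fun r l h => ?_⟩
    · fin_cases r <;> [exact ha; exact hb.1; exact hd.1.1]
    · fin_cases r <;> simp [haq, hbq, hd1]
    · fin_cases r <;> fin_cases l <;>
        simp_all [QuadraticMap.polar_comm (⇑Q) b a, QuadraticMap.polar_comm (⇑Q) d a, QuadraticMap.polar_comm (⇑Q) d b]
  · have hdm : Q d = -1 := by
      rcases mul_self_eq_one_iff.1 (sq_three hq hdq) with h | h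
      · exact absurd h hd1
      · exact h
    refine ⟨-1, ![a + b, a - b, d], neg_ne_zero.2 one_ne_zero, fun r => ?_, fun r => ?_, fun r l h => ?_⟩
    · fin_cases r <;> [exact W.add_mem ha hb.1; exact W.sub_mem ha hb.1; exact hd.1.1]
    · fin_cases r
      · show Q (a + b) = -1
        rw [QuadraticMap.map_add (⇑Q), haq, hbq, hab]; linear_combination h30
      · show Q (a - b) = -1
        rw [sub_eq_add_neg, QuadraticMap.map_add (⇑Q), QuadraticMap.map_neg, QuadraticMap.polar_neg_right,
          haq, hbq, hab]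
        linear_combination h30
      · exact hdm
    · fin_cases r <;> fin_cases l <;>
        simp_all [QuadraticMap.polar_add_left, QuadraticMap.polar_add_right, QuadraticMap.polar_sub_left,
          QuadraticMap.polar_sub_right, QuadraticMap.polar_comm (⇑Q) b a, QuadraticMap.polar_comm (⇑Q) d a,
          QuadraticMap.polar_comm (⇑Q) d b, polar_self']

/-- The small exceptional decompositions in odd characteristic. -/
theorem not_maximal_decomp_odd (hQ : (QuadraticMap.polarBilin Q).Nondegenerate) (hn : 13 ≤ Fintype.card ι)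
    {t k : ℕ} {D : Fin t → Submodule F (ι → F)} (hD : IsOrthogonalMDecomposition (⇑Q) k D)
    (hcase : ((k = 2 ∨ k = 3) ∧ Fintype.card F = 3) ∨
      (k = 2 ∧ Fintype.card F = 5 ∧ ∀ i, IsPlusTypeOn (⇑Q) (D i))) :
    ∃ K : Subgroup (GL ι F), decompositionStabilizer D ⊓ omegaGL ⇑Q < K ∧ K < omegaGL ⇑Q := by
  have hk : 2 ≤ k ∧ k ≤ 3 := by rcases hcase with ⟨h | h, -⟩ | ⟨h, -, -⟩ <;> omega
  have ht : 5 ≤ t := by
    have h := MaxSub.card_le_of_isMDecomposition hD.decomp.decomp
    by_contra hlt
    have : t * k ≤ 4 * 3 := Nat.mul_le_mul (by omega) hk.2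
    omega
  have hn5 : 5 ≤ Fintype.card ι := by omega
  have h2 : (2 : F) ≠ 0 := by
    rcases hcase with ⟨-, h⟩ | ⟨-, h, -⟩
    · exact (three_facts h).1
    · exact (five_facts h).1
  have hnd : ∀ i, Nd Q (D i) := fun i => nd_of_isNondegenerateOn (hD.decomp.nondegenerate i)
  have hfin := hD.decomp.decomp.finrank_eq
  have horth := hD.decomp.orthogonal
  set i₀ : Fin t := ⟨0, by omega⟩
  choose e he using fun i => hD.isometric i₀ i
  have hQe : ∀ i (w : D i₀), Q (e i w : ι → F) = Q (w : ι → F) := he
  have hBe : ∀ i (w w' : D i₀), 𝔅 (e i w : ι → F) (e i w' : ι → F) = 𝔅 (w : ι → F) (w' : ι → F) := fun i w w' => by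
    simp only [QuadraticMap.polar, ← Submodule.coe_add, ← map_add, hQe]
  -- frames from one frame
  have hframes : ∀ (c : F) (a : Fin k → ι → F), c ≠ 0 → (∀ r, a r ∈ D i₀) → (∀ r, Q (a r) = c) →
      (∀ r l, r ≠ l → 𝔅 (a r) (a l) = 0) →
      (∀ x : Fin k → F, ∑ r, x r * x r = 1 → ∃ r, ∀ l, l ≠ r → x l = 0) →
      ∃ K : Subgroup (GL ι F), decompositionStabilizer D ⊓ omegaGL ⇑Q < K ∧ K < omegaGL ⇑Q := by
    intro c a hc ha haq hao harith
    refine not_maximal_frames hQ hn5 h2 (by omega) hk.1 horth hc
      (a := fun i r => (e i ⟨a r, ha r⟩ : ι → F)) (fun i r => (e i _).2) (fun i r => by rw [hQe]; exact haq r)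
      (fun i r l hrl => by rw [hBe]; exact hao r l hrl) fun i v hv hvq => ?_
    exact mem_line_of_frame h2 (hfin i) hc (fun r => (e i _).2) (fun r => by rw [hQe]; exact haq r)
      (fun r l hrl => by rw [hBe]; exact hao r l hrl) harith hv hvq
  rcases hcase with ⟨rfl | rfl, hq⟩ | ⟨rfl, hq, hplus⟩
  · obtain ⟨h20, h21, h30⟩ := three_facts hq
    by_cases hsing : ∃ s ∈ D i₀, s ≠ 0 ∧ Q s = 0
    · -- one line of value one in each member
      obtain ⟨s, hs, hs0, hsq⟩ := hsing
      obtain ⟨f, hf, hfq, hsf⟩ := exists_partner_in hs hsq (by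
        obtain ⟨w, hw, hsw⟩ := (hnd i₀).exists_polar_one hs hs0
        exact ⟨w, hw, by rw [hsw]; exact one_ne_zero⟩)
      refine not_maximal_lines hQ hn5 h2 (by omega) (by
          have := MaxSub.card_le_of_isMDecomposition hD.decomp.decomp
          have hsum : 2 * t ≤ Fintype.card ι := by
            have hle : (⊤ : Submodule F (ι → F)) = iSup D := hD.decomp.decomp.iSup_eq_top.symm
            have hint : DirectSum.IsInternal D :=
              (DirectSum.isInternal_submodule_iff_iSupIndep_and_iSup_eq_top D).2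
                ⟨hD.decomp.decomp.indep, hD.decomp.decomp.iSup_eq_top⟩
            have := LinearEquiv.finrank_eq (LinearEquiv.ofBijective (DirectSum.coeLinearMap D) hint)
            rw [Module.finrank_directSum, Module.finrank_pi] at this
            simp only [hfin, Finset.sum_const, Finset.card_univ, Fintype.card_fin, smul_eq_mul] at this
            omega
          omega)
        horth hnd (fun i => (hfin i).ge) one_ne_zero
        (a := fun i => (e i ⟨s + f, (D i₀).add_mem hs hf⟩ : ι → F)) (fun i => (e i _).2)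
        (fun i => by
          rw [hQe]
          show Q (s + f) = 1
          rw [QuadraticMap.map_add (⇑Q), hsq, hfq, hsf, zero_add, zero_add])
        fun i v hv hvq => ?_
      obtain ⟨w, hw⟩ := (e i).surjective ⟨v, hv⟩
      have hvw : v = (e i w : ι → F) := (congrArg Subtype.val hw).symm
      rw [hvw, hQe, eq_pair_coords (hfin i₀) hs hf hsq hfq hsf w.2] at hvq
      set x := 𝔅 f (w : ι → F) with hx
      set y := 𝔅 s (w : ι → F) with hy
      rw [QuadraticMap.map_add (⇑Q), QuadraticMap.map_smul, QuadraticMap.map_smul, hsq, hfq,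
        QuadraticMap.polar_smul_left, QuadraticMap.polar_smul_right, hsf] at hvq
      simp only [smul_eq_mul, mul_zero, zero_add, mul_one] at hvq
      have hyx : y = x := by
        have hxx := sq_three hq (left_ne_zero_of_mul_eq_one hvq)
        linear_combination x * hvq - y * hxx
      refine Submodule.mem_span_singleton.2 ⟨x, ?_⟩
      rw [hvw, ← Submodule.coe_smul, ← map_smul]
      congr 2
      refine Subtype.ext ?_
      rw [Submodule.coe_smul, eq_pair_coords (hfin i₀) hs hf hsq hfq hsf w.2, ← hx, ← hy, hyx, smul_add]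
    · push Not at hsing
      obtain ⟨a, ha, haq⟩ := exists_value_mem (hnd i₀).inf_qperp (hfin i₀).ge (1 : F) one_ne_zero
      obtain ⟨b, ⟨hb, hab⟩, hb0⟩ := Submodule.exists_mem_ne_zero_of_ne_bot
        (p := D i₀ ⊓ qperp Q (Submodule.span F {a})) fun h => by
          have := finrank_le_inf_qperp_add_one hQ (D i₀) a
          rw [h, finrank_bot, hfin] at this
          omega
      rw [SetLike.mem_coe, mem_qperp_singleton] at hab
      have hbq : Q b = 1 := by
        rcases mul_self_eq_one_iff.1 (sq_three hq (hsing b hb hb0)) with h | h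
        · exact h
        · refine absurd (show Q (a + b) = 0 by rw [QuadraticMap.map_add (⇑Q), haq, h, hab]; ring)
            (hsing _ ((D i₀).add_mem ha hb) fun h' => ?_)
          have := congrArg (𝔅 a) h'
          rw [QuadraticMap.polar_add_right, polar_self', haq, hab, QuadraticMap.polar_zero_right] at this
          exact h20 (by linear_combination this)
      refine hframes 1 ![a, b] one_ne_zero (fun r => ?_) (fun r => ?_) (fun r l h => ?_)
        (arith_two fun x y hx hy h => h21 (by rw [← h, sq_three hq hx, sq_three hq hy]; ring))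
      · fin_cases r <;> [exact ha; exact hb]
      · fin_cases r <;> simp [haq, hbq]
      · fin_cases r <;> fin_cases l <;> simp_all [QuadraticMap.polar_comm (⇑Q) b a]
  · obtain ⟨c, a, hc, ha, haq, hao⟩ := exists_frame_space hq (hnd i₀) (hfin i₀) hQ
    exact hframes c a hc ha haq hao (arith_three hq)
  · obtain ⟨h20, h30, h50⟩ := five_facts hq
    obtain ⟨U, hUW, hU, hUd⟩ := hplus i₀
    obtain ⟨s, hs, hs0⟩ := Submodule.exists_mem_ne_zero_of_ne_bot (p := U) fun h => by
      rw [h, finrank_bot, hfin] at hUd; omega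
    have hsD := hUW hs
    have hsq : Q s = 0 := hU s hs
    obtain ⟨f, hf, hfq, hsf⟩ := exists_partner_in hsD hsq (by
      obtain ⟨w, hw, hsw⟩ := (hnd i₀).exists_polar_one hsD hs0
      exact ⟨w, hw, by rw [hsw]; exact one_ne_zero⟩)
    have hfs : 𝔅 f s = 1 := by rw [QuadraticMap.polar_comm, hsf]
    have hss : 𝔅 s s = 0 := by rw [polar_self', hsq, mul_zero]
    have hff : 𝔅 f f = 0 := by rw [polar_self', hfq, mul_zero]
    have hab : 𝔅 (s + f) ((2 : F) • s + (3 : F) • f) = 0 := by
      simp only [QuadraticMap.polar_add_left, QuadraticMap.polar_add_right, QuadraticMap.polar_smul_right,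
        hsf, hfs, hss, hff, smul_eq_mul]
      linear_combination h50
    refine hframes 1 ![s + f, (2 : F) • s + (3 : F) • f] one_ne_zero (fun r => ?_) (fun r => ?_)
      (fun r l h => ?_) (arith_two fun x y hx hy h => ?_)
    · fin_cases r
      · exact (D i₀).add_mem hsD hf
      · exact (D i₀).add_mem ((D i₀).smul_mem _ hsD) ((D i₀).smul_mem _ hf)
    · fin_cases r
      · show Q (s + f) = 1
        rw [QuadraticMap.map_add (⇑Q), hsq, hfq, hsf, zero_add, zero_add]
      · show Q ((2 : F) • s + (3 : F) • f) = 1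
        rw [QuadraticMap.map_add (⇑Q), QuadraticMap.map_smul, QuadraticMap.map_smul, hsq, hfq,
          QuadraticMap.polar_smul_left, QuadraticMap.polar_smul_right, hsf]
        simp only [smul_eq_mul]
        linear_combination h50
    · fin_cases r <;> fin_cases l <;>
        first
          | exact absurd rfl h
          | exact hab
          | exact (QuadraticMap.polar_comm (⇑Q) _ _).trans hab
    · rcases sq_five hq hx with h1 | h1 <;> rcases sq_five hq hy with h1' | h1' <;> rw [h1, h1'] at h
      · exact one_ne_zero (show (1 : F) = 0 by linear_combination h)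
      · exact one_ne_zero (show (1 : F) = 0 by linear_combination -h)
      · exact one_ne_zero (show (1 : F) = 0 by linear_combination -h)
      · exact h30 (by linear_combination -h)

end CfsgLib.OrthMax
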