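import Cfsg.Agent.OrthMax.Basic

/-!
# Subspaces invariant under the isometries of a nondegenerate subspace

`Nd Q W`: the polar form is nondegenerate on `W`. `eq_of_refl_invariant`: a nonzero subspace of such `W`
invariant under its reflections and Eichler maps is `W`, apart from a plane with a singular point over at
most three elements.
-/

set_option autoImplicit false
set_option linter.unusedSectionVars false

namespace CfsgLib.OrthMax

open Matrix Module CfsgLib.Spinor CfsgLib.Forms CfsgLib.Forms4 Cfsg.Geo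

variable {F : Type*} [Field F] {ι : Type} [Fintype ι] [DecidableEq ι] {Q : QuadraticForm F (ι → F)}

set_option quotPrecheck false in
local notation "𝔅" => QuadraticMap.polar (⇑Q)

/-- The polar form is nondegenerate on the subspace. -/
def Nd (Q : QuadraticForm F (ι → F)) (W : Submodule F (ι → F)) : Prop :=
  ∀ z ∈ W, (∀ x ∈ W, QuadraticMap.polar (⇑Q) x z = 0) → z = 0

variable {W : Submodule F (ι → F)}

theorem nd_of_isNondegenerateOn (h : IsNondegenerateOn (QuadraticMap.polar (⇑Q)) W) : Nd Q W := by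
  intro z hz hzero
  by_contra hz0
  obtain ⟨⟨x, hx, hxz⟩, -⟩ := h z hz hz0
  exact hxz (hzero x hx)

theorem Nd.inf_qperp (h : Nd Q W) : W ⊓ qperp Q W = ⊥ :=
  (Submodule.eq_bot_iff _).2 fun z hz => h z hz.1 (mem_qperp.1 hz.2)

theorem Nd.exists_polar_one (h : Nd Q W) {a : ι → F} (ha : a ∈ W) (ha0 : a ≠ 0) :
    ∃ w ∈ W, 𝔅 a w = 1 := by
  obtain ⟨x, hx, hxa⟩ : ∃ x ∈ W, 𝔅 x a ≠ 0 := by
    by_contra! hall
    exact ha0 (h a ha hall)
  rw [QuadraticMap.polar_comm] at hxa
  exact ⟨(𝔅 a x)⁻¹ • x, W.smul_mem _ hx, by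
    rw [QuadraticMap.polar_smul_right, smul_eq_mul, inv_mul_cancel₀ hxa]⟩

/-- A vector of `W` killed by the kernel of `𝔅 a` is a multiple of `a`. -/
theorem Nd.mem_span_of_perp (h : Nd Q W) {a z : ι → F} (ha : a ∈ W) (hz : z ∈ W)
    (hperp : ∀ x ∈ W, 𝔅 a x = 0 → 𝔅 x z = 0) : z ∈ Submodule.span F {a} := by
  by_cases ha0 : a = 0
  · rw [h z hz fun x hx => hperp x hx (by rw [ha0, QuadraticMap.polar_zero_left])]
    exact Submodule.zero_mem _
  obtain ⟨t, ht, hat⟩ := h.exists_polar_one ha ha0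
  refine Submodule.mem_span_singleton.2 ⟨𝔅 t z, (sub_eq_zero.1 (h _ (W.sub_mem hz (W.smul_mem _ ha))
    fun x hx => ?_)).symm⟩
  have h0 := hperp (x - 𝔅 a x • t) (W.sub_mem hx (W.smul_mem _ ht))
    (by rw [QuadraticMap.polar_sub_right, QuadraticMap.polar_smul_right, hat, smul_eq_mul, mul_one, sub_self])
  rw [QuadraticMap.polar_sub_left, QuadraticMap.polar_smul_left, smul_eq_mul] at h0
  rw [QuadraticMap.polar_sub_right, QuadraticMap.polar_smul_right, smul_eq_mul,
    QuadraticMap.polar_comm (⇑Q) x a]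
  linear_combination h0

theorem finrank_eq_two {a b : ι → F} (h2 : 2 ≤ finrank F W)
    (h : ∀ z ∈ W, 𝔅 a z = 0 → 𝔅 b z = 0 → z = 0) : finrank F W = 2 := by
  refine le_antisymm ?_ h2
  have hinj : Function.Injective
      (((QuadraticMap.polarBilin Q a).prod (QuadraticMap.polarBilin Q b)).comp W.subtype) := by
    refine LinearMap.ker_eq_bot.1 ((Submodule.eq_bot_iff _).2 fun z hz => Subtype.ext ?_)
    have hz' := LinearMap.mem_ker.1 hz
    exact h z z.2 (congrArg Prod.fst hz') (congrArg Prod.snd hz')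
  simpa using LinearMap.finrank_le_finrank_of_injective hinj

/-- A hyperbolic pair with totally singular complement spans `W`. -/
theorem finrank_eq_two_of_pair (hW : Nd Q W) (h2 : 2 ≤ finrank F W) {p p' : ι → F} (hpW : p ∈ W)
    (hp'W : p' ∈ W) (hp : 𝔅 p p = 0) (hp' : 𝔅 p' p' = 0) (hpp' : 𝔅 p p' = 1)
    (h : ∀ z ∈ W, 𝔅 p z = 0 → 𝔅 p' z = 0 → Q z = 0) : finrank F W = 2 := by
  refine finrank_eq_two (Q := Q) (a := p) (b := p') h2 fun z hz hpz hp'z => hW z hz fun w hw => ?_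
  have hp'p : 𝔅 p' p = 1 := by rw [QuadraticMap.polar_comm, hpp']
  set w' := w - 𝔅 p' w • p - 𝔅 p w • p' with hw'
  have h1 : w' ∈ W := W.sub_mem (W.sub_mem hw (W.smul_mem _ hpW)) (W.smul_mem _ hp'W)
  have h2' : 𝔅 p w' = 0 := by
    simp [hw', QuadraticMap.polar_sub_right, QuadraticMap.polar_smul_right, hp, hpp']
  have h3 : 𝔅 p' w' = 0 := by
    simp [hw', QuadraticMap.polar_sub_right, QuadraticMap.polar_smul_right, hp', hp'p]
  have h4 : 𝔅 w' z = 0 := by
    have hs := h _ (W.add_mem h1 hz) (by rw [QuadraticMap.polar_add_right, h2', hpz, add_zero])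
      (by rw [QuadraticMap.polar_add_right, h3, hp'z, add_zero])
    rwa [QuadraticMap.map_add (⇑Q), h _ h1 h2' h3, h _ hz hpz hp'z, zero_add, zero_add] at hs
  rwa [hw', QuadraticMap.polar_sub_left, QuadraticMap.polar_sub_left, QuadraticMap.polar_smul_left,
    QuadraticMap.polar_smul_left, hpz, hp'z, smul_zero, smul_zero, sub_zero, sub_zero] at h4

variable [Fintype F]

theorem card_le_three (h : ∀ c : F, c = 0 ∨ c = 1 ∨ c = -1) : Fintype.card F ≤ 3 := by
  classical
  have : (Finset.univ : Finset F) ⊆ {0, 1, -1} := fun c _ => by simpa using h c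
  exact (Finset.card_univ (α := F)).symm.le.trans ((Finset.card_le_card this).trans Finset.card_le_three)

theorem eq_of_refl_invariant {A : Submodule F (ι → F)} (hW : Nd Q W) (hA : A ≤ W) (hA0 : A ≠ ⊥)
    (hrefl : ∀ v ∈ W, Q v ≠ 0 → v ∉ A → ∀ a ∈ A, 𝔅 v a = 0)
    (heich : ∀ s ∈ W, ∀ s' ∈ W, ∀ a ∈ A, Q s = 0 → Q s' = 0 → 𝔅 s s' = 0 → eich Q s s' *ᵥ a ∈ A)
    (hex : ¬(Fintype.card F ≤ 3 ∧ finrank F W = 2 ∧ ∃ s ∈ W, s ≠ 0 ∧ Q s = 0)) : A = W := by
  by_contra hne
  have hlt : A < W := lt_of_le_of_ne hA hne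
  obtain ⟨x₀, hx₀W, hx₀A⟩ := SetLike.exists_of_lt hlt
  obtain ⟨a₀, ha₀, ha₀0⟩ := Submodule.exists_mem_ne_zero_of_ne_bot hA0
  have h2k : 2 ≤ finrank F W := by
    have h1 := Submodule.finrank_lt_finrank_of_lt hlt
    have h2 : finrank F A ≠ 0 := fun h => hA0 (Submodule.finrank_eq_zero.1 h)
    omega
  have hsing : ∀ v ∈ W, v ∉ A → ∀ a ∈ A, 𝔅 v a ≠ 0 → Q v = 0 := fun v hv hvA a ha hva => by
    by_contra hq
    exact hva (hrefl v hv hq hvA a ha)
  -- two scalar values rule out a singular line through `p` in the direction `x`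
  have hline : ∀ {t : F}, t ≠ 0 → t ≠ 1 → ∀ p x : ι → F, Q p = 0 →
      (∀ c : F, c ≠ 0 → Q (p + c • x) = 0) → Q x = 0 := by
    intro t ht0 ht1 p x hp h
    have e1 := h 1 one_ne_zero
    have et := h t ht0
    rw [QuadraticMap.map_add (⇑Q), hp, QuadraticMap.map_smul, QuadraticMap.polar_smul_right,
      smul_eq_mul, smul_eq_mul] at e1 et
    refine (mul_eq_zero.1 (show (t * t - t) * Q x = 0 by linear_combination et - t * e1)).resolve_left ?_
    rw [show t * t - t = t * (t - 1) by ring]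
    exact mul_ne_zero ht0 (sub_ne_zero.2 ht1)
  -- over two elements
  have htwo : (¬∃ t : F, t ≠ 0 ∧ t ≠ 1) → Fintype.card F ≤ 3 ∧ (2 : F) = 0 ∧ ∀ c : F, c ≠ 0 → c = 1 := by
    intro ht
    push Not at ht
    refine ⟨card_le_three fun c => ?_, ?_, ht⟩
    · rcases eq_or_ne c 0 with h | h
      · exact Or.inl h
      · exact Or.inr (Or.inl (ht c h))
    · by_contra h
      exact one_ne_zero (show (1 : F) = 0 by linear_combination ht 2 h)
  by_cases hI : ∃ x ∈ W, x ∉ A ∧ Q x ≠ 0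
  swap
  · push Not at hI
    have hx₀q := hI x₀ hx₀W hx₀A
    obtain ⟨y, hy, hyq⟩ : ∃ y ∈ W, Q y ≠ 0 := by
      by_contra! h
      exact ha₀0 (hW a₀ (hA ha₀) fun x hx => polar_eq_zero h hx (hA ha₀))
    have hyA : y ∈ A := by_contra fun h => hyq (hI y hy h)
    have hl : ∀ y ∈ A, ∀ c : F, Q (x₀ + c • y) = 0 := fun y hy c =>
      hI _ (W.add_mem hx₀W (W.smul_mem _ (hA hy))) fun h =>
        hx₀A ((A.add_mem_iff_left (A.smul_mem _ hy)).1 h)
    by_cases ht : ∃ t : F, t ≠ 0 ∧ t ≠ 1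
    · obtain ⟨t, ht0, ht1⟩ := ht
      exact hyq (hline ht0 ht1 x₀ y hx₀q fun c _ => hl y hyA c)
    obtain ⟨hq, h2, h1⟩ := htwo ht
    have hB : ∀ y ∈ A, Q y ≠ 0 → 𝔅 x₀ y = 1 := fun y hy hyq => by
      refine h1 _ fun h => hyq ?_
      have := hl y hy 1
      rwa [one_smul, QuadraticMap.map_add (⇑Q), h, hx₀q, zero_add, add_zero] at this
    refine hex ⟨hq, finrank_eq_two_of_pair hW h2k hx₀W hy
      (by rw [polar_self', hx₀q, mul_zero]) (by rw [polar_self', h2, zero_mul]) (hB y hyA hyq)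
      fun z hz hxz hyz => ?_, x₀, hx₀W, fun h => hx₀A (h ▸ A.zero_mem), hx₀q⟩
    by_contra hzq
    exact one_ne_zero ((hB z (by_contra fun h => hzq (hI z hz h)) hzq).symm.trans hxz)
  obtain ⟨x, hxW, hxA, hxq⟩ := hI
  have hxa : ∀ a ∈ A, 𝔅 x a = 0 := hrefl x hxW hxq hxA
  -- `A` is nondegenerate
  have hrad : ∀ r ∈ A, r ≠ 0 → ∃ a ∈ A, 𝔅 r a ≠ 0 := by
    intro r hr hr0
    by_contra! hperp
    obtain ⟨y, hy, hry⟩ := hW.exists_polar_one (hA hr) hr0
    have key : ∀ v ∈ W, 𝔅 r v = 1 → Q v = 0 := fun v hv hrv =>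
      hsing v hv (fun h => one_ne_zero (hrv.symm.trans (hperp v h))) r hr
        (by rw [QuadraticMap.polar_comm, hrv]; exact one_ne_zero)
    have hyq := key y hy hry
    have hrx : 𝔅 r x = 0 := by rw [QuadraticMap.polar_comm, hxa r hr]
    by_cases ht : ∃ t : F, t ≠ 0 ∧ t ≠ 1
    · obtain ⟨t, ht0, ht1⟩ := ht
      refine hxq (hline ht0 ht1 y x hyq fun c _ => key _ (W.add_mem hy (W.smul_mem _ hxW)) ?_)
      rw [QuadraticMap.polar_add_right, QuadraticMap.polar_smul_right, hrx, hry, smul_zero, add_zero]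
    obtain ⟨hq, h2, -⟩ := htwo ht
    refine hex ⟨hq, finrank_eq_two_of_pair hW h2k (hA hr) hy (hperp r hr)
      (by rw [polar_self', hyq, mul_zero]) hry fun z hz hrz hyz => ?_, y, hy,
      fun h => by simp [h] at hry, hyq⟩
    have := key _ (W.add_mem hy hz) (by rw [QuadraticMap.polar_add_right, hry, hrz, add_zero])
    rwa [QuadraticMap.map_add (⇑Q), hyq, hyz, zero_add, add_zero] at this
  have hval : ∀ a ∈ A, a ≠ 0 → ∀ c : F, c ≠ 0 → Q x + c * c * Q a = 0 := by
    intro a ha ha0 c hc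
    obtain ⟨a', ha', haa'⟩ := hrad a ha ha0
    have := hsing (x + c • a) (W.add_mem hxW (W.smul_mem _ (hA ha)))
      (fun h => hxA ((A.add_mem_iff_left (A.smul_mem _ ha)).1 h)) a' ha' (by
        rw [QuadraticMap.polar_add_left, QuadraticMap.polar_smul_left, hxa a' ha', zero_add,
          smul_eq_mul]
        exact mul_ne_zero hc haa')
    rwa [QuadraticMap.map_add (⇑Q), QuadraticMap.map_smul, QuadraticMap.polar_smul_right, hxa a ha,
      smul_zero, add_zero, smul_eq_mul] at this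
  have hval1 : ∀ a ∈ A, a ≠ 0 → Q a = -Q x := fun a ha ha0 => by
    linear_combination hval a ha ha0 1 one_ne_zero
  have hsq : ∀ c : F, c = 0 ∨ c = 1 ∨ c = -1 := fun c => by
    rcases eq_or_ne c 0 with h | h
    · exact Or.inl h
    · exact Or.inr (mul_self_eq_one_iff.1 (mul_right_cancel₀ hxq
        (by linear_combination (-1 : F) * hval a₀ ha₀ ha₀0 c h + c * c * hval1 a₀ ha₀ ha₀0)))
  obtain ⟨a', ha', haa'⟩ := hrad a₀ ha₀ ha₀0
  by_cases h2 : (2 : F) = 0
  · -- two elements: the Eichler map carries `a₀` out of `A`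
    have h1 : ∀ c : F, c ≠ 0 → c = 1 := fun c hc => by
      rcases hsq c with h | h | h
      · exact absurd h hc
      · exact h
      · rw [h]; linear_combination -h2
    have ha'0 : a' ≠ 0 := fun h => haa' (by rw [h, QuadraticMap.polar_zero_right])
    have hqx : Q x = 1 := h1 _ hxq
    have hqa : ∀ a ∈ A, a ≠ 0 → Q a = 1 := fun a ha ha0 => by
      rw [hval1 a ha ha0, hqx]; linear_combination -h2
    have haa : 𝔅 a₀ a₀ = 0 := by rw [polar_self', h2, zero_mul]
    have ha'a' : 𝔅 a' a' = 0 := by rw [polar_self', h2, zero_mul]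
    have haa'1 := h1 _ haa'
    obtain ⟨w, hw, hxw⟩ := hW.exists_polar_one hxW (fun h => hxA (h ▸ A.zero_mem))
    set b := w - 𝔅 a' w • a₀ - 𝔅 a₀ w • a' with hb
    have hbW : b ∈ W := W.sub_mem (W.sub_mem hw (W.smul_mem _ (hA ha₀))) (W.smul_mem _ (hA ha'))
    have hab : 𝔅 a₀ b = 0 := by
      simp [hb, QuadraticMap.polar_sub_right, QuadraticMap.polar_smul_right, haa, haa'1]
    have ha'b : 𝔅 a' b = 0 := by
      simp [hb, QuadraticMap.polar_sub_right, QuadraticMap.polar_smul_right, ha'a',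
        (QuadraticMap.polar_comm (⇑Q) a' a₀).trans haa'1]
    have hxb : 𝔅 x b = 1 := by
      simp [hb, QuadraticMap.polar_sub_right, QuadraticMap.polar_smul_right, hxa _ ha₀, hxa _ ha', hxw]
    have hbA : b ∉ A := fun h => one_ne_zero (hxb.symm.trans (hxa b h))
    have hqb : Q b = 1 := by
      refine h1 _ fun hb0 => ?_
      have := hsing (b + a₀) (W.add_mem hbW (hA ha₀)) (fun h => hbA ((A.add_mem_iff_left ha₀).1 h)) a' ha'
        (by rw [QuadraticMap.polar_add_left, QuadraticMap.polar_comm (⇑Q) b a', ha'b, zero_add]; exact haa')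
      rw [QuadraticMap.map_add (⇑Q), hb0, hqa _ ha₀ ha₀0, QuadraticMap.polar_comm (⇑Q) b a₀, hab] at this
      simp at this
    have hmem := heich (a₀ + x) (W.add_mem (hA ha₀) hxW) (a' + b) (W.add_mem (hA ha') hbW) a₀ ha₀
      (by rw [QuadraticMap.map_add (⇑Q), hqa _ ha₀ ha₀0, hqx, QuadraticMap.polar_comm (⇑Q) a₀ x,
        hxa _ ha₀]; linear_combination h2)
      (by rw [QuadraticMap.map_add (⇑Q), hqa _ ha' ha'0, hqb, ha'b]; linear_combination h2)
      (by
        simp only [QuadraticMap.polar_add_left, QuadraticMap.polar_add_right, haa'1, hab, hxa _ ha', hxb]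
        linear_combination h2)
    refine hxA (neg_mem_iff.1 ?_)
    rw [eich_mulVec, show 𝔅 (a₀ + x) a₀ = 0 by rw [QuadraticMap.polar_add_left, haa, hxa _ ha₀, add_zero],
      show 𝔅 (a' + b) a₀ = 1 by rw [QuadraticMap.polar_add_left, QuadraticMap.polar_comm (⇑Q) a' a₀,
        haa'1, QuadraticMap.polar_comm (⇑Q) b a₀, hab, add_zero],
      mul_zero, zero_smul, zero_smul, one_smul, zero_sub, sub_zero] at hmem
    rwa [show -x = a₀ + -(a₀ + x) by abel]
  · -- three elements: `W` is the plane of `a₀` and `x`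
    have hqa := hval1 a₀ ha₀ ha₀0
    have hax : 𝔅 a₀ x = 0 := by rw [QuadraticMap.polar_comm, hxa a₀ ha₀]
    have haa : 𝔅 a₀ a₀ ≠ 0 := by rw [polar_self', hqa]; exact mul_ne_zero h2 (neg_ne_zero.2 hxq)
    refine hex ⟨card_le_three hsq, finrank_eq_two (Q := Q) h2k (a := a₀) (b := x) fun z hz haz hxz => ?_,
      a₀ + x, W.add_mem (hA ha₀) hxW, fun h => haa ?_,
      by rw [QuadraticMap.map_add (⇑Q), hqa, hax]; ring⟩
    · by_contra hz0
      have hne0 : ∀ v, 𝔅 a₀ v = 0 → a₀ + v ≠ 0 := fun v hv h => haa (by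
        have := congrArg (𝔅 a₀) h
        rwa [QuadraticMap.polar_add_right, hv, add_zero, QuadraticMap.polar_zero_right] at this)
      have hQ' : ∀ v, 𝔅 a₀ v = 0 → v ∈ W → Q (a₀ + v) = -Q x + Q v := fun v hv _ => by
        rw [QuadraticMap.map_add (⇑Q), hv, hqa, add_zero]
      have hout : ∀ v ∈ W, 𝔅 a₀ v = 0 → v ∉ A → Q v = Q x := fun v hv hav hvA => by
        have := hsing (a₀ + v) (W.add_mem (hA ha₀) hv) (fun h => hvA ((A.add_mem_iff_right ha₀).1 h))
          a₀ ha₀ (by rwa [QuadraticMap.polar_add_left, QuadraticMap.polar_comm (⇑Q) v a₀, hav, add_zero])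
        rw [hQ' v hav hv] at this
        linear_combination this
      by_cases hzA : z ∈ A
      · have h := hval1 _ (A.add_mem ha₀ hzA) (hne0 z haz)
        rw [hQ' z haz hz, hval1 z hzA hz0] at h
        exact hxq (by linear_combination -h)
      have hqz := hout z hz haz hzA
      have hazx : 𝔅 a₀ (z + x) = 0 := by rw [QuadraticMap.polar_add_right, haz, hax, add_zero]
      have hqzx : Q (z + x) = 2 * Q x := by
        rw [QuadraticMap.map_add (⇑Q), hqz, QuadraticMap.polar_comm (⇑Q) z x, hxz]; ring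
      by_cases hzxA : z + x ∈ A
      · have h := hval1 _ (A.add_mem ha₀ hzxA) (hne0 _ hazx)
        rw [hQ' _ hazx (W.add_mem hz hxW), hqzx] at h
        exact mul_ne_zero h2 hxq (by linear_combination h)
      · have h := hout _ (W.add_mem hz hxW) hazx hzxA
        rw [hqzx] at h
        exact hxq (by linear_combination h)
    · have := congrArg (𝔅 a₀) h
      rwa [QuadraticMap.polar_add_right, hax, add_zero, QuadraticMap.polar_zero_right] at this

end CfsgLib.OrthMax
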