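import Cfsg.Agent.OrthMax.DecompTools
import Cfsg.Agent.OrthMax.InvariantSubspace

/-!
# Orthogonal decompositions into isometric members: components and cycles of members

`DSys Q k D`: the data of an orthogonal decomposition; `DSys.exists_cycle`: an element of `Ω` permuting three
given members cyclically and preserving the others.
-/

set_option autoImplicit false
set_option linter.unusedSectionVars false

namespace CfsgLib.OrthMax

open scoped commutatorElement
open Matrix Module CfsgLib.Spinor CfsgLib.Forms CfsgLib.Forms4 Cfsg.Geo CfsgLib.OmegaOrbits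

variable {F : Type*} [Field F] {ι : Type} [Fintype ι] [DecidableEq ι] {Q : QuadraticForm F (ι → F)}
variable {t k : ℕ} {D : Fin t → Submodule F (ι → F)}

set_option quotPrecheck false in
local notation "𝔅" => QuadraticMap.polar (⇑Q)

/-- An orthogonal decomposition into `t` nondegenerate members of dimension `k`. -/
structure DSys (Q : QuadraticForm F (ι → F)) (k : ℕ) (D : Fin t → Submodule F (ι → F)) : Prop where
  nondeg : (QuadraticMap.polarBilin Q).Nondegenerate
  two_le : 2 ≤ t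
  dim : ∀ i, finrank F (D i) = k
  nd : ∀ i, Nd Q (D i)
  orth : ∀ i j, i ≠ j → AreOrthogonalFor (QuadraticMap.polar ⇑Q) (D i) (D j)
  top : iSup D = ⊤
  iso : ∀ i j, AreIsometricFor (⇑Q) (D i) (D j)

theorem dsys_of_decomp {Q : (ι → F) → F} (hQ : IsNondegenerateQuadraticForm Q)
    (h : IsOrthogonalMDecomposition Q k D) : DSys (AschbacherQuad.quadForm hQ) k D :=
  ⟨AschbacherQuad.quadForm_nondegenerate hQ, h.decomp.decomp.two_le, h.decomp.decomp.finrank_eq,
    fun i => nd_of_isNondegenerateOn (Q := AschbacherQuad.quadForm hQ) (h.decomp.nondegenerate i),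
    h.decomp.orthogonal, h.decomp.decomp.iSup_eq_top, h.isometric⟩

theorem mdecomp_card (hD : IsMDecomposition k D) : t * k = Fintype.card ι := by
  have hint := DirectSum.isInternal_submodule_of_iSupIndep_of_iSup_eq_top hD.indep hD.iSup_eq_top
  have h1 := (LinearEquiv.ofBijective (DirectSum.coeLinearMap D) hint).finrank_eq
  rw [Module.finrank_directSum, Module.finrank_fintype_fun_eq_card] at h1
  simpa [hD.finrank_eq] using h1

theorem Nd.isCompl (hQ : (QuadraticMap.polarBilin Q).Nondegenerate) {W : Submodule F (ι → F)} (h : Nd Q W) :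
    IsCompl W (qperp Q W) := by
  refine ⟨disjoint_iff.2 h.inf_qperp, codisjoint_iff.2 (Submodule.eq_top_of_finrank_eq ?_)⟩
  have h1 := Submodule.finrank_sup_add_finrank_inf_eq W (qperp Q W)
  have h2 := Submodule.finrank_le W
  rw [h.inf_qperp, finrank_bot, finrank_qperp hQ] at h1
  rw [Module.finrank_pi] at h2 ⊢
  omega

variable (h : DSys Q k D)
include h

theorem DSys.mem_qperp {i j : Fin t} (hij : i ≠ j) {x : ι → F} (hx : x ∈ D j) : x ∈ qperp Q (D i) :=
  fun w hw => h.orth i j hij w hw x hx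

theorem DSys.perp {i j : Fin t} (hij : i ≠ j) {x y : ι → F} (hx : x ∈ D i) (hy : y ∈ D j) : 𝔅 x y = 0 :=
  h.orth i j hij x hx y hy

theorem DSys.exists_comp (x : ι → F) : ∃ c : Fin t → ι → F, (∀ i, c i ∈ D i) ∧ ∑ i, c i = x := by
  have hx : x ∈ ⨆ i ∈ Finset.univ, D i := by simp [h.top]
  obtain ⟨μ, hμ⟩ := (Submodule.mem_iSup_finset_iff_exists_sum D x).1 hx
  exact ⟨fun i => μ i, fun i => (μ i).2, hμ⟩

theorem DSys.polar_comp {c : Fin t → ι → F} (hc : ∀ i, c i ∈ D i) {i : Fin t} {z : ι → F} (hz : z ∈ D i) :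
    𝔅 z (∑ j, c j) = 𝔅 z (c i) := by
  show QuadraticMap.polarBilin Q z (∑ j, c j) = _
  rw [map_sum]
  exact Finset.sum_eq_single i (fun j _ hj => h.perp (Ne.symm hj) hz (hc j))
    (fun hi => absurd (Finset.mem_univ i) hi)

/-- A vector orthogonal to all members other than `D i` lies in `D i`. -/
theorem DSys.mem_of_perp {i : Fin t} {x : ι → F} (hx : ∀ j, j ≠ i → x ∈ qperp Q (D j)) : x ∈ D i := by
  obtain ⟨c, hc, rfl⟩ := h.exists_comp x
  rw [Finset.sum_eq_single i (fun j _ hj => h.nd j _ (hc j) fun z hz => ?_)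
    (fun hi => absurd (Finset.mem_univ i) hi)]
  · exact hc i
  · have := hx j hj z hz
    rwa [show QuadraticMap.polarBilin Q z (∑ l, c l) = 𝔅 z (∑ l, c l) from rfl, h.polar_comp hc hz] at this

theorem DSys.quad_comp {c : Fin t → ι → F} (hc : ∀ i, c i ∈ D i) (s : Finset (Fin t)) :
    Q (∑ j ∈ s, c j) = ∑ j ∈ s, Q (c j) := by
  induction s using Finset.induction_on with
  | empty => simp
  | insert a s ha ih =>
    have hz : 𝔅 (c a) (∑ j ∈ s, c j) = 0 := by
      show QuadraticMap.polarBilin Q (c a) (∑ j ∈ s, c j) = 0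
      rw [map_sum]
      exact Finset.sum_eq_zero fun j hj => h.perp (fun (e : a = j) => ha (by rw [e]; exact hj)) (hc a) (hc j)
    rw [Finset.sum_insert ha, Finset.sum_insert ha, QuadraticMap.map_add (⇑Q), ih, hz, add_zero]

theorem DSys.injective (hk : 1 ≤ k) : Function.Injective D := by
  intro i j e
  by_contra hij
  have hb : D i = ⊥ := (Submodule.eq_bot_iff _).2 fun x hx => h.nd i x hx fun y hy =>
    h.perp hij hy (e ▸ hx)
  have := h.dim i
  rw [hb, finrank_bot] at this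
  omega

/-- An isometry exchanging two members and fixing the others. -/
theorem DSys.exists_swap {i j : Fin t} (hij : i ≠ j) :
    ∃ g : Isom Q, g * g = 1 ∧ (∀ x ∈ D i, mat Q g *ᵥ x ∈ D j) ∧ (∀ x ∈ D j, mat Q g *ᵥ x ∈ D i) ∧
      ∀ l, l ≠ i → l ≠ j → ∀ x ∈ D l, mat Q g *ᵥ x = x := by
  obtain ⟨e, he⟩ := h.iso i j
  have hQ := h.nondeg
  set Pi := Submodule.projectionOnto (D i) _ ((h.nd i).isCompl hQ) with hPi
  set Pj := Submodule.projectionOnto (D j) _ ((h.nd j).isCompl hQ) with hPj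
  let L : (ι → F) →ₗ[F] (ι → F) := LinearMap.id - (D i).subtype ∘ₗ Pi - (D j).subtype ∘ₗ Pj
    + (D j).subtype ∘ₗ e.toLinearMap ∘ₗ Pi + (D i).subtype ∘ₗ e.symm.toLinearMap ∘ₗ Pj
  have hL : ∀ (a : D i) (b : D j) (c : ι → F), c ∈ qperp Q (D i) → c ∈ qperp Q (D j) →
      L ((a : ι → F) + b + c) = (e.symm b : ι → F) + e a + c := by
    intro a b c hci hcj
    have e1 : Pi ((a : ι → F) + b + c) = a := by
      rw [hPi, map_add, map_add, Submodule.projectionOnto_apply_left,
        (Submodule.projectionOnto_apply_eq_zero_iff _).2 (h.mem_qperp hij b.2),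
        (Submodule.projectionOnto_apply_eq_zero_iff _).2 hci, add_zero, add_zero]
    have e2 : Pj ((a : ι → F) + b + c) = b := by
      rw [hPj, map_add, map_add, Submodule.projectionOnto_apply_left,
        (Submodule.projectionOnto_apply_eq_zero_iff _).2 (h.mem_qperp hij.symm a.2),
        (Submodule.projectionOnto_apply_eq_zero_iff _).2 hcj, zero_add, add_zero]
    simp only [L, LinearMap.add_apply, LinearMap.sub_apply, LinearMap.id_apply, LinearMap.comp_apply,
      LinearEquiv.coe_coe, Submodule.subtype_apply, e1, e2]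
    abel
  have hdec : ∀ x : ι → F, ∃ (a : D i) (b : D j) (c : ι → F), c ∈ qperp Q (D i) ∧ c ∈ qperp Q (D j) ∧
      (a : ι → F) + b + c = x := by
    intro x
    obtain ⟨a, ha, y, hy, rfl⟩ := (h.nd i).exists_decomp hQ x
    obtain ⟨b, hb, c, hc, rfl⟩ := (h.nd j).exists_decomp hQ y
    refine ⟨⟨a, ha⟩, ⟨b, hb⟩, c, ?_, hc, by rw [add_assoc]⟩
    exact ((qperp Q (D i)).add_mem_iff_right (h.mem_qperp hij hb)).1 hy
  have hLL : ∀ x, L (L x) = x := by
    intro x
    obtain ⟨a, b, c, hci, hcj, rfl⟩ := hdec x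
    rw [hL a b c hci hcj, hL _ _ c hci hcj, e.apply_symm_apply, e.symm_apply_apply]
  have hLQ : ∀ x, Q (L x) = Q x := by
    intro x
    obtain ⟨a, b, c, hci, hcj, rfl⟩ := hdec x
    have key : ∀ (a : D i) (b : D j), Q ((a : ι → F) + b + c) = Q (a : ι → F) + Q (b : ι → F) + Q c := by
      intro a b
      rw [QuadraticMap.map_add (⇑Q), QuadraticMap.map_add (⇑Q), h.perp hij a.2 b.2, add_zero,
        QuadraticMap.polar_add_left, show 𝔅 (a : ι → F) c = 0 from hci _ a.2,
        show 𝔅 (b : ι → F) c = 0 from hcj _ b.2, add_zero, add_zero]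
    have e1 := he (e.symm b)
    rw [e.apply_symm_apply] at e1
    rw [hL a b c hci hcj, key, key, he a, ← e1]
    ring
  refine ⟨⟨⟨LinearMap.toMatrix' L, LinearMap.toMatrix' L, ?_, ?_⟩, fun x _ => ?_⟩, ?_, ?_, ?_, ?_⟩
  · rw [← LinearMap.toMatrix'_comp, show L ∘ₗ L = LinearMap.id from LinearMap.ext hLL, LinearMap.toMatrix'_id]
  · rw [← LinearMap.toMatrix'_comp, show L ∘ₗ L = LinearMap.id from LinearMap.ext hLL, LinearMap.toMatrix'_id]
  · show Q (LinearMap.toMatrix' L *ᵥ x) = Q x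
    rw [LinearMap.toMatrix'_mulVec]; exact hLQ x
  · refine Subtype.ext (Units.ext ?_)
    show LinearMap.toMatrix' L * LinearMap.toMatrix' L = 1
    rw [← LinearMap.toMatrix'_comp, show L ∘ₗ L = LinearMap.id from LinearMap.ext hLL, LinearMap.toMatrix'_id]
  · intro x hx
    show LinearMap.toMatrix' L *ᵥ x ∈ D j
    have := hL ⟨x, hx⟩ 0 0 (Submodule.zero_mem _) (Submodule.zero_mem _)
    simp only [map_zero, ZeroMemClass.coe_zero, add_zero, zero_add] at this
    rw [LinearMap.toMatrix'_mulVec, this]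
    exact (e _).2
  · intro x hx
    show LinearMap.toMatrix' L *ᵥ x ∈ D i
    have := hL 0 ⟨x, hx⟩ 0 (Submodule.zero_mem _) (Submodule.zero_mem _)
    simp only [map_zero, ZeroMemClass.coe_zero, add_zero, zero_add] at this
    rw [LinearMap.toMatrix'_mulVec, this]
    exact (e.symm _).2
  · intro l hli hlj x hx
    show LinearMap.toMatrix' L *ᵥ x = x
    have := hL 0 0 x (h.mem_qperp (Ne.symm hli) hx) (h.mem_qperp (Ne.symm hlj) hx)
    simp only [map_zero, ZeroMemClass.coe_zero, zero_add] at this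
    rw [LinearMap.toMatrix'_mulVec, this]

/-- A cycle of three members in `Ω`, in the stabiliser of the decomposition. -/
theorem DSys.exists_cycle (hk : 1 ≤ k) {i j l : Fin t} (hij : i ≠ j) (hjl : j ≠ l) (hil : i ≠ l) :
    ∃ g ∈ Cfsg.Omega F ⇑Q, (g : GL ι F) ∈ decompositionStabilizer D ∧
      (∀ x ∈ D i, mat Q g *ᵥ x ∈ D l) ∧ (∀ x ∈ D l, mat Q g *ᵥ x ∈ D j) ∧ (∀ x ∈ D j, mat Q g *ᵥ x ∈ D i) ∧
      ∀ m, m ≠ i → m ≠ j → m ≠ l → ∀ x ∈ D m, mat Q g *ᵥ x = x := by
  obtain ⟨a, haa, hai, haj, hao⟩ := h.exists_swap hij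
  obtain ⟨b, hbb, hbj, hbl, hbo⟩ := h.exists_swap hjl
  have hinv : ∀ g : Isom Q, g * g = 1 → g⁻¹ = g := fun g hg => inv_eq_of_mul_eq_one_right hg
  refine ⟨a * b * a * b, ?_, ?_, ?_, ?_, ?_, ?_⟩
  · have : a * b * a * b = ⁅a, b⁆ := by rw [commutatorElement_def, hinv a haa, hinv b hbb]
    rw [this]
    exact Subgroup.commutator_mem_commutator (Subgroup.mem_top a) (Subgroup.mem_top b)
  · refine mem_decompositionStabilizer_of_maps (h.injective hk) h.dim ?_
    have key : ∀ (g : Isom Q), (g = a ∨ g = b) → ∀ m, ∃ m', ∀ x ∈ D m, mat Q g *ᵥ x ∈ D m' := by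
      rintro g (rfl | rfl) m
      · rcases eq_or_ne m i with rfl | hmi
        · exact ⟨j, hai⟩
        rcases eq_or_ne m j with rfl | hmj
        · exact ⟨i, haj⟩
        exact ⟨m, fun x hx => by rw [hao m hmi hmj x hx]; exact hx⟩
      · rcases eq_or_ne m j with rfl | hmj
        · exact ⟨l, hbj⟩
        rcases eq_or_ne m l with rfl | hml
        · exact ⟨j, hbl⟩
        exact ⟨m, fun x hx => by rw [hbo m hmj hml x hx]; exact hx⟩
    intro m
    obtain ⟨m1, h1⟩ := key b (Or.inr rfl) m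
    obtain ⟨m2, h2⟩ := key a (Or.inl rfl) m1
    obtain ⟨m3, h3⟩ := key b (Or.inr rfl) m2
    obtain ⟨m4, h4⟩ := key a (Or.inl rfl) m3
    refine ⟨m4, fun x hx => ?_⟩
    show mat Q (a * b * a * b) *ᵥ x ∈ D m4
    rw [mat_mul, mat_mul, mat_mul, ← mulVec_mulVec, ← mulVec_mulVec, ← mulVec_mulVec]
    exact h4 _ (h3 _ (h2 _ (h1 x hx)))
  · intro x hx
    rw [mat_mul, mat_mul, mat_mul, ← mulVec_mulVec, ← mulVec_mulVec, ← mulVec_mulVec, hbo i hij hil x hx]
    have h2 := hbj _ (hai x hx)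
    rwa [hao l hil.symm hjl.symm _ h2]
  · intro x hx
    rw [mat_mul, mat_mul, mat_mul, ← mulVec_mulVec, ← mulVec_mulVec, ← mulVec_mulVec]
    have h2 := haj _ (hbl x hx)
    rw [hbo i hij hil _ h2]
    exact hai _ h2
  · intro x hx
    rw [mat_mul, mat_mul, mat_mul, ← mulVec_mulVec, ← mulVec_mulVec, ← mulVec_mulVec]
    have h1 := hbj x hx
    rw [hao l hil.symm hjl.symm _ h1]
    exact haj _ (hbl _ h1)
  · intro m hmi hmj hml x hx
    rw [mat_mul, mat_mul, mat_mul, ← mulVec_mulVec, ← mulVec_mulVec, ← mulVec_mulVec, hbo m hmj hml x hx,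
      hao m hmi hmj x hx, hbo m hmj hml x hx, hao m hmi hmj x hx]

end CfsgLib.OrthMax
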