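import Cfsg.Agent.OrthMax.Nondegenerate
import Cfsg.Agent.MaxSub.UnitaryExceptional

/-!
# Stabilisers of orthogonal decompositions: elementary tools
-/

set_option autoImplicit false
set_option linter.unusedSectionVars false

namespace CfsgLib.OrthMax

open Matrix Module CfsgLib.Spinor CfsgLib.Forms Cfsg.Geo CfsgLib.OmegaOrbits

variable {F : Type*} [Field F] {ι : Type} [Fintype ι] [DecidableEq ι] {Q : QuadraticForm F (ι → F)}

set_option quotPrecheck false in
local notation "𝔅" => QuadraticMap.polar (⇑Q)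

/-- A member of an orthogonal family containing a vector pairing with a member of `D i` is `D i`. -/
theorem eq_of_pairing {t : ℕ} {D : Fin t → Submodule F (ι → F)}
    (horth : ∀ i j, i ≠ j → AreOrthogonalFor (QuadraticMap.polar ⇑Q) (D i) (D j)) {i j : Fin t}
    {x y : ι → F} (hx : x ∈ D i) (hy : y ∈ D j) (h : 𝔅 x y ≠ 0) : i = j :=
  by_contra fun hne => h (horth i j hne x hx y hy)

/-- A matrix mapping each of finitely many equidimensional distinct subspaces into one of them. -/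
theorem mem_decompositionStabilizer_of_maps {s d : ℕ} {E : Fin s → Submodule F (ι → F)}
    (hinj : Function.Injective E) (hd : ∀ j, finrank F (E j) = d) {g : GL ι F}
    (h : ∀ j, ∃ j', ∀ x ∈ E j, (g : Matrix ι ι F) *ᵥ x ∈ E j') : g ∈ decompositionStabilizer E := by
  choose σ hσ using h
  have hmap : ∀ j, (E j).map (Matrix.toLin' (g : Matrix ι ι F)) = E (σ j) := fun j =>
    Submodule.eq_of_le_of_finrank_eq (by rintro _ ⟨x, hx, rfl⟩; rw [toLin'_apply]; exact hσ j x hx)
      (by rw [MaxSub.finrank_map_gl', hd, hd])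
  have hginj : Function.Injective (Matrix.toLin' (g : Matrix ι ι F)) := mulVec_injective_iff_isUnit.mpr g.isUnit
  have hσinj : Function.Injective σ := fun j j' e => hinj (Submodule.map_injective_of_injective hginj (by
    show (E j).map _ = (E j').map _
    rw [hmap, hmap, e]))
  exact ⟨Equiv.ofBijective σ (Finite.injective_iff_bijective.1 hσinj), hmap⟩

variable [Fintype F]

/-- An Eichler element moving a nondegenerate subspace. -/
theorem exists_move_nd (hQ : (QuadraticMap.polarBilin Q).Nondegenerate) (hn : 5 ≤ Fintype.card ι)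
    {W : Submodule F (ι → F)} (hW : Nd Q W) (hW0 : W ≠ ⊥) (hd : 3 ≤ finrank F (qperp Q W)) :
    ∃ g ∈ Cfsg.Omega F ⇑Q, (g : GL ι F) ∉ subspaceStabilizer W := by
  obtain ⟨w₀, hw₀, hw₀0⟩ := Submodule.exists_mem_ne_zero_of_ne_bot hW0
  obtain ⟨p, hp, hp0, hpq⟩ := exists_singular hQ (qperp Q W) hd
  obtain ⟨x, hx, hwx⟩ := hW.exists_polar_one hw₀ hw₀0
  have hperp' : ∀ w ∈ W, 𝔅 p w = 0 := fun w hw => by rw [QuadraticMap.polar_comm]; exact mem_qperp.1 hp w hw
  refine ⟨eichIso Q p w₀ hpq (hperp' w₀ hw₀), eich_mem_omega hQ hn hpq _, fun hs => hp0 ?_⟩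
  have h := (MaxSub.mem_subspaceStabilizer_iff.1 hs x).1 hx
  change mat Q (eichIso Q p w₀ hpq (hperp' w₀ hw₀)) *ᵥ x ∈ W at h
  rw [mat_eichIso, eich_mulVec, hperp' x hx, hwx] at h
  simp only [zero_smul, one_smul, mul_zero, sub_zero, zero_sub, W.add_mem_iff_right hx, neg_mem_iff] at h
  exact (Submodule.eq_bot_iff _).1 hW.inf_qperp p ⟨h, hp⟩

/-- `Ω` does not permute the members of an orthogonal family with a nondegenerate member. -/
theorem exists_move_decomp (hQ : (QuadraticMap.polarBilin Q).Nondegenerate) (hn : 5 ≤ Fintype.card ι)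
    {t : ℕ} {D : Fin t → Submodule F (ι → F)}
    (horth : ∀ i j, i ≠ j → AreOrthogonalFor (QuadraticMap.polar ⇑Q) (D i) (D j)) {i : Fin t}
    (hnd : Nd Q (D i)) (h0 : D i ≠ ⊥) (hd : 3 ≤ finrank F (qperp Q (D i))) :
    ∃ g ∈ Cfsg.Omega F ⇑Q, (g : GL ι F) ∉ decompositionStabilizer D := by
  obtain ⟨a, ha, ha0⟩ := Submodule.exists_mem_ne_zero_of_ne_bot h0
  obtain ⟨a', ha', haa'⟩ := hnd.exists_polar_one ha ha0
  obtain ⟨u, hu, hu0, huq⟩ := exists_singular hQ (qperp Q (D i)) hd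
  have hua : ∀ x ∈ D i, 𝔅 u x = 0 := fun x hx => by rw [QuadraticMap.polar_comm]; exact mem_qperp.1 hu x hx
  refine ⟨eichIso Q u a' huq (hua a' ha'), eich_mem_omega hQ hn huq _, fun ⟨σ, hσ⟩ => hu0 ?_⟩
  have h : mat Q (eichIso Q u a' huq (hua a' ha')) *ᵥ a ∈ D (σ i) := by
    rw [← hσ i]; exact Submodule.mem_map_of_mem ha
  rw [mat_eichIso, eich_mulVec, hua a ha, QuadraticMap.polar_comm (⇑Q) a' a, haa'] at h
  simp only [zero_smul, one_smul, mul_zero, sub_zero, zero_sub] at h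
  have hi : σ i = i := eq_of_pairing horth h ha' (by
    rw [QuadraticMap.polar_add_left, QuadraticMap.polar_neg_left, haa', hua a' ha', neg_zero, add_zero]
    exact one_ne_zero)
  rw [hi, (D i).add_mem_iff_right ha, neg_mem_iff] at h
  exact (Submodule.eq_bot_iff _).1 hnd.inf_qperp u ⟨h, hu⟩

/-- The product of the reflections in two orthogonal vectors of the same value. -/
theorem exists_double_refl (hQ : (QuadraticMap.polarBilin Q).Nondegenerate) (hn : 5 ≤ Fintype.card ι)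
    {v v' : ι → F} (hv : Q v ≠ 0) (he : Q v' = Q v) (horth : 𝔅 v v' = 0) :
    ∃ g ∈ Cfsg.Omega F ⇑Q, ∀ x, mat Q g *ᵥ x =
      x - ((Q v)⁻¹ * 𝔅 v x) • v - ((Q v)⁻¹ * 𝔅 v' x) • v' := by
  have hv' : Q v' ≠ 0 := by rwa [he]
  refine ⟨reflIso Q v hv * reflIso Q v' hv', (mem_omega_iff_even hQ (Or.inr (by omega))
    ((IsReflProd.reflIso v hv).mul (IsReflProd.reflIso v' hv'))).2 ⟨by simp, ⟨Q v, by simp [he]⟩⟩,
    fun x => ?_⟩
  rw [mat_mul, ← mulVec_mulVec, mat_reflIso_mulVec, mat_reflIso_mulVec, refl_apply, refl_apply, he,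
    QuadraticMap.polar_sub_right, QuadraticMap.polar_smul_right, horth, smul_zero, sub_zero]
  abel

/-- Coordinates in a nondegenerate plane with a hyperbolic pair. -/
theorem eq_pair_coords {W : Submodule F (ι → F)} (hdim : finrank F W = 2) {s f : ι → F} (hs : s ∈ W)
    (hf : f ∈ W) (hsq : Q s = 0) (hfq : Q f = 0) (hsf : 𝔅 s f = 1) {z : ι → F} (hz : z ∈ W) :
    z = 𝔅 f z • s + 𝔅 s z • f := by
  have hfs : 𝔅 f s = 1 := by rw [QuadraticMap.polar_comm, hsf]
  have hss : 𝔅 s s = 0 := by rw [polar_self', hsq, mul_zero]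
  have hff : 𝔅 f f = 0 := by rw [polar_self', hfq, mul_zero]
  let φ := ((QuadraticMap.polarBilin Q f).prod (QuadraticMap.polarBilin Q s)).comp W.subtype
  have hsurj : Function.Surjective φ := fun ⟨a, b⟩ =>
    ⟨⟨a • s + b • f, W.add_mem (W.smul_mem _ hs) (W.smul_mem _ hf)⟩, by
      simp [φ, QuadraticMap.polar_add_right, QuadraticMap.polar_smul_right, hsf, hfs, hss, hff]⟩
  have hinj : Function.Injective φ :=
    (LinearMap.injective_iff_surjective_of_finrank_eq_finrank (by simp [hdim])).2 hsurj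
  exact congrArg Subtype.val (hinj (a₁ := ⟨z, hz⟩)
    (a₂ := ⟨𝔅 f z • s + 𝔅 s z • f, W.add_mem (W.smul_mem _ hs) (W.smul_mem _ hf)⟩) (by
      simp [φ, QuadraticMap.polar_add_right, QuadraticMap.polar_smul_right, hsf, hfs, hss, hff]))

end CfsgLib.OrthMax
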