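import Cfsg.Agent.OrthMax.PlaneRoot
import Cfsg.Agent.Forms.Diagonal

/-!
# Maximality of stabilisers of decompositions into planes

`isMaximalIn_decomp_two`: for at least five pairwise isometric nondegenerate planes, outside the exceptional
fields, the stabiliser of the decomposition is maximal in `Ω`.
-/

set_option autoImplicit false
set_option linter.unusedSectionVars false

namespace CfsgLib.OrthMax

open Matrix Module CfsgLib.Spinor CfsgLib.Forms CfsgLib.Forms4 Cfsg.Geo CfsgLib.OmegaOrbits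

variable {F : Type*} [Field F] {ι : Type} [Fintype ι] [DecidableEq ι] {Q : QuadraticForm F (ι → F)}

set_option quotPrecheck false in
local notation "𝔅" => QuadraticMap.polar (⇑Q)

theorem Rot.nofix' {M : Subgroup (Isom Q)} {P : Submodule F (ι → F)} {g : Isom Q} (hP : Rot Q M P g)
    (hQ : (QuadraticMap.polarBilin Q).Nondegenerate) {x : ι → F} (hx : mat Q g *ᵥ (mat Q g *ᵥ x) = x) :
    x ∈ qperp Q P := by
  obtain ⟨a, ha, b, hb, rfl⟩ := hP.nd.exists_decomp hQ x
  rw [mulVec_add, mulVec_add, hP.fix b hb, hP.fix b hb, add_left_inj] at hx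
  rw [hP.nofix a ha hx, zero_add]
  exact hb

variable [Fintype F] {t : ℕ} {D : Fin t → Submodule F (ι → F)}

theorem exists_square_pair {a b c : F} (ha : a ≠ 0) :
    IsSquare (a * b) ∨ IsSquare (a * c) ∨ IsSquare (b * c) := by
  by_contra hall
  simp only [not_or] at hall
  obtain ⟨h1, h2, h3⟩ := hall
  obtain ⟨r, hr⟩ := isSquare_mul_of_not_isSquare h1 h2
  exact h3 ⟨r / a, by field_simp; linear_combination hr⟩

open Classical in
/-- The members met by the subspace. -/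
noncomputable def msupp (Q : QuadraticForm F (ι → F)) (D : Fin t → Submodule F (ι → F))
    (P : Submodule F (ι → F)) : Finset (Fin t) :=
  Finset.univ.filter fun m => ¬ P ≤ qperp Q (D m)

variable {P : Submodule F (ι → F)}

theorem mem_msupp {m : Fin t} : m ∈ msupp Q D P ↔ ∃ y ∈ P, y ∉ qperp Q (D m) := by
  classical
  simp [msupp, SetLike.not_le_iff_exists]

theorem perp_of_notMem {m : Fin t} (hm : m ∉ msupp Q D P) {y : ι → F} (hy : y ∈ P) : y ∈ qperp Q (D m) := by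
  by_contra hn
  exact hm (mem_msupp.2 ⟨y, hy, hn⟩)

section Setting

variable {M : Subgroup (Isom Q)} {g : Isom Q}
variable (h : DSys Q 2 D) (hn : 5 ≤ Fintype.card ι) (hM : ContainsFix M D) (hq : Fintype.card F ≠ 3)
  (hb : PlusBound Q D) (ht : 5 ≤ t)
include h hn hM hq hb ht

omit hn hM hq hb ht in
theorem mem_qperp_of_notMem_msupp {m : Fin t} (hm : m ∉ msupp Q D P) {n : ι → F} (hn' : n ∈ D m) :
    n ∈ qperp Q P := fun y hy => by
  show 𝔅 y n = 0
  rw [QuadraticMap.polar_comm]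
  exact perp_of_notMem hm hy n hn'

omit hn hM hq hb ht in
theorem DSys.exists_part (a : Fin t) (x : ι → F) :
    ∃ ω ∈ D a, ∀ z ∈ D a, 𝔅 z ω = 𝔅 z x := by
  obtain ⟨c, hc, rfl⟩ := h.exists_comp x
  exact ⟨c a, hc a, fun z hz => (h.polar_comp hc hz).symm⟩

omit hn hM hq hb ht in
theorem DSys.polar_single {a : Fin t} {X Y ω : ι → F} (hω : ω ∈ D a) (hωY : ∀ z ∈ D a, 𝔅 z ω = 𝔅 z Y)
    (hcond : ∀ m, m ≠ a → X ∈ qperp Q (D m) ∨ Y ∈ qperp Q (D m)) : 𝔅 X Y = 𝔅 X ω := by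
  obtain ⟨c, hc, rfl⟩ := h.exists_comp X
  show QuadraticMap.polarBilin Q (∑ i, c i) Y = QuadraticMap.polarBilin Q (∑ i, c i) ω
  simp only [map_sum, LinearMap.sum_apply]
  refine Finset.sum_congr rfl fun m _ => ?_
  show 𝔅 (c m) Y = 𝔅 (c m) ω
  rcases eq_or_ne m a with rfl | hma
  · exact (hωY _ (hc m)).symm
  rw [h.perp hma (hc m) hω]
  rcases hcond m hma with hX | hY
  · rw [h.comp_zero hc hX, QuadraticMap.polar_zero_left]
  · exact hY _ (hc m)

omit hn hM hq hb ht in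
theorem part_inj (hd : finrank F P = 2) {a : Fin t} (hrk : ∀ n ∈ D a, n ∈ qperp Q P → n = 0) {y : ι → F}
    (hy : y ∈ P) (hyp : y ∈ qperp Q (D a)) : y = 0 := by
  by_contra hy0
  obtain ⟨u, hu, huy⟩ : ∃ u ∈ P, u ∉ Submodule.span F {y} := by
    by_contra! hall
    have := Submodule.finrank_mono (hall : P ≤ Submodule.span F {y})
    rw [hd, finrank_span_singleton hy0] at this
    omega
  obtain ⟨n, hn', hn0, hun⟩ := exists_perp_ne h.nondeg (h.dim a) u
  exact hn0 (hrk n hn' (mem_qperp_of_two hd hy hu hy0 huy (by rw [QuadraticMap.polar_comm]; exact hyp n hn') hun))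

omit hn hM hq hb ht in
theorem two_le_msupp (hd : finrank F P = 2) (hne : ∀ m, P ≠ D m) : 2 ≤ (msupp Q D P).card := by
  by_contra hlt
  obtain ⟨m, hm⟩ : ∃ m, msupp Q D P ⊆ {m} := by
    rcases (msupp Q D P).eq_empty_or_nonempty with he | ⟨m, hm⟩
    · exact ⟨⟨0, by have := h.two_le; omega⟩, by simp [he]⟩
    · exact ⟨m, fun x hx => Finset.mem_singleton.2 (Finset.card_le_one.1 (by omega) x hx m hm)⟩
  refine hne m (Submodule.eq_of_le_of_finrank_eq (fun y hy => h.mem_of_perp fun j hj => ?_) (by rw [hd, h.dim]))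
  exact perp_of_notMem (fun hj' => hj (Finset.mem_singleton.1 (hm hj'))) hy

/-- A member pushed out into two further members gives `Ω`. -/
theorem omega_le_of_push_two {γ : Isom Q} (hγ : γ ∈ M) {c : Fin t} {n x : ι → F} (hn' : n ∈ D c) (hn0 : n ≠ 0)
    (hfix : mat Q γ *ᵥ n = n) (hx : x ∈ D c) {a b : Fin t} (hab : a ≠ b) (hac : a ≠ c) (hbc : b ≠ c)
    (ha : mat Q γ *ᵥ x - x ∉ qperp Q (D a)) (hb' : mat Q γ *ᵥ x - x ∉ qperp Q (D b)) :
    Cfsg.Omega F ⇑Q ≤ M := by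
  classical
  set v := mat Q γ *ᵥ x - x with hv
  by_cases hE : ∃ e, e ≠ c ∧ v ∈ qperp Q (D e)
  · refine omega_le_of_push_plane h hn hM hq hb ht hγ hn' hn0 hfix hx {a, b} (fun f hf => ?_)
      (Or.inl ⟨by rw [Finset.card_pair hab], hE⟩)
    simp only [Finset.mem_insert, Finset.mem_singleton] at hf
    rcases hf with rfl | rfl
    · exact ⟨hac, ha⟩
    · exact ⟨hbc, hb'⟩
  · push Not at hE
    refine omega_le_of_push_plane h hn hM hq hb ht hγ hn' hn0 hfix hx (Finset.univ.erase c)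
      (fun f hf => ⟨(Finset.mem_erase.1 hf).1, hE f (Finset.mem_erase.1 hf).1⟩) (Or.inr ?_)
    rw [Finset.card_erase_of_mem (Finset.mem_univ c), Finset.card_univ, Fintype.card_fin]
    omega

/-- A member met in rank one: either `Ω`, or a very small support and a displacement into one further member. -/
theorem caseA (hP : Rot Q M P g) {c : Fin t} (hc : c ∈ msupp Q D P) {n : ι → F} (hn' : n ∈ D c) (hn0 : n ≠ 0)
    (hnP : n ∈ qperp Q P) :
    Cfsg.Omega F ⇑Q ≤ M ∨ ((msupp Q D P).card ≤ 3 ∧ ∃ x ∈ D c, ∃ a, a ≠ c ∧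
      mat Q g *ᵥ x - x ∉ qperp Q (D a) ∧ ∀ f, f ≠ c → f ≠ a → mat Q g *ᵥ x - x ∈ qperp Q (D f)) := by
  classical
  obtain ⟨x, hx, hxP⟩ : ∃ x ∈ D c, x ∉ qperp Q P := by
    by_contra! hall
    obtain ⟨y, hy, hy'⟩ := mem_msupp.1 hc
    refine hy' fun z hz => ?_
    show 𝔅 z y = 0
    rw [QuadraticMap.polar_comm]
    exact hall z hz y hy
  set v := mat Q g *ᵥ x - x with hv
  have hvP : v ∈ P := hP.diff_mem h.nondeg x
  have hv0 : v ≠ 0 := hP.diff_ne h.nondeg hxP
  set C := Finset.univ.filter fun f => f ≠ c ∧ v ∉ qperp Q (D f) with hC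
  have hCmem : ∀ f, f ∈ C ↔ f ≠ c ∧ v ∉ qperp Q (D f) := fun f => by simp [hC]
  have hCsupp : ∀ f ∈ C, f ∈ msupp Q D P := fun f hf => mem_msupp.2 ⟨v, hvP, ((hCmem f).1 hf).2⟩
  by_cases hC2 : 2 ≤ C.card
  · obtain ⟨a, ha, b, hb', hab⟩ := Finset.one_lt_card.1 hC2
    exact Or.inl (omega_le_of_push_two h hn hM hq hb ht hP.mem hn' hn0 (hP.fix n hnP) hx hab
      ((hCmem a).1 ha).1 ((hCmem b).1 hb').1 ((hCmem a).1 ha).2 ((hCmem b).1 hb').2)
  rcases C.eq_empty_or_nonempty with hC0 | ⟨a, ha⟩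
  · exfalso
    have hvc : v ∈ D c := h.mem_of_perp fun f hf => by
      by_contra hvf
      exact absurd ((hCmem f).2 ⟨hf, hvf⟩) (by simp [hC0])
    have hvn : v ∉ Submodule.span F {n} := fun hm => by
      obtain ⟨d, hd⟩ := Submodule.mem_span_singleton.1 hm
      exact hv0 (hP.nd v hvP fun y hy => (hd ▸ Submodule.smul_mem _ d hnP : v ∈ qperp Q P) y hy)
    have hnv : 𝔅 v n = 0 := hnP v hvP
    have hvq : Q v ≠ 0 := fun e => by
      obtain ⟨d, hd⟩ := Submodule.mem_span_singleton.1 ((h.nd c).mem_span_singular (h.dim c) hvc hn' hv0 e hnv)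
      exact hn0 (hP.nd n (hd ▸ P.smul_mem d hvP) fun y hy => hnP y hy)
    obtain ⟨α, β, hαβ⟩ := plane_span (h.dim c) hn' hvc hn0 hvn hx
    have hgx : β • (mat Q g *ᵥ v - v) = v := by
      conv_rhs => rw [hv, ← hαβ, mulVec_add, mulVec_smul, mulVec_smul, hP.fix n hnP]
      module
    have hβ : β ≠ 0 := fun e => hv0 (by rw [← hgx, e, zero_smul])
    have hgv : mat Q g *ᵥ v = (β⁻¹ + 1) • v := by
      rw [add_smul, one_smul]
      nth_rewrite 2 [← hgx]
      rw [inv_smul_smul₀ hβ, sub_add_cancel]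
    have hsq := quad_mulVec Q g v
    rw [hgv, QuadraticMap.map_smul, smul_eq_mul] at hsq
    have h1 : (β⁻¹ + 1) * (β⁻¹ + 1) = 1 := mul_right_cancel₀ hvq (by linear_combination hsq)
    exact hv0 (hP.nofix v hvP (by rw [hgv, mulVec_smul, hgv, smul_smul, h1, one_smul]))
  obtain ⟨hac, hva⟩ := (hCmem a).1 ha
  have hCa : ∀ f, f ≠ c → f ≠ a → v ∈ qperp Q (D f) := fun f hfc hfa => by
    by_contra hvf
    exact hfa (Finset.card_le_one.1 (by omega) f ((hCmem f).2 ⟨hfc, hvf⟩) a ha)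
  set G := ((msupp Q D P).erase c).erase a with hG
  by_cases hG2 : 2 ≤ G.card
  · obtain ⟨y, hy, hyv⟩ : ∃ y ∈ P, y ∉ Submodule.span F {v} := by
      by_contra! hall
      have := Submodule.finrank_mono (hall : P ≤ Submodule.span F {v})
      rw [hP.dim, finrank_span_singleton hv0] at this
      omega
    have hfix₂ : ∀ m ∈ msupp Q D P, v ∈ qperp Q (D m) → v ∈ qperp Q (D m) ∧ y ∉ qperp Q (D m) := by
      refine fun m hm hvm => ⟨hvm, fun hyp => ?_⟩
      obtain ⟨w, hw, hwm⟩ := mem_msupp.1 hm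
      obtain ⟨α, β, rfl⟩ := plane_span hP.dim hvP hy hv0 hyv hw
      exact hwm (Submodule.add_mem _ (Submodule.smul_mem _ _ hvm) (Submodule.smul_mem _ _ hyp))
    by_cases hlt : (msupp Q D P).card < t
    · obtain ⟨e, he⟩ := h.exists_free _ hlt
      refine Or.inl (omega_le_of_fixed h hn hM hq hb ht hP hvP hy hv0 G (fun m hm => ?_)
        (Or.inl ⟨hG2, e, fun hm => he (Finset.mem_of_mem_erase (Finset.mem_of_mem_erase hm)),
          perp_of_notMem he hvP, perp_of_notMem he hy⟩))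
      simp only [hG, Finset.mem_erase] at hm
      exact hfix₂ m hm.2.2 (hCa m hm.2.1 hm.1)
    by_cases hvc : v ∈ qperp Q (D c)
    · refine Or.inl (omega_le_of_fixed h hn hM hq hb ht hP hvP hy hv0 ((msupp Q D P).erase a)
        (fun m hm => ?_) (Or.inr ?_))
      · simp only [Finset.mem_erase] at hm
        refine hfix₂ m hm.2 ?_
        rcases eq_or_ne m c with rfl | hmc
        · exact hvc
        · exact hCa m hmc hm.1
      · have := Finset.pred_card_le_card_erase (s := msupp Q D P) (a := a)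
        omega
    -- every member met, the displacement not orthogonal to `D c`: push another member
    obtain ⟨m₁, hm₁⟩ := Finset.card_pos.1 (by omega : 0 < G.card)
    have hGcard : 2 < G.card := by
      rw [hG]
      have := Finset.pred_card_le_card_erase (s := msupp Q D P) (a := c)
      have := Finset.pred_card_le_card_erase (s := (msupp Q D P).erase c) (a := a)
      omega
    obtain ⟨b₁, hb₁, b₂, hb₂, hb₁₂⟩ := Finset.one_lt_card.1 (by
      have := Finset.pred_card_le_card_erase (s := G) (a := m₁)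
      omega : 1 < (G.erase m₁).card)
    simp only [hG, Finset.mem_erase] at hm₁ hb₁ hb₂
    have hvm₁ := hCa m₁ hm₁.2.1 hm₁.1
    obtain ⟨n₁, hn₁, hn₁0, hyn₁⟩ := exists_perp_ne h.nondeg (h.dim m₁) y
    have hn₁P : n₁ ∈ qperp Q P := mem_qperp_of_two hP.dim hvP hy hv0 hyv
      (by rw [QuadraticMap.polar_comm]; exact hvm₁ n₁ hn₁) hyn₁
    obtain ⟨x₁, hx₁, hx₁P⟩ : ∃ x₁ ∈ D m₁, x₁ ∉ qperp Q P := by
      by_contra! hall
      obtain ⟨w, hw, hw'⟩ := mem_msupp.1 hm₁.2.2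
      refine hw' fun z hz => ?_
      show 𝔅 z w = 0
      rw [QuadraticMap.polar_comm]
      exact hall z hz w hw
    set v₁ := mat Q g *ᵥ x₁ - x₁ with hv₁
    have hv₁P : v₁ ∈ P := hP.diff_mem h.nondeg x₁
    have hv₁0 : v₁ ≠ 0 := hP.diff_ne h.nondeg hx₁P
    have hv₁v : v₁ ∉ Submodule.span F {v} := fun hm => by
      obtain ⟨d, hd⟩ := Submodule.mem_span_singleton.1 hm
      have hd0 : d ≠ 0 := fun e => hv₁0 (by rw [← hd, e, zero_smul])
      have hzP : x₁ - d • x ∈ qperp Q P := by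
        by_contra hne
        refine hP.diff_ne h.nondeg hne ?_
        rw [mulVec_sub, mulVec_smul]
        linear_combination (norm := module) -hd + hv₁ - d • hv
      have h0 : 𝔅 v (x₁ - d • x) = 0 := hzP v hvP
      rw [QuadraticMap.polar_sub_right, QuadraticMap.polar_smul_right,
        show 𝔅 v x₁ = 0 by rw [QuadraticMap.polar_comm]; exact hvm₁ x₁ hx₁, zero_sub, neg_eq_zero,
        smul_eq_mul, mul_eq_zero] at h0
      have hnx : x ∉ Submodule.span F {n} := fun hm => hxP (by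
        obtain ⟨r, hr⟩ := Submodule.mem_span_singleton.1 hm
        exact hr ▸ Submodule.smul_mem _ r hnP)
      exact hvc (mem_qperp_of_two (h.dim c) hn' hx hn0 hnx (by rw [QuadraticMap.polar_comm]; exact hnP v hvP)
        (by rw [QuadraticMap.polar_comm]; exact h0.resolve_left hd0))
    have hout : ∀ m ∈ msupp Q D P, v ∈ qperp Q (D m) → v₁ ∉ qperp Q (D m) := fun m hm hvm hm' => by
      obtain ⟨w, hw, hwm⟩ := mem_msupp.1 hm
      obtain ⟨α, β, rfl⟩ := plane_span hP.dim hvP hv₁P hv0 hv₁v hw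
      exact hwm (Submodule.add_mem _ (Submodule.smul_mem _ _ hvm) (Submodule.smul_mem _ _ hm'))
    exact Or.inl (omega_le_of_push_two h hn hM hq hb ht hP.mem hn₁ hn₁0 (hP.fix n₁ hn₁P) hx₁ hb₁₂ hb₁.1 hb₂.1
      (hout b₁ hb₁.2.2.2 (hCa b₁ hb₁.2.2.1 hb₁.2.1)) (hout b₂ hb₂.2.2.2 (hCa b₂ hb₂.2.2.1 hb₂.2.1)))
  refine Or.inr ⟨?_, x, hx, a, hac, hva, hCa⟩
  have := Finset.pred_card_le_card_erase (s := msupp Q D P) (a := c)
  have := Finset.pred_card_le_card_erase (s := (msupp Q D P).erase c) (a := a)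
  rw [← hG] at this
  omega

/-- At least four members, all met in rank two. -/
theorem omega_le_of_full_rank (hP : Rot Q M P g) (h4 : 4 ≤ (msupp Q D P).card)
    (hrk : ∀ m ∈ msupp Q D P, ∀ n ∈ D m, n ∈ qperp Q P → n = 0) : Cfsg.Omega F ⇑Q ≤ M := by
  classical
  obtain ⟨m₁, hm₁, m₂, hm₂, m₃, hm₃, h12, h13, h23⟩ :=
    Finset.two_lt_card.1 (by omega : 2 < (msupp Q D P).card)
  have hinj : ∀ {m}, m ∈ msupp Q D P → ∀ {y}, y ∈ P → y ∈ qperp Q (D m) → y = 0 :=
    fun {m} hm {y} hy hym => part_inj h hP.dim (hrk m hm) hy hym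
  -- a vector with nonsingular parts in three members
  obtain ⟨w, hwP, hw0, hw⟩ : ∃ w ∈ P, w ≠ 0 ∧
      ∀ j ∈ ({m₁, m₂, m₃} : Finset (Fin t)), ∃ z ∈ D j, 𝔅 z w = 0 ∧ Q z ≠ 0 := by
    obtain ⟨p₁, hp₁, hp₁0⟩ := Submodule.exists_mem_ne_zero_of_ne_bot (p := P) fun e => by
      have := hP.dim
      rw [e, finrank_bot] at this
      omega
    obtain ⟨p₂, hp₂, hp₂'⟩ : ∃ y ∈ P, y ∉ Submodule.span F {p₁} := by
      by_contra! hall
      have := Submodule.finrank_mono (hall : P ≤ Submodule.span F {p₁})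
      rw [hP.dim, finrank_span_singleton hp₁0] at this
      omega
    have hp₂0 : p₂ ≠ 0 := fun e => hp₂' (e ▸ Submodule.zero_mem _)
    have hsub : ∀ j ∈ ({m₁, m₂, m₃} : Finset (Fin t)), j ∈ msupp Q D P := fun j hj => by
      simp only [Finset.mem_insert, Finset.mem_singleton] at hj
      rcases hj with rfl | rfl | rfl <;> assumption
    choose c hc hcp using fun j => h.exists_part j p₁
    choose d hd hdp using fun j => h.exists_part j p₂
    have hpart : ∀ j, ∀ s : F, ∀ z ∈ D j, 𝔅 z (c j + s • d j) = 𝔅 z (p₁ + s • p₂) := fun j s z hz => by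
      simp only [QuadraticMap.polar_add_right, QuadraticMap.polar_smul_right, hcp j z hz, hdp j z hz]
    have hw0 : ∀ s : F, p₁ + s • p₂ ≠ 0 := fun s e => by
      by_cases hs : s = 0
      · exact hp₁0 (by simpa [hs] using e)
      · refine hp₂' (Submodule.mem_span_singleton.2 ⟨-s⁻¹, ?_⟩)
        rw [show p₁ = -(s • p₂) from eq_neg_of_add_eq_zero_left e, neg_smul_neg, inv_smul_smul₀ hs]
    have hAB : ∀ j ∈ ({m₁, m₂, m₃} : Finset (Fin t)), Q (d j) = 0 → 𝔅 (c j) (d j) ≠ 0 := fun j hj hdq hcd => by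
      have hd0 : d j ≠ 0 := fun e => hp₂0 (hinj (hsub j hj) hp₂ fun z hz => by
        show 𝔅 z p₂ = 0
        rw [← hdp j z hz, e, QuadraticMap.polar_zero_right])
      obtain ⟨r, hr⟩ := Submodule.mem_span_singleton.1 ((h.nd j).mem_span_singular (h.dim j) (hd j) (hc j) hd0 hdq
        (by rw [QuadraticMap.polar_comm, hcd]))
      refine hw0 (-r) (hinj (hsub j hj) (P.add_mem hp₁ (P.smul_mem _ hp₂)) fun z hz => ?_)
      show 𝔅 z (p₁ + -r • p₂) = 0
      rw [← hpart j _ z hz, ← hr, neg_smul, add_neg_cancel, QuadraticMap.polar_zero_right]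
    obtain ⟨s, hs⟩ : ∃ s : F, ∀ j ∈ ({m₁, m₂, m₃} : Finset (Fin t)), Q (c j + s • d j) ≠ 0 := by
      by_cases hsing : ∃ x ∈ D m₁, x ≠ 0 ∧ Q x = 0
      · obtain ⟨x, hx, hx0, hxq⟩ := hsing
        have h7 := hb m₁ x hx hx0 hxq
        obtain ⟨s, hs⟩ := card_le_filter (s := ({m₁, m₂, m₃} : Finset (Fin t)).biUnion fun j =>
            Finset.univ.filter fun s : F => Q (d j) * s ^ 2 + 𝔅 (c j) (d j) * s + Q (c j) = 0) (by
          have := (Finset.card_biUnion_le_card_mul ({m₁, m₂, m₃} : Finset (Fin t)) (fun j =>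
            Finset.univ.filter fun s : F => Q (d j) * s ^ 2 + 𝔅 (c j) (d j) * s + Q (c j) = 0) 2
            fun j hj => card_roots_le_two _ (hAB j hj))
          have := Finset.card_le_three (a := m₁) (b := m₂) (c := m₃)
          omega)
        refine ⟨s, fun j hj e => hs (Finset.mem_biUnion.2 ⟨j, hj, ?_⟩)⟩
        rw [Finset.mem_filter]
        refine ⟨Finset.mem_univ _, ?_⟩
        rw [QuadraticMap.map_add (⇑Q), QuadraticMap.map_smul, QuadraticMap.polar_smul_right, smul_eq_mul,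
          smul_eq_mul] at e
        linear_combination e
      · refine ⟨0, fun j hj e => ?_⟩
        rw [zero_smul, add_zero] at e
        have hc0 : c j ≠ 0 := fun e0 => hp₁0 (hinj (hsub j hj) hp₁ fun z hz => by
          show 𝔅 z p₁ = 0
          rw [← hcp j z hz, e0, QuadraticMap.polar_zero_right])
        obtain ⟨y, hy, hy0, hyq⟩ := h.singular_transfer (hc j) hc0 e m₁
        exact hsing ⟨y, hy, hy0, hyq⟩
    refine ⟨p₁ + s • p₂, P.add_mem hp₁ (P.smul_mem _ hp₂), hw0 s, fun j hj => ?_⟩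
    set wj := c j + s • d j with hwj
    have hwjm : wj ∈ D j := (D j).add_mem (hc j) ((D j).smul_mem _ (hd j))
    obtain ⟨z, hz, hz0, hwz⟩ := exists_perp_ne h.nondeg (h.dim j) wj
    rw [QuadraticMap.polar_comm] at hwz
    refine ⟨z, hz, by rw [← hpart j s z hz]; exact hwz, fun hzq => hs j hj ?_⟩
    obtain ⟨r, hr⟩ := Submodule.mem_span_singleton.1 ((h.nd j).mem_span_singular (h.dim j) hz hwjm hz0 hzq hwz)
    rw [← hwj, ← hr, QuadraticMap.map_smul, hzq, smul_zero]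
  obtain ⟨a, b, za, zb, ha, hb', hab, hza, hzb, hzaw, hzbw, hzaq, hzbq, hsq⟩ : ∃ (a b : Fin t) (za zb : ι → F),
      a ∈ msupp Q D P ∧ b ∈ msupp Q D P ∧ a ≠ b ∧ za ∈ D a ∧ zb ∈ D b ∧ 𝔅 za w = 0 ∧ 𝔅 zb w = 0 ∧
        Q za ≠ 0 ∧ Q zb ≠ 0 ∧ IsSquare (Q za * Q zb) := by
    obtain ⟨z₁, hz₁, hz₁w, hq₁⟩ := hw m₁ (by simp)
    obtain ⟨z₂, hz₂, hz₂w, hq₂⟩ := hw m₂ (by simp)
    obtain ⟨z₃, hz₃, hz₃w, hq₃⟩ := hw m₃ (by simp)
    rcases exists_square_pair (b := Q z₂) (c := Q z₃) hq₁ with hs | hs | hs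
    · exact ⟨m₁, m₂, z₁, z₂, hm₁, hm₂, h12, hz₁, hz₂, hz₁w, hz₂w, hq₁, hq₂, hs⟩
    · exact ⟨m₁, m₃, z₁, z₃, hm₁, hm₃, h13, hz₁, hz₃, hz₁w, hz₃w, hq₁, hq₃, hs⟩
    · exact ⟨m₂, m₃, z₂, z₃, hm₂, hm₃, h23, hz₂, hz₃, hz₂w, hz₃w, hq₂, hq₃, hs⟩
  obtain ⟨y, hy, hyw⟩ : ∃ y ∈ P, y ∉ Submodule.span F {w} := by
    by_contra! hall
    have := Submodule.finrank_mono (hall : P ≤ Submodule.span F {w})
    rw [hP.dim, finrank_span_singleton hw0] at this
    omega
  have hX : ∀ {m z}, m ∈ msupp Q D P → z ∈ D m → Q z ≠ 0 → 𝔅 z w = 0 → 𝔅 z y ≠ 0 :=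
    fun {m z} hm hz hzq hzw hzy => hzq (by
      rw [hrk m hm z hz (mem_qperp_of_two hP.dim hwP hy hw0 hyw (by rw [QuadraticMap.polar_comm, hzw])
        (by rw [QuadraticMap.polar_comm, hzy])), QuadraticMap.map_zero])
  set α := -((Q za)⁻¹ * 𝔅 za y) with hα
  set β := -((Q zb)⁻¹ * 𝔅 zb y) with hβ
  set δ := α • za + β • zb with hδ
  have hk := refl2_mem h hn hM hzaq hzbq hza hzb hsq
  set k := reflIso Q za hzaq * reflIso Q zb hzbq with hkdef
  have hzab := h.perp hab hza hzb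
  have hkform : ∀ u, mat Q k *ᵥ u = u + ((-((Q za)⁻¹ * 𝔅 za u)) • za + (-((Q zb)⁻¹ * 𝔅 zb u)) • zb) := fun u => by
    rw [hkdef, mat_refl_two, refl_apply, refl_apply, QuadraticMap.polar_sub_right, QuadraticMap.polar_smul_right,
      hzab, smul_zero, sub_zero]
    module
  have hkw : mat Q k *ᵥ w = w := by rw [hkform, hzaw, hzbw]; simp
  have hky : mat Q k *ᵥ y = y + δ := hkform y
  have hδperp : ∀ m, m ≠ a → m ≠ b → δ ∈ qperp Q (D m) := fun m hma hmb =>
    Submodule.add_mem _ (Submodule.smul_mem _ _ (h.mem_qperp hma hza)) (Submodule.smul_mem _ _ (h.mem_qperp hmb hzb))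
  obtain ⟨c, hcs, hc⟩ : ∃ c ∈ msupp Q D P, c ∉ ({a, b} : Finset (Fin t)) := by
    by_contra! hall
    have := Finset.card_le_card hall
    have := Finset.card_le_two (a := a) (b := b)
    omega
  simp only [Finset.mem_insert, Finset.mem_singleton, not_or] at hc
  by_cases hδq : Q δ = 0
  · refine omega_le_of_shear h hn hM hq hb ht hP hwP hy hk hkw hky (fun e => ?_) hδq {a, b}
      (fun m hm => by simp only [Finset.mem_insert, Finset.mem_singleton, not_or] at hm; exact hδperp m hm.1 hm.2)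
      (fun f hf => by
        obtain ⟨e, he⟩ := h.exists_free {f, a, b} (by
          have := Finset.card_le_three (a := f) (b := a) (c := b); omega)
        simp only [Finset.mem_insert, Finset.mem_singleton, not_or] at he
        exact h.comp_of_perp (Ne.symm he.1) (hδperp e he.2.1 he.2.2))
      ⟨c, by simp [hc.1, hc.2], fun hwc => hw0 (hinj hcs hwP hwc)⟩
    obtain ⟨x, hx, hax⟩ := (h.nd a).exists_polar_one hza (fun e0 => hzaq (by rw [e0, QuadraticMap.map_zero]))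
    have := congrArg (fun v => 𝔅 v x) e
    simp only [hδ, QuadraticMap.polar_add_left, QuadraticMap.polar_smul_left, hax, h.perp hab.symm hzb hx,
      QuadraticMap.polar_zero_left, smul_zero, smul_eq_mul, mul_zero, add_zero, mul_one, hα, neg_eq_zero, mul_eq_zero,
      inv_eq_zero] at this
    exact this.elim hzaq (hX ha hza hzaq hzaw)
  have hδy : 𝔅 δ y = -Q δ := by
    have h1 := quad_mulVec Q k y
    rw [hky, QuadraticMap.map_add (⇑Q), QuadraticMap.polar_comm] at h1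
    linear_combination h1
  have hδP : δ ∉ qperp Q P := fun hm => hδq (by
    have h1 : 𝔅 δ y = 0 := by rw [QuadraticMap.polar_comm]; exact hm y hy
    rw [h1] at hδy
    linear_combination hδy)
  obtain ⟨γ, hγ, hγa⟩ : ∃ γ, Rot Q M P γ ∧ mat Q γ *ᵥ δ ∉ qperp Q (D a) := by
    by_contra! hall
    have h1 := hall g hP
    have h2 := hall g⁻¹ hP.inv
    have h3 : mat Q g *ᵥ δ - mat Q g⁻¹ *ᵥ δ = 0 := hinj ha (by
      have := P.sub_mem (hP.diff_mem h.nondeg δ) (hP.inv.diff_mem h.nondeg δ)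
      rwa [sub_sub_sub_cancel_right] at this) (Submodule.sub_mem _ h1 h2)
    exact hδP (hP.nofix' h.nondeg (by rw [sub_eq_zero.1 h3, mulVec_inv_right]))
  set η := mat Q γ *ᵥ δ - δ with hη
  have hηP : η ∈ P := hγ.diff_mem h.nondeg δ
  have hη0 : η ≠ 0 := hγ.diff_ne h.nondeg hδP
  have hηc : η ∉ qperp Q (D c) := fun hm => hη0 (hinj hcs hηP hm)
  obtain ⟨n, hn', hn0, hηn⟩ := exists_perp_ne h.nondeg (h.dim c) η
  obtain ⟨x, hx, hxη⟩ : ∃ x ∈ D c, 𝔅 x η ≠ 0 := by
    by_contra! hall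
    exact hηc hall
  set γ' := γ * k * γ⁻¹ * k⁻¹ with hγ'
  have hδ'P : ∀ p ∈ P, -(β * Q zb) * 𝔅 za p + α * Q za * 𝔅 zb p = 0 := by
    intro p hp
    obtain ⟨r, s, rfl⟩ := plane_span hP.dim hwP hy hw0 hyw hp
    rw [QuadraticMap.polar_add_right, QuadraticMap.polar_add_right, QuadraticMap.polar_smul_right,
      QuadraticMap.polar_smul_right, QuadraticMap.polar_smul_right, QuadraticMap.polar_smul_right, hzaw, hzbw, hα, hβ]
    simp only [smul_eq_mul, mul_zero, zero_add]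
    field_simp
    ring
  have hform : ∀ u ∈ D c, mat Q γ' *ᵥ u = u - ((Q δ)⁻¹ * 𝔅 η u) • mat Q γ *ᵥ δ := by
    intro u hu
    have hzu : 𝔅 za u = 0 := h.perp (Ne.symm hc.1) hza hu
    have hzu' : 𝔅 zb u = 0 := h.perp (Ne.symm hc.2) hzb hu
    have hku : mat Q k⁻¹ *ᵥ u = u := by
      conv_lhs => arg 2; rw [← show mat Q k *ᵥ u = u by rw [hkform, hzu, hzu']; simp]
      exact mulVec_inv_left k u
    set u' := mat Q γ⁻¹ *ᵥ u with hu'
    have hu'P : u' - u ∈ P := hγ.inv.diff_mem h.nondeg u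
    have hX' : -(β * Q zb) * 𝔅 za u' + α * Q za * 𝔅 zb u' = 0 := by
      have := hδ'P _ hu'P
      rwa [QuadraticMap.polar_sub_right, QuadraticMap.polar_sub_right, hzu, hzu', sub_zero, sub_zero] at this
    have hQδ : Q δ = α ^ 2 * Q za + β ^ 2 * Q zb := by
      rw [hδ, QuadraticMap.map_add (⇑Q), QuadraticMap.map_smul, QuadraticMap.map_smul, QuadraticMap.polar_smul_left,
        QuadraticMap.polar_smul_right, hzab]
      simp only [smul_eq_mul, mul_zero]
      ring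
    have hδu : 𝔅 δ u' = α * 𝔅 za u' + β * 𝔅 zb u' := by
      rw [hδ, QuadraticMap.polar_add_left, QuadraticMap.polar_smul_left, QuadraticMap.polar_smul_left, smul_eq_mul,
        smul_eq_mul]
    have e1 : (Q za)⁻¹ * 𝔅 za u' = (Q δ)⁻¹ * 𝔅 δ u' * α := by
      field_simp
      linear_combination 𝔅 za u' * hQδ - α * Q za * hδu - β * hX'
    have e2 : (Q zb)⁻¹ * 𝔅 zb u' = (Q δ)⁻¹ * 𝔅 δ u' * β := by
      field_simp
      linear_combination 𝔅 zb u' * hQδ - β * Q zb * hδu + α * hX'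
    have hku' : mat Q k *ᵥ u' = u' - ((Q δ)⁻¹ * 𝔅 δ u') • δ := by
      rw [hkform, e1, e2, hδ]
      module
    have e3 : 𝔅 δ u' = 𝔅 η u := by
      have : 𝔅 (mat Q γ *ᵥ δ) u = 𝔅 δ u' := by
        conv_lhs => rw [← mulVec_inv_right γ u]
        rw [polar_mulVec]
      rw [hη, QuadraticMap.polar_sub_left, this, hδ]
      simp only [QuadraticMap.polar_add_left, QuadraticMap.polar_smul_left, hzu, hzu', smul_zero, add_zero, sub_zero]
    rw [hγ', mat_mul, mat_mul, mat_mul, ← mulVec_mulVec, ← mulVec_mulVec, ← mulVec_mulVec, hku, ← hu', hku',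
      mulVec_sub, mulVec_smul, hu', mulVec_inv_right, ← hu', e3]
  set C := ((msupp Q D P).erase c).erase b with hC
  have hcard1 := Finset.pred_card_le_card_erase (s := msupp Q D P) (a := c)
  have hcard2 := Finset.pred_card_le_card_erase (s := (msupp Q D P).erase c) (a := b)
  rw [← hC] at hcard2
  obtain ⟨f₁, hf₁, f₂, hf₂, hf₁₂⟩ := Finset.one_lt_card.1 (by omega : 1 < C.card)
  simp only [hC, Finset.mem_erase] at hf₁ hf₂
  have hmove : ∀ f, f ≠ b → f ∈ msupp Q D P → mat Q γ' *ᵥ x - x ∉ qperp Q (D f) := fun f hfb hfs hm => by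
    rw [hform x hx, sub_sub_cancel_left, neg_mem_iff, Submodule.smul_mem_iff _
      (mul_ne_zero (inv_ne_zero hδq) (by rw [QuadraticMap.polar_comm]; exact hxη))] at hm
    rcases eq_or_ne f a with rfl | hfa
    · exact hγa hm
    · exact hη0 (hinj hfs hηP (Submodule.sub_mem _ hm (hδperp f hfa hfb)))
  exact omega_le_of_push_two h hn hM hq hb ht (γ := γ')
    (M.mul_mem (M.mul_mem (M.mul_mem hγ.mem hk) (M.inv_mem hγ.mem)) (M.inv_mem hk)) hn' hn0
    (by rw [hform n hn', hηn, mul_zero, zero_smul, sub_zero]) hx hf₁₂ hf₁.2.1 hf₂.2.1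
    (hmove f₁ hf₁.1 hf₁.2.2) (hmove f₂ hf₂.1 hf₂.2.2)

omit hq hb ht in
/-- An element moving the members of `B` outside, fixing those of `A`. -/
theorem exists_shift (B A : Finset (Fin t)) (hdis : Disjoint A B) (hcard : A.card + 2 * B.card ≤ t) :
    ∃ π ∈ M, ∃ φ : Fin t → Fin t, (∀ m ∈ A, ∀ x ∈ D m, mat Q π *ᵥ x = x) ∧
      ∀ m ∈ B, φ m ∉ A ∧ φ m ∉ B ∧ ∀ x ∈ D m, mat Q π *ᵥ x ∈ D (φ m) := by
  classical
  induction B using Finset.induction_on generalizing A with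
  | empty => exact ⟨1, M.one_mem, id, fun m _ x _ => by rw [mat_one, one_mulVec], by simp⟩
  | insert b B hbB ih =>
    rw [Finset.card_insert_of_notMem hbB] at hcard
    rw [Finset.disjoint_insert_right] at hdis
    obtain ⟨π, hπ, φ, hfix, hmove⟩ := ih (insert b A) (Finset.disjoint_insert_left.2 ⟨hbB, hdis.2⟩)
      (by rw [Finset.card_insert_of_notMem hdis.1]; omega)
    set S := A ∪ insert b B ∪ B.image φ with hS
    have hScard : S.card + 1 ≤ t := by
      have e1 := Finset.card_union_le (A ∪ insert b B) (B.image φ)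
      have e2 := Finset.card_union_le A (insert b B)
      have e3 : (B.image φ).card ≤ B.card := Finset.card_image_le
      have e4 := Finset.card_insert_le b B
      rw [← hS] at e1
      omega
    obtain ⟨e, he⟩ := h.exists_free S (by omega)
    simp only [hS, Finset.mem_union, Finset.mem_insert, not_or] at he
    obtain ⟨c, hc, hbe, -, hoth⟩ := h.exists_transfer hn hM (Ne.symm he.1.2.1)
    refine ⟨c * π, M.mul_mem hc hπ, Function.update φ b e, fun m hm y hy => ?_, fun m hm => ?_⟩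
    · rw [mat_mul, ← mulVec_mulVec, hfix m (Finset.mem_insert_of_mem hm) y hy]
      exact hoth m (fun e0 => hdis.1 (e0 ▸ hm)) (fun e0 => he.1.1 (e0 ▸ hm)) y hy
    · rcases Finset.mem_insert.1 hm with rfl | hmB
      · rw [Function.update_self]
        refine ⟨he.1.1, by simp [he.1.2.1, he.1.2.2], fun y hy => ?_⟩
        rw [mat_mul, ← mulVec_mulVec, hfix m (Finset.mem_insert_self _ _) y hy]
        exact hbe y hy
      · have hmb : m ≠ b := fun e0 => hbB (e0 ▸ hmB)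
        obtain ⟨hA, hB, hmap⟩ := hmove m hmB
        simp only [Finset.mem_insert, not_or] at hA
        rw [Function.update_of_ne hmb]
        refine ⟨hA.2, by simp [hA.1, hB], fun y hy => ?_⟩
        rw [mat_mul, ← mulVec_mulVec, hoth (φ m) hA.1
          (fun e0 => he.2 (e0 ▸ Finset.mem_image_of_mem φ hmB)) _ (hmap y hy)]
        exact hmap y hy

omit hn hM hq hb ht in
theorem shift_perp {π : Isom Q} {φ : Fin t → Fin t} {A B : Finset (Fin t)}
    (hfix : ∀ m ∈ A, ∀ x ∈ D m, mat Q π *ᵥ x = x) (hmove : ∀ m ∈ B, ∀ x ∈ D m, mat Q π *ᵥ x ∈ D (φ m))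
    {y : ι → F} (hy : ∀ m, m ∉ A → m ∉ B → y ∈ qperp Q (D m)) {m : Fin t} (hmA : m ∉ A) (hmE : m ∉ B.image φ) :
    mat Q π *ᵥ y ∈ qperp Q (D m) := by
  classical
  obtain ⟨c, hc, rfl⟩ := h.exists_comp y
  rw [mulVec_sum]
  refine Submodule.sum_mem _ fun i _ => ?_
  by_cases hiA : i ∈ A
  · rw [hfix i hiA _ (hc i)]
    exact h.mem_qperp (fun e => hmA (by rw [e]; exact hiA)) (hc i)
  by_cases hiB : i ∈ B
  · exact h.mem_qperp (fun e => hmE (by rw [e]; exact Finset.mem_image_of_mem φ hiB)) (hmove i hiB _ (hc i))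
  rw [h.comp_zero hc (hy i hiA hiB), mulVec_zero]
  exact Submodule.zero_mem _

omit hq hb in
/-- A small support with a member met in rank two grows. -/
theorem exists_larger (hP : Rot Q M P g) (h2 : 2 ≤ (msupp Q D P).card) (h3 : (msupp Q D P).card ≤ 3) {a : Fin t}
    (ha : a ∈ msupp Q D P) (hrk : ∀ n ∈ D a, n ∈ qperp Q P → n = 0) :
    ∃ P' g', Rot Q M P' g' ∧ (msupp Q D P).card < (msupp Q D P').card := by
  classical
  set B := (msupp Q D P).erase a with hB
  have hBcard := Finset.card_erase_of_mem ha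
  rw [← hB] at hBcard
  obtain ⟨b, hb'⟩ : B.Nonempty := Finset.card_pos.1 (by omega)
  obtain ⟨π, hπ, φ, hfix, hmove⟩ := exists_shift h hn hM B {a}
    (Finset.disjoint_singleton_left.2 (Finset.notMem_erase a _)) (by rw [Finset.card_singleton]; omega)
  have hfixa : ∀ x ∈ D a, mat Q π *ᵥ x = x := hfix a (Finset.mem_singleton_self a)
  have hnotsupp : ∀ m, m ≠ a → m ∉ B → m ∉ msupp Q D P := fun m hma hmB hm =>
    hmB (Finset.mem_erase.2 ⟨hma, hm⟩)
  have hP1 := hP.map hπ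
  set P₁ := gmap π P with hP₁
  set h₁ := π * g * π⁻¹ with hh₁
  have hP₁perp : ∀ {m}, m ≠ a → m ∉ B.image φ → ∀ {z}, z ∈ P₁ → z ∈ qperp Q (D m) := by
    intro m hma hmE z hz
    obtain ⟨y, hy, rfl⟩ := hz
    exact shift_perp h hfix (fun i hi => (hmove i hi).2.2)
      (fun i hiA hiB => perp_of_notMem (hnotsupp i (fun e => hiA (by simp [e])) hiB) hy) (by simpa using hma) hmE
  have hE : ∀ i ∈ B, φ i ∉ msupp Q D P := fun i hi => hnotsupp _ (by simpa using (hmove i hi).1) (hmove i hi).2.1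
  have hpair : ∀ u ∈ P, u ∈ qperp Q P₁ → u = 0 := by
    intro u hu hu₁
    obtain ⟨ua, hua, huaz⟩ := h.exists_part a u
    have huaP : ua ∈ qperp Q P := fun y hy => by
      show 𝔅 y ua = 0
      rw [← polar_mulVec Q π y ua, hfixa ua hua, ← h.polar_single hua huaz (X := mat Q π *ᵥ y) (fun m hma => ?_)]
      · exact hu₁ _ ⟨y, hy, rfl⟩
      by_cases hmE : m ∈ B.image φ
      · obtain ⟨i, hi, rfl⟩ := Finset.mem_image.1 hmE
        exact Or.inr (perp_of_notMem (hE i hi) hu)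
      · exact Or.inl (hP₁perp hma hmE ⟨y, hy, rfl⟩)
    refine part_inj h hP.dim hrk hu fun z hz => ?_
    show 𝔅 z u = 0
    rw [← huaz z hz, hrk ua hua huaP, QuadraticMap.polar_zero_right]
  have hinj₁ : ∀ {z}, z ∈ P₁ → z ∈ qperp Q (D a) → z = 0 := by
    rintro _ ⟨y, hy, rfl⟩ hya
    rw [part_inj h hP.dim hrk hy fun z hz => ?_, map_zero]
    show 𝔅 z y = 0
    rw [← polar_mulVec Q π z y, hfixa z hz]
    exact hya z hz
  obtain ⟨u, hu, hu0⟩ := Submodule.exists_mem_ne_zero_of_ne_bot (p := P) fun e => by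
    have := hP.dim
    rw [e, finrank_bot] at this
    omega
  obtain ⟨γ, hγ, hγa⟩ : ∃ γ, Rot Q M P₁ γ ∧ mat Q γ *ᵥ u ∉ qperp Q (D a) := by
    by_contra! hall
    have e1 := hall h₁ hP1
    have e2 := hall h₁⁻¹ hP1.inv
    have e3 : mat Q h₁ *ᵥ u - mat Q h₁⁻¹ *ᵥ u = 0 := hinj₁ (by
      have := P₁.sub_mem (hP1.diff_mem h.nondeg u) (hP1.inv.diff_mem h.nondeg u)
      rwa [sub_sub_sub_cancel_right] at this) (Submodule.sub_mem _ e1 e2)
    exact hu0 (hpair u hu (hP1.nofix' h.nondeg (by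
      rw [sub_eq_zero.1 e3, mulVec_inv_right])))
  obtain ⟨y, hy, hye⟩ : ∃ y ∈ P, mat Q γ *ᵥ y - y ∉ qperp Q (D (φ b)) := by
    by_contra! hall
    obtain ⟨p₂, hp₂, hp₂'⟩ : ∃ y ∈ P, y ∉ Submodule.span F {u} := by
      by_contra! hall'
      have := Submodule.finrank_mono (hall' : P ≤ Submodule.span F {u})
      rw [hP.dim, finrank_span_singleton hu0] at this
      omega
    have hd0 : ∀ {p}, p ∈ P → p ≠ 0 → mat Q γ *ᵥ p - p ≠ 0 := fun {p} hp hp0 =>
      hγ.diff_ne h.nondeg fun hm => hp0 (hpair p hp hm)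
    have hind : mat Q γ *ᵥ p₂ - p₂ ∉ Submodule.span F {mat Q γ *ᵥ u - u} := fun hm => by
      obtain ⟨r, hr⟩ := Submodule.mem_span_singleton.1 hm
      refine hd0 (P.sub_mem hp₂ (P.smul_mem r hu))
        (fun e => hp₂' (Submodule.mem_span_singleton.2 ⟨r, (sub_eq_zero.1 e).symm⟩)) ?_
      rw [mulVec_sub, mulVec_smul]
      linear_combination (norm := module) -hr
    obtain ⟨w, hw, hwb⟩ := mem_msupp.1 (Finset.mem_of_mem_erase hb')
    obtain ⟨r, s, hrs⟩ := plane_span hγ.dim (hγ.diff_mem h.nondeg u) (hγ.diff_mem h.nondeg p₂) (hd0 hu hu0) hind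
      (⟨w, hw, rfl⟩ : mulVecLin (mat Q π) w ∈ P₁)
    rw [mulVecLin_apply] at hrs
    refine hwb fun z hz => ?_
    show 𝔅 z w = 0
    rw [← polar_mulVec Q π z w, ← hrs]
    exact Submodule.add_mem _ (Submodule.smul_mem _ r (hall u hu)) (Submodule.smul_mem _ s (hall p₂ hp₂)) _
      ((hmove b hb').2.2 z hz)
  refine ⟨gmap γ P, γ * g * γ⁻¹, hP.map hγ.mem, Finset.card_lt_card (Finset.ssubset_iff_of_subset ?_ |>.2
    ⟨φ b, mem_msupp.2 ⟨_, ⟨y, hy, rfl⟩, fun hm => hye ?_⟩, hE b hb'⟩)⟩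
  · intro m hm
    rcases eq_or_ne m a with rfl | hma
    · exact mem_msupp.2 ⟨_, ⟨u, hu, rfl⟩, hγa⟩
    · obtain ⟨w, hw, hwm⟩ := mem_msupp.1 hm
      refine mem_msupp.2 ⟨_, ⟨w, hw, rfl⟩, fun hgm => hwm ?_⟩
      rw [mulVecLin_apply] at hgm
      have hmE : m ∉ B.image φ := fun hmE => by
        obtain ⟨i, hi, rfl⟩ := Finset.mem_image.1 hmE
        exact hE i hi hm
      have := Submodule.sub_mem _ hgm (hP₁perp hma hmE (hγ.diff_mem h.nondeg w))
      rwa [sub_sub_cancel] at this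
  · rw [mulVecLin_apply] at hm
    exact Submodule.sub_mem _ hm (perp_of_notMem (hE b hb') hy)

/-- A small support with all members met in rank one. -/
theorem omega_le_of_rank_one (hP : Rot Q M P g) (h3 : (msupp Q D P).card ≤ 3) (h2 : 2 ≤ (msupp Q D P).card)
    (hrk : ∀ m ∈ msupp Q D P, ∃ n ∈ D m, n ≠ 0 ∧ n ∈ qperp Q P) : Cfsg.Omega F ⇑Q ≤ M := by
  classical
  obtain ⟨b, hb'⟩ := Finset.card_pos.1 (by omega : 0 < (msupp Q D P).card)
  obtain ⟨nb, hnb, hnb0, hnbP⟩ := hrk b hb'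
  rcases caseA h hn hM hq hb ht hP hb' hnb hnb0 hnbP with hΩ | ⟨-, x, hx, a, hab, hva, hvC⟩
  · exact hΩ
  set v := mat Q g *ᵥ x - x with hv
  have hvP : v ∈ P := hP.diff_mem h.nondeg x
  have ha : a ∈ msupp Q D P := mem_msupp.2 ⟨v, hvP, hva⟩
  obtain ⟨na, hna, hna0, hnaP⟩ := hrk a ha
  obtain ⟨ω, hω, hωv⟩ := h.exists_part a v
  have hω0 : ω ≠ 0 := fun e => hva fun z hz => by
    show 𝔅 z v = 0
    rw [← hωv z hz, e, QuadraticMap.polar_zero_right]
  obtain ⟨z, hz, hzω, hzq, hzne, hzspan⟩ := h.good_vec hq hb hω hω0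
  have hzna : 𝔅 z na ≠ 0 := fun e => hna0 ((h.nd a).eq_zero_of_two (h.dim a) hω hz hω0 hzspan hna (by
    rw [QuadraticMap.polar_comm, hωv na hna, QuadraticMap.polar_comm]; exact hnaP v hvP) e)
  set B := (msupp Q D P).erase a with hB
  have hBcard := Finset.card_erase_of_mem ha
  rw [← hB] at hBcard
  have hbB : b ∈ B := Finset.mem_erase.2 ⟨hab.symm, hb'⟩
  obtain ⟨π, hπ, φ, hfix, hmove⟩ := exists_shift h hn hM B {a}
    (Finset.disjoint_singleton_left.2 (Finset.notMem_erase a _)) (by rw [Finset.card_singleton]; omega)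
  set E := B.image φ with hE
  obtain ⟨e₀, he₀⟩ := h.exists_free (msupp Q D P) (by omega)
  have he₀a : e₀ ≠ a := fun e => he₀ (e ▸ ha)
  obtain ⟨z', hz', hz'q⟩ := exists_value_mem (h.nd e₀).inf_qperp (by rw [h.dim]) (Q z) hzq
  have hk := refl2_mem h hn hM hzq (by rwa [hz'q]) hz hz' ⟨Q z, by rw [hz'q]⟩
  set k := reflIso Q z hzq * reflIso Q z' (by rwa [hz'q]) with hkdef
  set π' := π * k with hπ'
  have hπ'a : ∀ w ∈ D a, mat Q π' *ᵥ w = refl Q z w := fun w hw => by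
    rw [hπ', mat_mul, ← mulVec_mulVec, hkdef, mat_refl_two, refl_fix (h.perp he₀a hz' hw),
      hfix a (Finset.mem_singleton_self a) _ (refl_mem_member h hz hw)]
  have hπ'inv : ∀ w ∈ D a, mat Q π' *ᵥ refl Q z w = w := fun w hw => by
    rw [hπ'a _ (refl_mem_member h hz hw), refl_refl Q hzq]
  have hnotsupp : ∀ m, m ≠ a → m ∉ B → m ∉ msupp Q D P := fun m hma hmB hm =>
    hmB (Finset.mem_erase.2 ⟨hma, hm⟩)
  have hP₁perp : ∀ {m}, m ≠ a → m ∉ E → ∀ {y}, y ∈ P → mat Q π' *ᵥ y ∈ qperp Q (D m) := by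
    intro m hma hmE y hy
    rw [hπ', mat_mul, ← mulVec_mulVec, hkdef, mat_refl_two, refl_fix (perp_of_notMem he₀ hy z' hz')]
    refine shift_perp h hfix (fun i hi => (hmove i hi).2.2) (fun i hiA hiB => ?_) (by simpa using hma) hmE
    have hia : i ≠ a := fun e => hiA (by simp [e])
    rw [refl_apply]
    exact Submodule.sub_mem _ (perp_of_notMem (hnotsupp i hia hiB) hy) (Submodule.smul_mem _ _ (h.mem_qperp hia hz))
  have hP1 := hP.map (M.mul_mem hπ hk)
  set P₁ := gmap π' P with hP₁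
  set h₁ := π' * g * π'⁻¹ with hh₁
  have hEsupp : ∀ m ∈ E, m ∉ msupp Q D P ∧ m ≠ a := fun m hm => by
    obtain ⟨i, hi, rfl⟩ := Finset.mem_image.1 hm
    have hia : φ i ≠ a := by simpa using (hmove i hi).1
    exact ⟨hnotsupp _ hia (hmove i hi).2.1, hia⟩
  have hbE : b ∉ E := fun hm => (hEsupp b hm).1 hb'
  have hfix₁ : ∀ {u}, u ∈ D b → mat Q h₁ *ᵥ u = u := fun {u} hu => hP1.fix u fun w hw => by
    obtain ⟨y, hy, rfl⟩ := hw
    show 𝔅 (mat Q π' *ᵥ y) u = 0
    rw [QuadraticMap.polar_comm]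
    exact hP₁perp hab.symm hbE hy u hu
  have hvsingle : ∀ m, m ≠ a → ∀ {y}, y ∈ P → mat Q π' *ᵥ y ∈ qperp Q (D m) ∨ v ∈ qperp Q (D m) := by
    intro m hma y hy
    by_cases hmE : m ∈ E
    · exact Or.inr (perp_of_notMem (hEsupp m hmE).1 hvP)
    · exact Or.inl (hP₁perp hma hmE hy)
  -- the displacement of `v`
  have hvP₁ : v ∉ qperp Q P₁ := fun hm => by
    have h0 : 𝔅 (mat Q π' *ᵥ v) v = 0 := hm _ ⟨v, hvP, rfl⟩
    rw [h.polar_single hω hωv fun m hma => hvsingle m hma hvP] at h0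
    conv_lhs at h0 => arg 3; rw [← hπ'inv ω hω]
    rw [polar_mulVec, QuadraticMap.polar_comm (⇑Q) v, ← hωv _ (refl_mem_member h hz hω), refl_apply,
      QuadraticMap.polar_sub_left, QuadraticMap.polar_smul_left, polar_self', hzω, smul_eq_mul] at h0
    field_simp at h0
    exact hzne (by linear_combination h0)
  set η := mat Q h₁ *ᵥ v - v with hη
  have hηP : η ∈ P₁ := hP1.diff_mem h.nondeg v
  set n₁ := refl Q z na with hn₁
  have hn₁a : n₁ ∈ D a := refl_mem_member h hz hna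
  have hn₁0 : n₁ ≠ 0 := fun e => hna0 (by
    have := refl_refl Q hzq na
    rw [← hn₁, e, map_zero] at this
    exact this.symm)
  have hn₁P : n₁ ∈ qperp Q P₁ := fun w hw => by
    obtain ⟨y, hy, rfl⟩ := hw
    show 𝔅 (mat Q π' *ᵥ y) n₁ = 0
    rw [hn₁, ← hπ'a na hna, polar_mulVec]
    exact hnaP y hy
  obtain ⟨e, he, hηe⟩ : ∃ e ∈ E, η ∉ qperp Q (D e) := by
    by_contra! hall
    have hη0 : η ≠ 0 := hP1.diff_ne h.nondeg hvP₁
    have hηa : η ∈ D a := h.mem_of_perp fun m hma => by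
      by_cases hmE : m ∈ E
      · exact hall m hmE
      · obtain ⟨y, hy, hye⟩ := hηP
        rw [← hye]
        exact hP₁perp hma hmE hy
    obtain ⟨xa, hxa, hxana⟩ : ∃ xa ∈ D a, xa ∉ Submodule.span F {na} := by
      by_contra! hall'
      have := Submodule.finrank_mono (hall' : D a ≤ Submodule.span F {na})
      rw [h.dim, finrank_span_singleton hna0] at this
      omega
    obtain ⟨u, hu, hu0, hxu⟩ := exists_perp_ne h.nondeg hP.dim xa
    have huperp : u ∈ qperp Q (D a) :=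
      mem_qperp_of_two (h.dim a) hna hxa hna0 hxana (by rw [QuadraticMap.polar_comm]; exact hnaP u hu) hxu
    set u₁ := mat Q π' *ᵥ u with hu₁
    have hu₁0 : u₁ ≠ 0 := fun e0 => hu0 (by
      have := congrArg (mat Q π'⁻¹ *ᵥ ·) e0
      simpa only [hu₁, mulVec_inv_left, mulVec_zero] using this)
    have hu₁P : u₁ ∈ P₁ := ⟨u, hu, rfl⟩
    have hu₁a : u₁ ∈ qperp Q (D a) := fun w hw => by
      show 𝔅 w u₁ = 0
      rw [hu₁, ← hπ'inv w hw, polar_mulVec]
      exact huperp _ (refl_mem_member h hz hw)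
    obtain ⟨p, hp, o, ho, hpo⟩ := hP1.nd.exists_decomp h.nondeg v
    have hu₁v : 𝔅 u₁ v = 0 := by
      rw [h.polar_single hω hωv fun m hma => hvsingle m hma hu, QuadraticMap.polar_comm]
      exact hu₁a ω hω
    have hu₁p : 𝔅 u₁ p = 0 := by
      rw [← hpo, QuadraticMap.polar_add_right, show 𝔅 u₁ o = 0 from ho u₁ hu₁P, add_zero] at hu₁v
      exact hu₁v
    have hp0 : p ≠ 0 := fun e0 => hvP₁ (by rw [← hpo, e0, zero_add]; exact ho)
    have hpη : p ∈ Submodule.span F {η} := by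
      by_contra hne
      exact hu₁0 (hP1.nd.eq_zero_of_two hP1.dim hηP hp hη0 hne hu₁P (hu₁a η hηa)
        (by rw [QuadraticMap.polar_comm, hu₁p]))
    obtain ⟨r, hr⟩ := Submodule.mem_span_singleton.1 hpη
    have hr0 : r ≠ 0 := fun e0 => hp0 (by rw [← hr, e0, zero_smul])
    have hηp : η = mat Q h₁ *ᵥ p - p := by
      rw [hη, ← hpo, mulVec_add, hP1.fix o ho, add_sub_add_right_eq_sub]
    have hgp : mat Q h₁ *ᵥ p = (r⁻¹ + 1) • p := by
      rw [add_smul, one_smul]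
      nth_rewrite 2 [← hr]
      rw [inv_smul_smul₀ hr0, hηp, sub_add_cancel]
    have hpa : p ∈ D a := hr ▸ (D a).smul_mem r hηa
    by_cases hpq : Q p = 0
    · have hn₁p : 𝔅 p n₁ = 0 := hn₁P p hp
      obtain ⟨d, hd⟩ := Submodule.mem_span_singleton.1
        ((h.nd a).mem_span_singular (h.dim a) hpa hn₁a hp0 hpq hn₁p)
      exact hn₁0 (hP1.nd n₁ (hd ▸ P₁.smul_mem d hp) fun w hw => hn₁P w hw)
    · have hsq := quad_mulVec Q h₁ p
      rw [hgp, QuadraticMap.map_smul, smul_eq_mul] at hsq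
      have h1 : (r⁻¹ + 1) * (r⁻¹ + 1) = 1 := mul_right_cancel₀ hpq (by linear_combination hsq)
      exact hp0 (hP1.nofix p hp (by rw [hgp, mulVec_smul, hgp, smul_smul, h1, one_smul]))
  have hdiff : mat Q (h₁ * g) *ᵥ x - x = v + η := by
    rw [mat_mul, ← mulVec_mulVec, show mat Q g *ᵥ x = x + v by rw [hv]; abel, mulVec_add, hfix₁ hx, hη]
    abel
  refine omega_le_of_push_two h hn hM hq hb ht (γ := h₁ * g) (M.mul_mem hP1.mem hP.mem) hnb hnb0 ?_ hx
    (a := a) (b := e) (Ne.symm (hEsupp e he).2) hab (fun e0 => hbE (e0 ▸ he)) ?_ ?_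
  · rw [mat_mul, ← mulVec_mulVec, hP.fix nb hnbP, hfix₁ hnb]
  · rw [hdiff]
    intro hm
    refine hzna ?_
    have h1 : 𝔅 n₁ (v + η) = 0 := hm n₁ hn₁a
    rw [QuadraticMap.polar_add_right, QuadraticMap.polar_comm (⇑Q) n₁ η, show 𝔅 η n₁ = 0 from hn₁P η hηP,
      add_zero, hn₁, refl_apply, QuadraticMap.polar_sub_left, QuadraticMap.polar_smul_left,
      QuadraticMap.polar_comm (⇑Q) na v, show 𝔅 v na = 0 from hnaP v hvP, ← hωv z hz, hzω] at h1
    simpa [hzq] using h1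
  · rw [hdiff]
    intro hm
    refine hηe ?_
    have := Submodule.sub_mem _ hm (perp_of_notMem (hEsupp e he).1 hvP)
    rwa [add_sub_cancel_left] at this

/-- A rotated plane which is not a member gives `Ω`. -/
theorem omega_le_of_rot (d : ℕ) : ∀ (P : Submodule F (ι → F)) (g : Isom Q), Rot Q M P g →
    2 ≤ (msupp Q D P).card → t - (msupp Q D P).card = d → Cfsg.Omega F ⇑Q ≤ M := by
  induction d using Nat.strong_induction_on with
  | _ d ih =>
    intro P g hP h2 hd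
    by_cases hr2 : ∀ m ∈ msupp Q D P, ∀ n ∈ D m, n ∈ qperp Q P → n = 0
    · by_cases h4 : 4 ≤ (msupp Q D P).card
      · exact omega_le_of_full_rank h hn hM hq hb ht hP h4 hr2
      · obtain ⟨a, ha⟩ := Finset.card_pos.1 (by omega : 0 < (msupp Q D P).card)
        obtain ⟨P', g', hP', hlt⟩ := exists_larger h hn hM ht hP h2 (by omega) ha (hr2 a ha)
        exact ih _ (by omega) P' g' hP' (by omega) rfl
    push Not at hr2
    obtain ⟨c, hc, n, hn', hnP, hn0⟩ := hr2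
    rcases caseA h hn hM hq hb ht hP hc hn' hn0 hnP with hΩ | ⟨h3, -⟩
    · exact hΩ
    by_cases hex : ∃ a ∈ msupp Q D P, ∀ n ∈ D a, n ∈ qperp Q P → n = 0
    · obtain ⟨a, ha, hra⟩ := hex
      obtain ⟨P', g', hP', hlt⟩ := exists_larger h hn hM ht hP h2 h3 ha hra
      exact ih _ (by
        have := (msupp Q D P').card_le_univ
        rw [Fintype.card_fin] at this
        omega) P' g' hP' (by omega) rfl
    · push Not at hex
      exact omega_le_of_rank_one h hn hM hq hb ht hP h3 h2 fun m hm => by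
        obtain ⟨n, hn', hnP, hn0⟩ := hex m hm
        exact ⟨n, hn', hn0, hnP⟩

end Setting

/-- The stabiliser of an orthogonal decomposition into at least five planes is maximal. -/
theorem isMaximalIn_decomp_two (h : DSys Q 2 D) (hn : 5 ≤ Fintype.card ι) (hq : Fintype.card F ≠ 3)
    (hb : PlusBound Q D) (ht : 5 ≤ t) :
    IsMaximalIn (omegaGL ⇑Q) (decompositionStabilizer D ⊓ omegaGL ⇑Q) := by
  obtain ⟨i⟩ : Nonempty (Fin t) := ⟨⟨0, by omega⟩⟩
  refine isMaximalIn_omega _ ?_ fun M hM g hgM _ hgS => ?_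
  · refine exists_move_decomp h.nondeg hn h.orth (h.nd i) (fun e => ?_) ?_
    · have := h.dim i
      rw [e, finrank_bot] at this
      omega
    · rw [finrank_qperp h.nondeg, h.dim]
      omega
  obtain ⟨j, hj⟩ : ∃ j, ∀ m, gmap g (D j) ≠ D m := by
    by_contra! hall
    refine hgS (mem_decompositionStabilizer_of_maps (h.injective (by omega)) h.dim fun j => ?_)
    obtain ⟨m, hm⟩ := hall j
    exact ⟨m, fun x hx => hm ▸ ⟨x, hx, rfl⟩⟩
  obtain ⟨θ, hθ⟩ := exists_rot_member h hn hM hq hb j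
  exact omega_le_of_rot h hn hM hq hb ht _ _ _ (hθ.map hgM)
    (two_le_msupp h (by rw [finrank_gmap, h.dim]) hj) rfl

end CfsgLib.OrthMax
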