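import Cfsg.Agent.OrthMax.DecompMax
import Cfsg.Agent.OrthMax.PlaneMax

/-!
# Stabilisers of orthogonal decompositions in even dimension

`isMaximalIn_decomp_even`: members of dimension two or more, outside the exceptional cases.
-/

set_option autoImplicit false
set_option linter.unusedSectionVars false

namespace CfsgLib.OrthMax

open Matrix Module CfsgLib.Forms Cfsg.Geo

variable {F : Type*} [Field F] {ι : Type} [Fintype ι] [DecidableEq ι]

theorem card_ne_six [Fintype F] : Fintype.card F ≠ 6 := fun h6 => by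
  obtain ⟨p, -, n, hp, hcard⟩ := FiniteField.card' F
  rw [h6] at hcard
  have h2 : 2 ∣ p ^ (n : ℕ) := ⟨3, by rw [← hcard]⟩
  have h3 : 3 ∣ p ^ (n : ℕ) := ⟨2, by rw [← hcard]⟩
  have e2 := (Nat.prime_dvd_prime_iff_eq Nat.prime_two hp).1 (Nat.prime_two.dvd_of_dvd_pow h2)
  have e3 := (Nat.prime_dvd_prime_iff_eq Nat.prime_three hp).1 (Nat.prime_three.dvd_of_dvd_pow h3)
  omega

variable {t k : ℕ} {D : Fin t → Submodule F (ι → F)} {Q : QuadraticForm F (ι → F)}

/-- A totally singular subspace of half the dimension in one member gives one in each. -/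
theorem DSys.plus_of_singular (h : DSys Q k D) {i : Fin t} {U : Submodule F (ι → F)} (hU : U ≤ D i)
    (hUq : ∀ x ∈ U, Q x = 0) (hUd : 2 * finrank F U = k) (j : Fin t) : IsPlusTypeOn (⇑Q) (D j) := by
  obtain ⟨e, he⟩ := h.iso i j
  set L : U →ₗ[F] (ι → F) := (D j).subtype ∘ₗ e.toLinearMap ∘ₗ Submodule.inclusion hU with hL
  have hinj : Function.Injective L := fun a b hab => by
    have := e.injective (Subtype.ext hab)
    exact Submodule.inclusion_injective hU this
  refine ⟨LinearMap.range L, ?_, ?_, ?_⟩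
  · rintro _ ⟨a, rfl⟩
    exact (e _).2
  · rintro _ ⟨a, rfl⟩
    show Q ((e (Submodule.inclusion hU a) : D j) : ι → F) = 0
    rw [he]
    exact hUq a a.2
  · rw [LinearMap.finrank_range_of_inj hinj, hUd, h.dim]

variable [Fintype F]

/-- Maximality for members of dimension at least two. -/
theorem isMaximalIn_decomp_even (h : DSys Q k D) (hn : 10 ≤ Fintype.card ι) (htk : t * k = Fintype.card ι)
    (hk : 2 ≤ k) (hko : Odd k → Odd (Fintype.card F)) (h23 : k = 2 ∨ k = 3 → Fintype.card F ≠ 3)
    (hplus : (∀ i, IsPlusTypeOn (⇑Q) (D i)) →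
      ¬ ((k = 2 ∧ (Fintype.card F = 2 ∨ Fintype.card F = 4 ∨ Fintype.card F = 5)) ∨ (k = 4 ∧ Fintype.card F = 2))) :
    IsMaximalIn (omegaGL ⇑Q) (decompositionStabilizer D ⊓ omegaGL ⇑Q) := by
  rcases (by omega : k = 2 ∨ 3 ≤ k) with rfl | hk3
  · refine isMaximalIn_decomp_two h (by omega) (h23 (Or.inl rfl)) (fun i x hx hx0 hxq => ?_) (by omega)
    have hU : ∀ j, IsPlusTypeOn (⇑Q) (D j) := h.plus_of_singular (U := Submodule.span F {x})
      ((Submodule.span_singleton_le_iff_mem _ _).2 hx)
      (fun y hy => by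
        obtain ⟨c, rfl⟩ := Submodule.mem_span_singleton.1 hy
        rw [QuadraticMap.map_smul, hxq, smul_zero])
      (by rw [finrank_span_singleton hx0])
    have h1 := hplus hU
    have h2 := h23 (Or.inl rfl)
    have h3 := card_ne_six (F := F)
    have h4 := Fintype.one_lt_card (α := F)
    simp only [true_and, not_or] at h1
    omega
  · have hodd : Odd k → (2 : F) ≠ 0 := fun ho h2 => by
      haveI : CharP F 2 := CharTwo.of_one_ne_zero_of_two_eq_zero one_ne_zero h2
      exact Nat.not_even_iff_odd.2 (hko ho)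
        (Nat.even_iff.2 (FiniteField.even_card_of_char_two (ringChar.eq F 2)))
    refine isMaximalIn_decomp h (by omega) hk3 hodd (fun hk' => ?_) fun hk4 hq2 i x hx y hy hxq hyq hxy hx0 => ?_
    · have h1 := Fintype.one_lt_card (α := F)
      have h2 := h23 (Or.inr hk')
      obtain ⟨r, hr⟩ := hko (by rw [hk']; decide)
      omega
    by_contra hyx
    refine hplus (fun j => h.plus_of_singular (i := i) (U := Submodule.span F {x} ⊔ Submodule.span F {y})
      (sup_le ((Submodule.span_singleton_le_iff_mem _ _).2 hx) ((Submodule.span_singleton_le_iff_mem _ _).2 hy))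
      (fun z hz => ?_) ?_ j) (Or.inr ⟨hk4, hq2⟩)
    · obtain ⟨a, ha, b, hb, rfl⟩ := Submodule.mem_sup.1 hz
      obtain ⟨c, rfl⟩ := Submodule.mem_span_singleton.1 ha
      obtain ⟨d, rfl⟩ := Submodule.mem_span_singleton.1 hb
      rw [QuadraticMap.map_add (⇑Q), QuadraticMap.map_smul, QuadraticMap.map_smul, hxq, hyq,
        QuadraticMap.polar_smul_left, QuadraticMap.polar_smul_right, hxy]
      simp
    · have hy0 : y ≠ 0 := fun e => hyx (e ▸ Submodule.zero_mem _)
      have hinf : Submodule.span F {x} ⊓ Submodule.span F {y} = ⊥ := (Submodule.eq_bot_iff _).2 fun z hz => by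
        obtain ⟨c, rfl⟩ := Submodule.mem_span_singleton.1 hz.2
        by_contra hne
        exact hyx ((Submodule.smul_mem_iff _ (fun e => hne (by rw [e, zero_smul]))).1 hz.1)
      have := Submodule.finrank_sup_add_finrank_inf_eq (Submodule.span F {x}) (Submodule.span F {y})
      rw [hinf, finrank_bot, finrank_span_singleton hx0, finrank_span_singleton hy0] at this
      omega

end CfsgLib.OrthMax
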