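import Cfsg.Agent.OrthMax.Basic
import Cfsg.Agent.Spinor.StdForms

/-! The standard odd-dimensional form as a nondegenerate form given by a function. -/

set_option autoImplicit false

namespace CfsgLib.OrthMax

open Cfsg.Geo

theorem quadFormOdd_isNondeg {F : Type*} [Field F] [Fintype F] (hodd : Odd (Fintype.card F))
    (m : ℕ) : IsNondegenerateQuadraticForm (Cfsg.quadFormOdd m F) := by
  have h := isNondeg (StdForms.oddQ_nondegenerate (MaxSub.two_ne_zero_of_odd hodd) m)
  rwa [show (⇑(StdForms.oddQ m F)) = Cfsg.quadFormOdd m F from funext (StdForms.oddQ_apply m)] at h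

theorem card_odd_index (m : ℕ) : Fintype.card (Unit ⊕ (Fin m ⊕ Fin m)) = 2 * m + 1 := by
  simp; omega

end CfsgLib.OrthMax
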