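import Cfsg.Agent.OrthMax.InvariantSubspace
import Cfsg.Agent.OrthMax.TotallySingular

/-!
# Stabilisers of nondegenerate subspaces in `Ω(Q)`

`isMaximalIn_nd`: maximality for `W` with complement at least as large and of dimension at least six, when
no element exchanges the two.
-/

set_option autoImplicit false
set_option linter.unusedSectionVars false

namespace CfsgLib.OrthMax

open Matrix Module CfsgLib.Spinor CfsgLib.Forms CfsgLib.Forms4 Cfsg.Geo CfsgLib.OmegaOrbits

variable {F : Type*} [Field F] {ι : Type} [Fintype ι] [DecidableEq ι] {Q : QuadraticForm F (ι → F)}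
variable {W U : Submodule F (ι → F)}

set_option quotPrecheck false in
local notation "𝔅" => QuadraticMap.polar (⇑Q)

theorem Nd.qperp' (hQ : (QuadraticMap.polarBilin Q).Nondegenerate) (h : Nd Q W) : Nd Q (qperp Q W) := by
  intro z hz hzero
  have : z ∈ W := by
    rw [← qperp_qperp hQ W]
    exact mem_qperp.2 hzero
  exact (Submodule.eq_bot_iff _).1 h.inf_qperp z ⟨this, hz⟩

theorem Nd.exists_decomp (hQ : (QuadraticMap.polarBilin Q).Nondegenerate) (h : Nd Q W) (x : ι → F) :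
    ∃ w ∈ W, ∃ u ∈ qperp Q W, w + u = x := by
  refine Submodule.mem_sup.1 (?_ : x ∈ W ⊔ qperp Q W)
  rw [Submodule.eq_top_of_finrank_eq (K := F) (S := W ⊔ qperp Q W) ?_]
  · exact Submodule.mem_top
  · have h1 := Submodule.finrank_sup_add_finrank_inf_eq W (qperp Q W)
    have h2 := Submodule.finrank_le W
    rw [h.inf_qperp, finrank_bot, finrank_qperp hQ] at h1
    rw [Module.finrank_pi] at h2 ⊢
    omega

theorem Nd.gmap (h : Nd Q U) (g : Isom Q) : Nd Q (gmap g U) := by
  rintro _ ⟨u, hu, rfl⟩ hzero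
  rw [h u hu fun x hx => by simpa [polar_mulVec] using hzero _ (Submodule.mem_map_of_mem hx), map_zero]

theorem finrank_le_inf_qperp_add_one (hQ : (QuadraticMap.polarBilin Q).Nondegenerate)
    (K : Submodule F (ι → F)) (a : ι → F) :
    finrank F K ≤ finrank F (K ⊓ qperp Q (Submodule.span F {a}) : Submodule F (ι → F)) + 1 := by
  have h1 := Submodule.finrank_sup_add_finrank_inf_eq K (qperp Q (Submodule.span F {a}))
  have h2 := Submodule.finrank_le (K ⊔ qperp Q (Submodule.span F {a}))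
  have h3 : finrank F (Submodule.span F {a}) ≤ 1 := (finrank_span_le_card {a}).trans (by simp)
  rw [finrank_qperp hQ] at h1
  rw [Module.finrank_pi] at h2
  omega

/-- An isometry preserving `W` preserves its orthogonal complement. -/
theorem gmap_qperp (hQ : (QuadraticMap.polarBilin Q).Nondegenerate) {g : Isom Q}
    (h : OmegaOrbits.gmap g W = W) : OmegaOrbits.gmap g (qperp Q W) = qperp Q W := by
  refine gmap_eq_of_le g fun u hu => mem_qperp.2 fun w hw => ?_
  rw [← h] at hw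
  obtain ⟨w', hw', rfl⟩ := hw
  rw [mulVecLin_apply, polar_mulVec]
  exact mem_qperp.1 hu w' hw'

variable [Fintype F]

/-- Singular vectors of a nondegenerate subspace separate linear functionals on a hyperplane of it. -/
theorem Nd.exists_singular_pairing (hQ : (QuadraticMap.polarBilin Q).Nondegenerate) (h : Nd Q U)
    (hd : 5 ≤ finrank F U) {a b : ι → F} (ha : a ∈ U) (ht : ∃ t ∈ U, 𝔅 a t = 0 ∧ 𝔅 t b ≠ 0) :
    ∃ q ∈ U, Q q = 0 ∧ 𝔅 a q = 0 ∧ 𝔅 q b ≠ 0 := by
  set K := U ⊓ qperp Q (Submodule.span F {a}) with hK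
  have hKd := finrank_le_inf_qperp_add_one hQ U a
  rw [← hK] at hKd
  obtain ⟨z, hzK, hzn, hz⟩ := exists_singular_notMem hQ (K := K) (M := Submodule.span F {a}) (by
    have h1 := Submodule.finrank_mono (inf_le_right : K ⊓ Submodule.span F {a} ≤ _)
    have h2 : finrank F (Submodule.span F {a}) ≤ 1 := (finrank_span_le_card {a}).trans (by simp)
    omega)
  obtain ⟨x₀, hx₀, hx₀z⟩ : ∃ x ∈ K, 𝔅 x z ≠ 0 := by
    by_contra! hall
    exact hzn (h.mem_span_of_perp ha hzK.1 fun x hx hax => hall x ⟨hx, mem_qperp_singleton.2 hax⟩)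
  obtain ⟨t, htU, hat, htb⟩ := ht
  obtain ⟨q, hqK, hq, hqb⟩ := OrthMax.exists_singular_pairing hzK hz hx₀ hx₀z
    (⟨htU, mem_qperp_singleton.2 hat⟩ : t ∈ K) htb
  exact ⟨q, hqK.1, hq, mem_qperp_singleton.1 hqK.2, hqb⟩

/-- A moved complement has an orthogonal singular pair with mixed components. -/
theorem exists_mixed_pair (hQ : (QuadraticMap.polarBilin Q).Nondegenerate) (hW : Nd Q W)
    (hd : 6 ≤ finrank F (qperp Q W)) (hU : Nd Q U) (hdim : finrank F U = finrank F (qperp Q W))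
    (hne : U ≠ qperp Q W) (hnW : ¬U ≤ W) :
    ∃ s ∈ U, ∃ r ∈ U, Q s = 0 ∧ Q r = 0 ∧ 𝔅 s r = 0 ∧ s ∉ qperp Q W ∧
      ∃ b ∈ qperp Q W, 𝔅 s b = 0 ∧ 𝔅 r b ≠ 0 := by
  suffices ∃ s ∈ U, Q s = 0 ∧ s ∉ qperp Q W ∧
      ¬U ⊓ qperp Q (Submodule.span F {s}) ≤ (U ⊓ W) ⊔ Submodule.span F {s} by
    obtain ⟨s, hs, hsq, hsn, hX⟩ := this
    obtain ⟨ws, hws, us, hus, hsum⟩ := hW.exists_decomp hQ s
    obtain ⟨t, ⟨htU, hts⟩, b, hb, hsb, htb⟩ : ∃ t ∈ U ⊓ qperp Q (Submodule.span F {s}),
        ∃ b ∈ qperp Q W, 𝔅 s b = 0 ∧ 𝔅 t b ≠ 0 := by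
      by_contra! hall
      refine hX fun t ht => ?_
      obtain ⟨w, hw, u, hu, rfl⟩ := hW.exists_decomp hQ t
      obtain ⟨c, hc⟩ := Submodule.mem_span_singleton.1 ((hW.qperp' hQ).mem_span_of_perp hus hu
        fun x hx hxs => by
          have := hall (w + u) ht x hx (by
            rw [← hsum, QuadraticMap.polar_add_left, mem_qperp.1 hx ws hws, hxs, add_zero])
          rwa [QuadraticMap.polar_add_left, mem_qperp.1 hx w hw, zero_add, QuadraticMap.polar_comm] at this)
      have he : w + u = (w - c • ws) + c • s := by rw [← hsum, ← hc, smul_add]; abel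
      rw [he] at ht ⊢
      exact Submodule.add_mem_sup
        ⟨(U.add_mem_iff_left (U.smul_mem _ hs)).1 ht.1, W.sub_mem hw (W.smul_mem _ hws)⟩
        (Submodule.smul_mem _ _ (Submodule.mem_span_singleton_self s))
    obtain ⟨r, hr, hrq, hsr, hrb⟩ := hU.exists_singular_pairing hQ (by omega) hs
      ⟨t, htU, mem_qperp_singleton.1 hts, htb⟩
    exact ⟨s, hs, r, hr, hsq, hrq, hsr, hsn, b, hb, hsb, hrb⟩
  have hXd : ∀ s : ι → F, finrank F U ≤
      finrank F (U ⊓ qperp Q (Submodule.span F {s}) : Submodule F (ι → F)) + 1 :=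
    finrank_le_inf_qperp_add_one hQ U
  set K := U ⊓ W with hK
  by_cases hK3 : 3 ≤ finrank F K
  · have hKlt : finrank F K < finrank F U :=
      Submodule.finrank_lt_finrank_of_lt (lt_of_le_of_ne inf_le_left fun h => hnW (inf_eq_left.1 h))
    by_contra! hall
    have hle : ∀ s ∈ K, s ≠ 0 → Q s = 0 → U ⊓ qperp Q (Submodule.span F {s}) = K := by
      intro s hs hs0 hsq
      have h := hall s hs.1 hsq fun h => hs0 ((Submodule.eq_bot_iff _).1 hW.inf_qperp s ⟨hs.2, h⟩)
      rw [sup_eq_left.2 ((Submodule.span_singleton_le_iff_mem _ _).2 hs)] at h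
      exact Submodule.eq_of_le_of_finrank_le h (by have := hXd s; omega)
    obtain ⟨s, hs, hs0, hsq⟩ := exists_singular hQ K hK3
    have hK6 := hle s hs hs0 hsq
    have hXs := hXd s
    rw [hK6] at hXs
    obtain ⟨s', hs', hs's, hs'q⟩ := exists_singular_notMem hQ (K := K) (M := Submodule.span F {s}) (by
      have h1 := Submodule.finrank_mono (inf_le_right : K ⊓ Submodule.span F {s} ≤ _)
      rw [finrank_span_singleton hs0] at h1
      omega)
    refine hs's (hU.mem_span_of_perp hs.1 hs'.1 fun x hx hsx => ?_)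
    have : x ∈ K := by rw [← hK6]; exact ⟨hx, mem_qperp_singleton.2 hsx⟩
    rw [← hle s' hs' (fun h => hs's (h ▸ Submodule.zero_mem _)) hs'q] at this
    rw [QuadraticMap.polar_comm]
    exact mem_qperp_singleton.1 this.2
  · obtain ⟨t, htU, htn⟩ := SetLike.not_le_iff_exists.1
      fun h => hne (Submodule.eq_of_le_of_finrank_le h hdim.ge)
    rw [mem_qperp] at htn
    push Not at htn
    obtain ⟨w, hw, hwt⟩ := htn
    obtain ⟨s, hs, hsq, -, hsw⟩ := hU.exists_singular_pairing hQ (by omega) U.zero_mem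
      ⟨t, htU, QuadraticMap.polar_zero_left Q t, by rwa [QuadraticMap.polar_comm]⟩
    refine ⟨s, hs, hsq, fun h => hsw (by rw [QuadraticMap.polar_comm]; exact mem_qperp.1 h w hw),
      fun h => ?_⟩
    have h1 := Submodule.finrank_mono h
    have h2 := Submodule.finrank_sup_add_finrank_inf_eq K (Submodule.span F {s})
    have h3 : finrank F (Submodule.span F {s}) ≤ 1 := (finrank_span_le_card {s}).trans (by simp)
    have := hXd s
    omega

/-- Maximality of the stabiliser of a nondegenerate subspace. -/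
theorem isMaximalIn_nd (hQ : (QuadraticMap.polarBilin Q).Nondegenerate) (hW : Nd Q W) (hW0 : W ≠ ⊥)
    (hd : 6 ≤ finrank F (qperp Q W)) (hle : finrank F W ≤ finrank F (qperp Q W))
    (hswap : ∀ g ∈ Cfsg.Omega F ⇑Q, gmap g (qperp Q W) ≠ W)
    (hex : ¬(Fintype.card F ≤ 3 ∧ finrank F W = 2 ∧ ∃ s ∈ W, s ≠ 0 ∧ Q s = 0)) :
    IsMaximalIn (omegaGL ⇑Q) (subspaceStabilizer W ⊓ omegaGL ⇑Q) := by
  set U := qperp Q W with hUdef
  have hUn : Nd Q U := hW.qperp' hQ
  have hperp : ∀ {w u : ι → F}, w ∈ W → u ∈ U → 𝔅 w u = 0 := fun hw hu => mem_qperp.1 hu _ hw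
  have hperp' : ∀ {w u : ι → F}, w ∈ W → u ∈ U → 𝔅 u w = 0 := fun hw hu => by
    rw [QuadraticMap.polar_comm]; exact hperp hw hu
  have hn : 6 ≤ Fintype.card ι := by
    have := Submodule.finrank_le U
    rw [Module.finrank_pi] at this
    omega
  have hn5 : 5 ≤ Fintype.card ι := by omega
  obtain ⟨w₀, hw₀, hw₀0⟩ := Submodule.exists_mem_ne_zero_of_ne_bot hW0
  refine isMaximalIn_omega _ ?_ fun M hM g hgM hgΩ hgS => ?_
  · obtain ⟨p, hp, hp0, hpq⟩ := exists_singular hQ U (by omega)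
    obtain ⟨x, hx, hwx⟩ := hW.exists_polar_one hw₀ hw₀0
    have hpw := hperp' hw₀ hp
    refine ⟨eichIso Q p w₀ hpq hpw, eich_mem_omega hQ hn5 hpq hpw, fun hs => hp0 ?_⟩
    have h := (MaxSub.mem_subspaceStabilizer_iff.1 hs x).1 hx
    change mat Q (eichIso Q p w₀ hpq hpw) *ᵥ x ∈ W at h
    rw [mat_eichIso, eich_mulVec, hperp' hx hp, hwx] at h
    simp only [zero_smul, one_smul, mul_zero, sub_zero, zero_sub, W.add_mem_iff_right hx, neg_mem_iff] at h
    exact (Submodule.eq_bot_iff _).1 hW.inf_qperp p ⟨h, hp⟩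
  have hMW : ∀ k : Isom Q, k ∈ Cfsg.Omega F ⇑Q → (∀ x ∈ W, mat Q k *ᵥ x ∈ W) → k ∈ M :=
    fun k hk h => hM k hk (mem_stab_of_le h)
  -- Eichler elements inside either summand
  have hinU : ∀ {u w : ι → F}, Q u = 0 → u ∈ U → w ∈ U → 𝔅 u w = 0 → RootMem M u w := by
    intro u w huq hu hw huw
    refine RootMem.of_iso huq huw (hMW _ (eich_mem_omega hQ hn5 huq huw) fun x hx => ?_)
    rw [mat_eichIso, eich_mulVec, hperp' hx hu, hperp' hx hw]
    simpa using hx
  -- a first mixed root element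
  have hgU : gmap g U ≠ U := fun h => hgS (mem_stab_of_le fun x hx => by
    rw [← qperp_qperp hQ W, ← hUdef, ← gmap_qperp hQ h]
    exact Submodule.mem_map_of_mem (f := mulVecLin (mat Q g)) (by rwa [hUdef, qperp_qperp hQ W]))
  have hgW : ¬gmap g U ≤ W := fun h =>
    hswap g hgΩ (Submodule.eq_of_le_of_finrank_le h (by rw [finrank_gmap]; exact hle))
  obtain ⟨s, ⟨s₀, hs₀, hse⟩, r, ⟨r₀, hr₀, hre⟩, hsq, hrq, hsr, hsn, b, hb, hsb, hrb⟩ :=
    exists_mixed_pair hQ hW hd (hUn.gmap g) (finrank_gmap g U) hgU hgW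
  rw [mulVecLin_apply] at hse hre
  have hrs : 𝔅 r s = 0 := by rw [QuadraticMap.polar_comm, hsr]
  have hroot : RootMem M r s := by
    have := (hinU (u := r₀) (w := s₀) (by rw [← quad_mulVec Q g, hre]; exact hrq) hr₀ hs₀
      (by rw [← polar_mulVec Q g, hse, hre]; exact hrs)).conj hgM
    rwa [hse, hre] at this
  obtain ⟨ws, hws, us, hus, hsum⟩ := hW.exists_decomp hQ s
  have hsU : ∀ {x : ι → F}, x ∈ U → 𝔅 us x = 𝔅 s x := fun hx => by
    rw [← hsum, QuadraticMap.polar_add_left, hperp hws hx, zero_add]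
  obtain ⟨q, hq, hqq, husq, hqr⟩ := hUn.exists_singular_pairing hQ (by omega) hus
    ⟨b, hb, by rw [hsU hb]; exact hsb, by rwa [QuadraticMap.polar_comm]⟩
  have hqs : 𝔅 q s = 0 := by rw [QuadraticMap.polar_comm, ← hsU hq, husq]
  obtain ⟨p, ⟨⟨⟨hp, hpq'⟩, hps'⟩, hpr'⟩, hp0, hpq⟩ := exists_singular hQ
    (U ⊓ qperp Q (Submodule.span F {q}) ⊓ qperp Q (Submodule.span F {s}) ⊓
      qperp Q (Submodule.span F {r})) (by
    have h1 := finrank_le_inf_qperp_add_one hQ U q
    have h2 := finrank_le_inf_qperp_add_one hQ (U ⊓ qperp Q (Submodule.span F {q})) s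
    have h3 := finrank_le_inf_qperp_add_one hQ
      (U ⊓ qperp Q (Submodule.span F {q}) ⊓ qperp Q (Submodule.span F {s})) r
    omega)
  rw [SetLike.mem_coe, mem_qperp_singleton] at hpq' hps' hpr'
  have hsp : 𝔅 s p = 0 := hps'
  have hrp : 𝔅 r p = 0 := hpr'
  have hpq1 : 𝔅 p q = 0 := by rw [QuadraticMap.polar_comm, hpq']
  set c := 𝔅 q r with hc
  have hroot' : RootMem M (r - c • p) s := by
    have hk := (hinU hpq hp hq hpq1).iso hpq hpq1
    have := hroot.conj hk
    rw [mat_eichIso, eich_mulVec, eich_mulVec, QuadraticMap.polar_comm (⇑Q) p r, hrp,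
      QuadraticMap.polar_comm (⇑Q) p s, hsp, hqs, ← hc] at this
    simpa [sub_eq_add_neg] using this
  have hr'q : Q (r - c • p) = 0 := by
    rw [sub_eq_add_neg, ← neg_smul, QuadraticMap.map_add (⇑Q), hrq, QuadraticMap.map_smul, hpq,
      QuadraticMap.polar_smul_right, hrp, smul_zero, smul_zero, add_zero, add_zero]
  have hscp : RootMem M s (c • p) := by
    have h1 := hroot'.swap hr'q hsq
    have h2 := hroot.swap hrq hsq
    have e1 : 𝔅 s (-(r - c • p)) = 0 := by
      rw [QuadraticMap.polar_neg_right, QuadraticMap.polar_sub_right, hsr,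
        QuadraticMap.polar_smul_right, hsp, smul_zero, sub_zero, neg_zero]
    have e2 : 𝔅 s (-r) = 0 := by rw [QuadraticMap.polar_neg_right, hsr, neg_zero]
    have := h1.add hsq e1 (by rw [neg_neg]; exact hsr) (RootMem.neg hsq e2 h2)
    rwa [show -(r - c • p) + - -r = c • p by abel] at this
  have hpa : RootMem M p (-(c • ws)) := by
    have h1 := hscp.swap hsq (by rw [QuadraticMap.map_smul, hpq, smul_zero])
    rw [rootMem_smul_left] at h1
    have hpu : 𝔅 p us = 0 := by rw [QuadraticMap.polar_comm, hsU hp, hsp]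
    have hcu : 𝔅 p (c • us) = 0 := by rw [QuadraticMap.polar_smul_right, hpu, smul_zero]
    have e1 : 𝔅 p (c • -s) = 0 := by
      rw [QuadraticMap.polar_smul_right, QuadraticMap.polar_neg_right, QuadraticMap.polar_comm (⇑Q) p s,
        hsp, neg_zero, smul_zero]
    have := h1.add hpq e1 hcu (hinU hpq hp (U.smul_mem _ hus) hcu)
    rwa [show c • -s + c • us = -(c • ws) by rw [← hsum, smul_neg, smul_add]; abel] at this
  have hws0 : ws ≠ 0 := fun h => hsn (by rw [← hsum, h, zero_add]; exact hus)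
  have ha0 : -(c • ws) ≠ 0 := neg_ne_zero.2 (smul_ne_zero hqr hws0)
  -- spreading over the singular vectors of `U`
  have hmove : ∀ {a p v : ι → F}, a ∈ W → p ∈ U → v ∈ U → Q p = 0 → Q v = 0 → p ≠ 0 →
      v ∉ Submodule.span F {p} → RootMem M p a → RootMem M v a := by
    intro a p v ha hp hv hpq hvq hp0 hvn h
    obtain ⟨z, hz, hzq, hzd, hzp⟩ := hUn.exists_singular_pairing hQ (b := p) (by omega)
      (U.sub_mem hp hv) (by
      by_contra! hall
      obtain ⟨e, he⟩ := Submodule.mem_span_singleton.1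
        (hUn.mem_span_of_perp (U.sub_mem hp hv) hp hall)
      rcases eq_or_ne e 0 with rfl | he0
      · exact hp0 (by rw [← he, zero_smul])
      · refine hvn (Submodule.mem_span_singleton.2 ⟨(e - 1) / e, ?_⟩)
        refine smul_right_injective (ι → F) he0 ?_
        simp only
        rw [smul_smul, mul_div_cancel₀ _ he0, sub_smul, one_smul]
        nth_rewrite 2 [← he]
        rw [smul_sub]
        abel)
    have hzeq : 𝔅 z v = 𝔅 z p := by
      rw [QuadraticMap.polar_comm, QuadraticMap.polar_sub_right, sub_eq_zero] at hzd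
      exact hzd.symm
    obtain ⟨hzw, hkv⟩ := eich_move hzq hpq hvq hzp hzeq
    have hw : (𝔅 z p)⁻¹ • (v - p) ∈ U := U.smul_mem _ (U.sub_mem hv hp)
    have := h.conj ((hinU hzq hz hw hzw).iso hzq hzw)
    rw [mat_eichIso, hkv, eich_mulVec, hperp' ha hz, hperp' ha hw] at this
    simpa using this
  let A : Submodule F (ι → F) :=
    { carrier := {a | a ∈ W ∧ ∀ v ∈ U, Q v = 0 → RootMem M v a}
      zero_mem' := ⟨W.zero_mem, fun _ _ _ => RootMem.zero⟩
      add_mem' := fun {a a'} ha ha' => ⟨W.add_mem ha.1 ha'.1, fun v hv hvq =>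
        (ha.2 v hv hvq).add hvq (hperp' ha.1 hv) (hperp' ha'.1 hv) (ha'.2 v hv hvq)⟩
      smul_mem' := fun e a ha => ⟨W.smul_mem _ ha.1, fun v hv hvq =>
        (rootMem_smul_left e).1 (ha.2 _ (U.smul_mem _ hv) (by rw [QuadraticMap.map_smul, hvq, smul_zero]))⟩ }
  have haA : -(c • ws) ∈ A := by
    have hmem : -(c • ws) ∈ W := W.neg_mem (W.smul_mem _ hws)
    refine ⟨hmem, fun v hv hvq => ?_⟩
    rcases eq_or_ne v 0 with rfl | hv0
    · rw [← zero_smul F p, rootMem_smul_left, zero_smul]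
      exact RootMem.zero
    obtain ⟨v', hv', hv'n, hv'q⟩ := exists_singular_notMem hQ (K := U) (M := Submodule.span F {p}) (by
      have h1 := Submodule.finrank_mono (inf_le_right : U ⊓ Submodule.span F {p} ≤ _)
      rw [finrank_span_singleton hp0] at h1
      omega)
    by_cases hvn : v ∈ Submodule.span F {p}
    · have hv'0 : v' ≠ 0 := fun h => hv'n (h ▸ Submodule.zero_mem _)
      refine hmove hmem hv' hv hv'q hvq hv'0 (fun h => ?_) (hmove hmem hp hv' hpq hv'q hp0 hv'n hpa)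
      obtain ⟨e, rfl⟩ := Submodule.mem_span_singleton.1 h
      exact hv'n ((Submodule.smul_mem_iff _ (left_ne_zero_of_smul hv0)).1 hvn)
    · exact hmove hmem hp hv hpq hvq hp0 hvn hpa
  have hconj : ∀ k : Isom Q, k ∈ M → (∀ x ∈ W, mat Q k *ᵥ x ∈ W) → ∀ a ∈ A, mat Q k *ᵥ a ∈ A := by
    intro k hk hkW a ha
    refine ⟨hkW a ha.1, fun v hv hvq => ?_⟩
    rw [hUdef, ← gmap_qperp hQ (gmap_eq_of_le k hkW)] at hv
    obtain ⟨v₀, hv₀, rfl⟩ := hv
    rw [mulVecLin_apply, quad_mulVec] at hvq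
    exact (ha.2 v₀ hv₀ hvq).conj hk
  have hrefl : ∀ v ∈ W, Q v ≠ 0 → v ∉ A → ∀ a ∈ A, 𝔅 v a = 0 := by
    intro v hv hvq hvA a ha
    by_contra hva
    obtain ⟨u, hu, huv⟩ := exists_value_mem hUn.inf_qperp (by omega) (Q v) hvq
    have huq : Q u ≠ 0 := by rw [huv]; exact hvq
    have happly : ∀ x ∈ W, mat Q (reflIso Q v hvq * reflIso Q u huq) *ᵥ x =
        x - ((Q v)⁻¹ * 𝔅 v x) • v := fun x hx => by
      rw [mat_mul, ← mulVec_mulVec, mat_reflIso_mulVec, mat_reflIso_mulVec,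
        show refl Q u x = x by rw [refl_apply, hperp' hx hu, mul_zero, zero_smul, sub_zero], refl_apply]
    have hstab : ∀ x ∈ W, mat Q (reflIso Q v hvq * reflIso Q u huq) *ᵥ x ∈ W := fun x hx => by
      rw [happly x hx]; exact W.sub_mem hx (W.smul_mem _ hv)
    have hk : reflIso Q v hvq * reflIso Q u huq ∈ M := by
      refine hMW _ ((mem_omega_iff_even hQ (Or.inr (by omega))
        ((IsReflProd.reflIso v hvq).mul (IsReflProd.reflIso u huq))).2 ⟨by simp, ?_⟩) hstab
      exact ⟨Q v, by simp [huv]⟩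
    have h := hconj _ hk hstab a ha
    rw [happly a ha.1] at h
    have h' := A.sub_mem ha h
    rw [sub_sub_cancel] at h'
    exact hvA ((A.smul_mem_iff (mul_ne_zero (inv_ne_zero hvq) hva)).1 h')
  have heich : ∀ s ∈ W, ∀ s' ∈ W, ∀ a ∈ A, Q s = 0 → Q s' = 0 → 𝔅 s s' = 0 →
      eich Q s s' *ᵥ a ∈ A := by
    intro s hs s' hs' a ha hsq hs'q hss'
    have hstab : ∀ x ∈ W, mat Q (eichIso Q s s' hsq hss') *ᵥ x ∈ W := fun x hx => by
      rw [mat_eichIso, eich_mulVec]
      exact W.add_mem hx (W.sub_mem (W.sub_mem (W.smul_mem _ hs') (W.smul_mem _ hs)) (W.smul_mem _ hs))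
    exact hconj _ (hMW _ (eich_mem_omega hQ hn5 hsq hss') hstab) hstab a ha
  have hAW : A = W := eq_of_refl_invariant hW (fun a ha => ha.1) (fun h => ha0 (by
    rw [← Submodule.mem_bot F, ← h]; exact haA)) hrefl heich hex
  -- every singular point of `U` is full
  have hfull : ∀ v ∈ U, Q v = 0 → Full M v := by
    intro v hv hvq w hvw
    obtain ⟨a, ha, u, hu, rfl⟩ := hW.exists_decomp hQ w
    have hva := hperp' ha hv
    have hvu : 𝔅 v u = 0 := by rwa [QuadraticMap.polar_add_right, hva, zero_add] at hvw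
    rw [← hAW] at ha
    exact (ha.2 v hv hvq).add hvq hva hvu (hinU hvq hv hu hvu)
  obtain ⟨v, hv, hv0, hvq⟩ := exists_singular hQ U (by omega)
  obtain ⟨v', hv', hv'q, hvv'⟩ := exists_partner_in hv hvq (by
    obtain ⟨x, hx, hvx⟩ := hUn.exists_polar_one hv hv0
    exact ⟨x, hx, by rw [hvx]; exact one_ne_zero⟩)
  exact omega_le_of_full_pair hQ hn5 hvq hv'q (by rw [hvv']; exact one_ne_zero) (hfull v hv hvq)
    (hfull v' hv' hv'q)

end CfsgLib.OrthMax
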