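import Cfsg.Agent.OrthMax.NondegenerateSmall

/-!
# Forms of the nondegenerate-subspace theorem for functions

`exists_lag_of_isometric_halves`: an orthogonal sum of two isometric halves of even dimension is split.
`isMaximalIn_nd_sym`, `isMaximalIn_nd_fun`: either summand may be the smaller one.
-/

set_option autoImplicit false
set_option linter.unusedSectionVars false

namespace CfsgLib.OrthMax

open Matrix Module CfsgLib.Spinor CfsgLib.Forms Cfsg.Geo CfsgLib.OmegaOrbits

variable {F : Type*} [Field F] {ι : Type} [Fintype ι] [DecidableEq ι] {Q : QuadraticForm F (ι → F)}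
variable [Fintype F]

set_option quotPrecheck false in
local notation "𝔅" => QuadraticMap.polar (⇑Q)

theorem exists_sq_add_sq (h2 : (2 : F) ≠ 0) (c : F) : ∃ a b : F, a * a + b * b = c := by
  have hq : Fintype.card F % 2 = 1 :=
    FiniteField.odd_card_of_char_ne_two fun h => h2 (by
      have := ringChar.of_eq h
      exact CharTwo.two_eq_zero)
  obtain ⟨a, b, hab⟩ := FiniteField.exists_root_sum_quadratic (f := (Polynomial.X : Polynomial F) ^ 2)
    (g := Polynomial.X ^ 2 - Polynomial.C c) (Polynomial.degree_X_pow 2)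
    (Polynomial.degree_X_pow_sub_C (by norm_num) c) hq
  exact ⟨a, b, by simp at hab; linear_combination hab⟩

/-- A subspace and an isometric orthogonal copy, of even dimension, carry a half-dimensional totally
singular subspace. -/
theorem exists_lag_of_isometric_halves {U : Submodule F (ι → F)} (hU : Nd Q U) (g : Isom Q)
    (hdisj : U ⊓ gmap g U = ⊥) (horth : ∀ u ∈ U, ∀ v ∈ U, 𝔅 u (mat Q g *ᵥ v) = 0)
    (hev : Even (finrank F U)) :
    ∃ T : Submodule F (ι → F), (∀ x ∈ T, Q x = 0) ∧ finrank F T = finrank F U := by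
  have hQ2 : ∀ u v : U, Q ((u : ι → F) + mat Q g *ᵥ v) = Q (u : ι → F) + Q (v : ι → F) := fun u v => by
    rw [QuadraticMap.map_add (⇑Q), horth u u.2 v v.2, add_zero, quad_mulVec]
  -- the space `U × U` embeds
  set E : (U × U) →ₗ[F] (ι → F) := U.subtype.coprod ((mulVecLin (mat Q g)).comp U.subtype) with hE
  have hEinj : Function.Injective E := by
    refine LinearMap.ker_eq_bot.1 ((Submodule.eq_bot_iff _).2 fun x hx => ?_)
    obtain ⟨u, v⟩ := x
    have hx' : (u : ι → F) + mat Q g *ᵥ v = 0 := hx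
    have hu : (u : ι → F) = 0 := (Submodule.eq_bot_iff _).1 hdisj _ ⟨u.2, by
      rw [eq_neg_of_add_eq_zero_left hx', ← mulVec_neg]
      exact Submodule.mem_map_of_mem (U.neg_mem v.2)⟩
    rw [hu, zero_add] at hx'
    have hv : (v : ι → F) = 0 := mulVec_injective g (by rw [mulVecLin_apply, hx', map_zero])
    exact Prod.ext (Subtype.ext hu) (Subtype.ext hv)
  suffices ∃ L : (Fin (finrank F U) → F) →ₗ[F] U × U, Function.Injective L ∧
      ∀ x, Q ((L x).1 : ι → F) + Q ((L x).2 : ι → F) = 0 by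
    obtain ⟨L, hL, hLq⟩ := this
    refine ⟨LinearMap.range (E.comp L), ?_, ?_⟩
    · rintro _ ⟨x, rfl⟩
      exact (hQ2 _ _).trans (hLq x)
    · rw [LinearMap.finrank_range_of_inj (f := E.comp L) (hEinj.comp hL), Module.finrank_pi, Fintype.card_fin]
  by_cases h2 : (2 : F) = 0
  · let b := Module.finBasis F U
    refine ⟨(LinearMap.id.prod LinearMap.id).comp b.equivFun.symm.toLinearMap, ?_, fun x => ?_⟩
    · exact fun x y h => b.equivFun.symm.injective (congrArg Prod.fst h)
    · show Q ((b.equivFun.symm x : U) : ι → F) + Q ((b.equivFun.symm x : U) : ι → F) = 0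
      rw [← two_mul, h2, zero_mul]
  haveI : Invertible (2 : F) := invertibleOfNonzero h2
  obtain ⟨w, ⟨e⟩⟩ := QuadraticForm.equivalent_weightedSumSquares_units_of_nondegenerate'
    (Q.comp U.subtype) (fun x hx => Subtype.ext (hU x x.2 fun y hy => by
      have h := hx ⟨y, hy⟩
      rw [QuadraticMap.associated_apply] at h
      rw [QuadraticMap.polar_comm]
      simpa [QuadraticMap.polar, Invertible.ne_zero] using h))
  obtain ⟨j, hj⟩ := hev
  let σ : Fin (finrank F U) ≃ Fin j ⊕ Fin j := (finCongr hj).trans finSumFinEquiv.symm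
  -- pair the weights `c = w (inl i)`, `c' = w (inr i)` and solve `c (α² + β²) + c' = 0`
  choose α β hαβ using fun i : Fin j => exists_sq_add_sq h2
    (-(w (σ.symm (Sum.inr i)) : F) / (w (σ.symm (Sum.inl i)) : F))
  have hsq : ∀ (a : Fin (finrank F U) → F), Q ((e.symm a : U) : ι → F) =
      ∑ i, ((w (σ.symm i) : F) * (a (σ.symm i) * a (σ.symm i))) := fun a => by
    rw [show Q ((e.symm a : U) : ι → F) = (Q.comp U.subtype) (e.symm a) from rfl, e.symm.map_app,
      QuadraticMap.weightedSumSquares_apply, ← σ.symm.sum_comp]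
    simp [Units.smul_def, mul_assoc]
  let a₁ : (Fin (finrank F U) → F) →ₗ[F] (Fin (finrank F U) → F) := LinearMap.pi fun i =>
    Sum.elim (fun i => α i • LinearMap.proj (σ.symm (Sum.inl i)) - β i • LinearMap.proj (σ.symm (Sum.inr i)))
      (fun i => LinearMap.proj (σ.symm (Sum.inl i))) (σ i)
  let a₂ : (Fin (finrank F U) → F) →ₗ[F] (Fin (finrank F U) → F) := LinearMap.pi fun i =>
    Sum.elim (fun i => β i • LinearMap.proj (σ.symm (Sum.inl i)) + α i • LinearMap.proj (σ.symm (Sum.inr i)))
      (fun i => LinearMap.proj (σ.symm (Sum.inr i))) (σ i)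
  refine ⟨(e.symm.toLinearEquiv.toLinearMap.comp a₁).prod (e.symm.toLinearEquiv.toLinearMap.comp a₂),
    fun x y h => ?_, fun x => ?_⟩
  · have h1 : a₁ x = a₁ y := e.symm.toLinearEquiv.injective (congrArg Prod.fst h)
    have h2 : a₂ x = a₂ y := e.symm.toLinearEquiv.injective (congrArg Prod.snd h)
    funext i
    rw [← σ.symm_apply_apply i]
    rcases σ i with i | i
    · simpa [a₁] using congrFun h1 (σ.symm (Sum.inr i))
    · simpa [a₂] using congrFun h2 (σ.symm (Sum.inr i))
  · show Q ((e.symm (a₁ x) : U) : ι → F) + Q ((e.symm (a₂ x) : U) : ι → F) = 0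
    rw [hsq, hsq, Fintype.sum_sum_type, Fintype.sum_sum_type, add_add_add_comm, ← Finset.sum_add_distrib,
      ← Finset.sum_add_distrib, ← Finset.sum_add_distrib]
    refine Finset.sum_eq_zero fun i _ => ?_
    have hd := hαβ i
    rw [eq_div_iff (Units.ne_zero _)] at hd
    simp [a₁, a₂]
    linear_combination (x (σ.symm (Sum.inl i)) * x (σ.symm (Sum.inl i)) +
      x (σ.symm (Sum.inr i)) * x (σ.symm (Sum.inr i))) * hd

theorem stab_inf_qperp (hQ : (QuadraticMap.polarBilin Q).Nondegenerate) (W : Submodule F (ι → F)) :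
    subspaceStabilizer W ⊓ omegaGL ⇑Q = subspaceStabilizer (qperp Q W) ⊓ omegaGL ⇑Q := by
  have key : ∀ W : Submodule F (ι → F),
      subspaceStabilizer W ⊓ omegaGL ⇑Q ≤ subspaceStabilizer (qperp Q W) ⊓ omegaGL ⇑Q := by
    rintro W _ ⟨hs, k, hk, rfl⟩
    refine ⟨mem_stab_of_le fun x hx => ?_, k, hk, rfl⟩
    rw [← gmap_qperp hQ (gmap_eq_of_le k fun u hu => (MaxSub.mem_subspaceStabilizer_iff.1 hs u).1 hu)]
    exact Submodule.mem_map_of_mem (f := mulVecLin (mat Q k)) hx
  refine le_antisymm (key W) ?_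
  have h := key (qperp Q W)
  rwa [qperp_qperp hQ W] at h

/-- Maximality with the summands in either order. -/
theorem isMaximalIn_nd_sym (hQ : (QuadraticMap.polarBilin Q).Nondegenerate) (hn : 10 ≤ Fintype.card ι)
    {W : Submodule F (ι → F)} (h5 : Fintype.card ι = 10 → finrank F W = 5 → (2 : F) ≠ 0) (hW : Nd Q W) (hW0 : W ≠ ⊥) (hW1 : W ≠ ⊤)
    (hswap : 2 * finrank F W = Fintype.card ι → ∀ g ∈ Cfsg.Omega F ⇑Q, gmap g (qperp Q W) ≠ W)
    (hex : ¬(Fintype.card F ≤ 3 ∧ ∃ P, (P = W ∨ P = qperp Q W) ∧ finrank F P = 2 ∧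
      ∃ s ∈ P, s ≠ 0 ∧ Q s = 0)) :
    IsMaximalIn (omegaGL ⇑Q) (subspaceStabilizer W ⊓ omegaGL ⇑Q) := by
  have hd := finrank_qperp hQ W
  have hle := Submodule.finrank_le W
  rw [Module.finrank_pi] at hle
  by_cases hmid : Fintype.card ι = 10 ∧ finrank F W = 5
  · exact isMaximalIn_nd_small (h5 hmid.1 hmid.2) hQ (by omega) hW hW0 (by omega) (by omega)
      (fun g hg h => hswap (by omega) g hg h) fun h => hex ⟨h.1, W, Or.inl rfl, h.2⟩
  by_cases hsmall : 2 * finrank F W ≤ Fintype.card ι
  · refine isMaximalIn_nd hQ hW hW0 (by omega) (by omega) (fun g hg h => ?_)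
      fun h => hex ⟨h.1, W, Or.inl rfl, h.2⟩
    have h1 := finrank_gmap g (qperp Q W)
    rw [h] at h1
    exact hswap (by omega) g hg h
  · rw [stab_inf_qperp hQ W]
    have hU0 : qperp Q W ≠ ⊥ := fun h => hW1 (Submodule.eq_top_of_finrank_eq (by
      rw [h, finrank_bot] at hd
      rw [Module.finrank_pi]
      omega))
    refine isMaximalIn_nd hQ (hW.qperp' hQ) hU0 (by rw [qperp_qperp hQ]; omega)
      (by rw [qperp_qperp hQ]; omega) (fun g _ h => ?_) fun h => hex ⟨h.1, _, Or.inr rfl, h.2⟩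
    have h1 := finrank_gmap g (qperp Q (qperp Q W))
    rw [h, qperp_qperp hQ] at h1
    omega

/-- The same for a form given as a function, with the plane excluded as in the statements. -/
theorem isMaximalIn_nd_fun {Q : (ι → F) → F} (hQ : IsNondegenerateQuadraticForm Q)
    (hn : 10 ≤ Fintype.card ι) {W : Submodule F (ι → F)} (hW : IsNondegenerateOn (QuadraticMap.polar Q) W)
    (hW0 : W ≠ ⊥) (hW1 : W ≠ ⊤)
    (hdim : 2 * finrank F W = Fintype.card ι → Even (finrank F W) ∧ ¬IsPlusTypeOn Q ⊤)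
    (hex : ¬(Fintype.card F ≤ 3 ∧ ∃ U : Submodule F (ι → F), finrank F U = 2 ∧
      IsNondegenerateOn (QuadraticMap.polar Q) U ∧ IsPlusTypeOn Q U ∧
      (U = W ∨ (AreOrthogonalFor (QuadraticMap.polar Q) U W ∧
        finrank F U + finrank F W = Fintype.card ι)))) :
    IsMaximalIn (omegaGL Q) (subspaceStabilizer W ⊓ omegaGL Q) := by
  set q := AschbacherQuad.quadForm hQ
  have hq := AschbacherQuad.quadForm_nondegenerate hQ
  have hWn : Nd q W := nd_of_isNondegenerateOn hW
  refine isMaximalIn_nd_sym (Q := q) hq hn (fun h10 h5 => absurd (hdim (by omega)).1 (by rw [h5]; decide)) hWn hW0 hW1 (fun h2 g _ hg => ?_) fun hP => hex ?_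
  · obtain ⟨hev, hminus⟩ := hdim h2
    have hd := finrank_qperp hq W
    obtain ⟨T, hT, hTd⟩ := exists_lag_of_isometric_halves (Q := q) (hWn.qperp' hq) g
      (by rw [hg, inf_comm]; exact hWn.inf_qperp)
      (fun u hu v hv => by
        rw [QuadraticMap.polar_comm]
        exact mem_qperp.1 hu _ (hg ▸ Submodule.mem_map_of_mem (f := mulVecLin (mat q g)) hv))
      (by rwa [hd, show Fintype.card ι - finrank F W = finrank F W by omega])
    exact hminus ⟨T, le_top, hT, by rw [finrank_top, Module.finrank_pi, hTd, hd]; omega⟩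
  · obtain ⟨hq3, P, hP, hP2, s, hs, hs0, hsq⟩ := hP
    have hPn : Nd q P := by
      rcases hP with rfl | rfl
      · exact hWn
      · exact hWn.qperp' hq
    refine ⟨hq3, P, hP2, fun w hw hw0 => ?_,
      ⟨Submodule.span F {s}, (Submodule.span_singleton_le_iff_mem _ _).2 hs, fun x hx => ?_,
        by rw [finrank_span_singleton hs0, hP2]⟩, ?_⟩
    · obtain ⟨x, hx, hwx⟩ := hPn.exists_polar_one hw hw0
      have hwx' : QuadraticMap.polar Q w x = 1 := hwx
      exact ⟨⟨x, hx, by rw [QuadraticMap.polar_comm, hwx']; exact one_ne_zero⟩, x, hx,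
        by rw [hwx']; exact one_ne_zero⟩
    · obtain ⟨c, rfl⟩ := Submodule.mem_span_singleton.1 hx
      show q (c • s) = 0
      rw [QuadraticMap.map_smul, hsq, smul_zero]
    · rcases hP with rfl | rfl
      · exact Or.inl rfl
      · refine Or.inr ⟨fun u hu v hv => ?_, ?_⟩
        · rw [QuadraticMap.polar_comm]
          exact mem_qperp.1 hu v hv
        · rw [finrank_qperp hq]
          have := Submodule.finrank_le W
          rw [Module.finrank_pi] at this
          omega

end CfsgLib.OrthMax
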