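import Cfsg.Agent.OrthMax.NondegenerateSmall
import Cfsg.Agent.OrthMax.NondegenerateWrap

/-!
# Stabilisers of even-dimensional nondegenerate subspaces in odd dimension

`isMaximalIn_nd_odd`: the form of the statements, from dimension seven on.
-/

set_option autoImplicit false
set_option linter.unusedSectionVars false

namespace CfsgLib.OrthMax

open Matrix Module CfsgLib.Spinor CfsgLib.Forms CfsgLib.Forms4 Cfsg.Geo CfsgLib.OmegaOrbits

variable {F : Type*} [Field F] [Fintype F] {ι : Type} [Fintype ι] [DecidableEq ι]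

/-- Maximality for an even-dimensional subspace of an odd-dimensional space. -/
theorem isMaximalIn_nd_odd (h2 : (2 : F) ≠ 0) {Q : (ι → F) → F} (hQ : IsNondegenerateQuadraticForm Q)
    (hn : 7 ≤ Fintype.card ι) (hnodd : Odd (Fintype.card ι)) {W : Submodule F (ι → F)} (hW0 : W ≠ ⊥)
    (hev : Even (finrank F W)) (hW : IsNondegenerateOn (QuadraticMap.polar Q) W)
    (hex : ¬(Fintype.card F = 3 ∧ finrank F W = 2 ∧ IsPlusTypeOn Q W)) :
    IsMaximalIn (omegaGL Q) (subspaceStabilizer W ⊓ omegaGL Q) := by
  obtain ⟨q, rfl, hq⟩ : ∃ q : QuadraticForm F (ι → F), ⇑q = Q ∧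
      (QuadraticMap.polarBilin q).Nondegenerate :=
    ⟨AschbacherQuad.quadForm hQ, rfl, AschbacherQuad.quadForm_nondegenerate hQ⟩
  have hWn : Nd q W := nd_of_isNondegenerateOn hW
  obtain ⟨r, hr⟩ := hev
  obtain ⟨k, hk⟩ := hnodd
  have hle := Submodule.finrank_le W
  rw [Module.finrank_pi] at hle
  have hd : finrank F (qperp q W) = Fintype.card ι - finrank F W := finrank_qperp hq W
  have hex' : ¬(Fintype.card F ≤ 3 ∧ finrank F W = 2 ∧ ∃ s ∈ W, s ≠ 0 ∧ q s = 0) := by
    rintro ⟨hq3, hW2, s, hs, hs0, hsq⟩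
    have h3 : Fintype.card F = 3 := by
      rcases Nat.lt_or_ge (Fintype.card F) 3 with hlt | hge
      · refine absurd ?_ h2
        have h1 := Fintype.one_lt_card (α := F)
        have h2' := FiniteField.cast_card_eq_zero F
        rw [show Fintype.card F = 2 by omega] at h2'
        exact_mod_cast h2'
      · omega
    refine hex ⟨h3, hW2, Submodule.span F {s}, (Submodule.span_singleton_le_iff_mem _ _).2 hs,
      fun x hx => ?_, by rw [finrank_span_singleton hs0, hW2]⟩
    obtain ⟨c, rfl⟩ := Submodule.mem_span_singleton.1 hx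
    rw [QuadraticMap.map_smul, hsq, smul_zero]
  by_cases hsmall : 2 * finrank F W ≤ Fintype.card ι
  · refine isMaximalIn_nd_small h2 hq (by omega) hWn hW0 (by omega) (by omega) (fun g _ h => ?_) hex'
    have h1 := finrank_gmap g (qperp q W)
    rw [h] at h1
    omega
  · rw [stab_inf_qperp hq W]
    have hU0 : qperp q W ≠ ⊥ := fun h => by
      rw [h, finrank_bot] at hd
      omega
    have hqq : qperp q (qperp q W) = W := qperp_qperp hq W
    refine isMaximalIn_nd_small (Q := q) h2 hq (by omega) (hWn.qperp' hq) hU0 (by rw [hqq]; omega)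
      (by rw [hqq]; omega) (fun g _ h => ?_) fun h => by omega
    have h1 := finrank_gmap g (qperp q (qperp q W))
    rw [h, hqq] at h1
    omega

end CfsgLib.OrthMax
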