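import Cfsg.Agent.OrthMax.Nondegenerate

/-!
# Stabilisers of nondegenerate subspaces with a small complement, odd characteristic

`isMaximalIn_nd_small`: maximality for `W` with complement at least as large and of dimension at
least four, when no element exchanges the two.
-/

set_option autoImplicit false
set_option linter.unusedSectionVars false

namespace CfsgLib.OrthMax

open Matrix Module CfsgLib.Spinor CfsgLib.Forms CfsgLib.Forms4 Cfsg.Geo CfsgLib.OmegaOrbits

variable {F : Type*} [Field F] {ι : Type} [Fintype ι] [DecidableEq ι] {Q : QuadraticForm F (ι → F)}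
variable {W U : Submodule F (ι → F)} {M : Subgroup (Isom Q)}

set_option quotPrecheck false in
local notation "𝔅" => QuadraticMap.polar (⇑Q)

/-- The Eichler element at `u` does not see multiples of `u`. -/
theorem eich_sub_smul {u w : ι → F} (hu : Q u = 0) (huw : 𝔅 u w = 0) (k : F) :
    eich Q u (w - k • u) = eich Q u w := by
  refine Matrix.ext_iff_mulVec.2 fun x => ?_
  rw [eich_mulVec, eich_mulVec, show w - k • u = w + (-k) • u by module, QuadraticMap.map_add (⇑Q),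
    QuadraticMap.map_smul, hu, QuadraticMap.polar_smul_right, QuadraticMap.polar_comm (⇑Q) w u, huw,
    QuadraticMap.polar_add_left, QuadraticMap.polar_smul_left]
  simp only [smul_eq_mul]
  module

variable [Fintype F]

/-- A member of `M` fixing the point of a root element moves its translation vector inside `M`. -/
theorem RootMem.conj_sub {s t : ι → F} {k : Isom Q} (hs : Q s = 0) (hst : 𝔅 s t = 0)
    (h : RootMem M s t) (hk : k ∈ M) (hks : mat Q k *ᵥ s = s) :
    𝔅 s (mat Q k *ᵥ t - t) = 0 ∧ RootMem M s (mat Q k *ᵥ t - t) := by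
  have h1 : 𝔅 s (mat Q k *ᵥ t) = 0 := by
    conv_lhs => arg 2; rw [← hks]
    rw [polar_mulVec, hst]
  refine ⟨by rw [QuadraticMap.polar_sub_right, h1, hst, sub_zero], ?_⟩
  have h2 := h.conj hk
  rw [hks] at h2
  rw [sub_eq_add_neg]
  exact h2.add hs h1 (by rw [QuadraticMap.polar_neg_right, hst, neg_zero]) (h.neg hs hst)

/-- Singular vectors of a hyperplane section of `U` detect functionals. -/
theorem Nd.exists_sing_pairing_of_isotropic (hQ : (QuadraticMap.polarBilin Q).Nondegenerate)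
    (h : Nd Q U) (hd : 4 ≤ finrank F U) {d b : ι → F} (hdU : d ∈ U) (hbU : b ∈ U)
    (hb : b ∉ Submodule.span F {d})
    (hiso : Q d ≠ 0 ∨ d = 0 ∨ ∃ z ∈ U, Q z = 0 ∧ 𝔅 d z = 0 ∧ z ∉ Submodule.span F {d}) :
    ∃ z ∈ U, Q z = 0 ∧ 𝔅 d z = 0 ∧ 𝔅 z b ≠ 0 := by
  set K := U ⊓ qperp Q (Submodule.span F {d}) with hK
  have hnr : ∀ z ∈ U, z ∉ Submodule.span F {d} → ∃ x ∈ K, 𝔅 x z ≠ 0 := fun z hzU hz => by
    by_contra! hall
    exact hz (h.mem_span_of_perp hdU hzU fun x hx hdx => hall x ⟨hx, mem_qperp_singleton.2 hdx⟩)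
  obtain ⟨t, htK, htb⟩ := hnr b hbU hb
  obtain ⟨z, hzK, hzd, hz⟩ : ∃ z ∈ K, z ∉ Submodule.span F {d} ∧ Q z = 0 := by
    have hKd := finrank_le_inf_qperp_add_one hQ U d
    rw [← hK] at hKd
    obtain ⟨z, hz, hz0, hzq⟩ := exists_singular hQ K (by omega)
    rcases hiso with hq | hd0 | ⟨z, hzU, hzq, hdz, hzd⟩
    · refine ⟨z, hz, fun hm => ?_, hzq⟩
      obtain ⟨c, rfl⟩ := Submodule.mem_span_singleton.1 hm
      rw [QuadraticMap.map_smul, smul_eq_mul, mul_eq_zero, mul_self_eq_zero] at hzq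
      exact hz0 (by rw [hzq.resolve_right hq, zero_smul])
    · exact ⟨z, hz, fun hm => hz0 (by simpa [hd0] using hm), hzq⟩
    · exact ⟨z, ⟨hzU, mem_qperp_singleton.2 hdz⟩, hzd, hzq⟩
  obtain ⟨x₀, hx₀, hx₀z⟩ := hnr z hzK.1 hzd
  obtain ⟨q, hqK, hq, hqb⟩ := OrthMax.exists_singular_pairing hzK hz hx₀ hx₀z htK htb
  exact ⟨q, hqK.1, hq, mem_qperp_singleton.1 hqK.2, hqb⟩

/-- A hyperplane section of `U` orthogonal to a singular vector has a nonsingular vector. -/
theorem Nd.exists_nonsingular_perp (h2 : (2 : F) ≠ 0) (hQ : (QuadraticMap.polarBilin Q).Nondegenerate)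
    (h : Nd Q U) (hd : 4 ≤ finrank F U) {q d : ι → F} (hqU : q ∈ U) (hdU : d ∈ U)
    (hqd : 𝔅 d q = 0) (hd' : Q d ≠ 0 ∨ d ∈ Submodule.span F {q}) :
    ∃ w ∈ U, Q w ≠ 0 ∧ 𝔅 q w = 0 ∧ 𝔅 d w = 0 := by
  by_contra! hall
  set Y := U ⊓ qperp Q (Submodule.span F {q}) ⊓ qperp Q (Submodule.span F {d}) with hY
  have hTS : ∀ y ∈ Y, Q y = 0 := fun y hy => by
    by_contra hq
    exact hall y hy.1.1 hq (mem_qperp_singleton.1 hy.1.2) (mem_qperp_singleton.1 hy.2)
  have hsplit : ∀ x ∈ U, 𝔅 q x = 0 → ∃ c : F, x - c • d ∈ Y := by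
    intro x hx hqx
    have hqd' : 𝔅 q d = 0 := by rw [QuadraticMap.polar_comm, hqd]
    refine ⟨(𝔅 d d)⁻¹ * 𝔅 d x, ⟨U.sub_mem hx (U.smul_mem _ hdU), mem_qperp_singleton.2 ?_⟩,
      mem_qperp_singleton.2 ?_⟩
    · rw [QuadraticMap.polar_sub_right, QuadraticMap.polar_smul_right, hqx, hqd', smul_zero, sub_zero]
    · rw [QuadraticMap.polar_sub_right, QuadraticMap.polar_smul_right, smul_eq_mul]
      by_cases hdd : 𝔅 d d = 0
      · rcases hd' with hd' | hd'
        · rw [hdd, mul_zero, sub_zero]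
          by_contra hdx
          have hh : Q d * 2 = 0 := by
            rw [QuadraticMap.polar_self, nsmul_eq_mul, Nat.cast_ofNat] at hdd
            linear_combination hdd
          rcases mul_eq_zero.1 hh with e | e
          · exact hd' e
          · exact h2 e
        · obtain ⟨c, rfl⟩ := Submodule.mem_span_singleton.1 hd'
          rw [QuadraticMap.polar_smul_left, hqx, smul_zero, hdd, mul_zero, sub_zero]
      · field_simp
        ring
  have hle : Y ≤ Submodule.span F {q} := fun y hy => h.mem_span_of_perp hqU hy.1.1 fun x hx hqx => by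
    obtain ⟨c, hc⟩ := hsplit x hx hqx
    rw [show x = (x - c • d) + c • d by abel, QuadraticMap.polar_add_left,
      QuadraticMap.polar_smul_left, polar_eq_zero hTS hc hy, mem_qperp_singleton.1 hy.2, smul_zero,
      add_zero]
  have h1 := Submodule.finrank_mono hle
  have h3 : finrank F (Submodule.span F {q}) ≤ 1 := (finrank_span_le_card {q}).trans (by simp)
  have h4 := finrank_le_inf_qperp_add_one hQ U q
  have h5 := finrank_le_inf_qperp_add_one hQ (U ⊓ qperp Q (Submodule.span F {q})) d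
  rw [← hY] at h5
  omega

/-- A nonzero vector of `U` pairs with a singular vector of `U`. -/
theorem Nd.exists_sing_pairing (hQ : (QuadraticMap.polarBilin Q).Nondegenerate)
    (h : Nd Q U) (hd : 4 ≤ finrank F U) {b : ι → F} (hbU : b ∈ U) (hb : b ≠ 0) :
    ∃ z ∈ U, Q z = 0 ∧ 𝔅 z b ≠ 0 := by
  obtain ⟨z, hzU, hz, -, hzb⟩ := h.exists_sing_pairing_of_isotropic hQ hd (d := 0) U.zero_mem hbU
    (by simpa using hb) (Or.inr (Or.inl rfl))
  exact ⟨z, hzU, hz, hzb⟩

/-- Singular `p`, `v` spanning a plane have a singular vector pairing equally with both. -/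
theorem Nd.exists_sing_equal_pairing (hQ : (QuadraticMap.polarBilin Q).Nondegenerate)
    (h : Nd Q U) (hd : 4 ≤ finrank F U) {p v : ι → F} (hp : p ∈ U) (hv : v ∈ U) (hpq : Q p = 0)
    (hvq : Q v = 0) (hp0 : p ≠ 0) (hvn : v ∉ Submodule.span F {p}) :
    ∃ z ∈ U, Q z = 0 ∧ 𝔅 z p ≠ 0 ∧ 𝔅 z v = 𝔅 z p := by
  have hb : p ∉ Submodule.span F {v - p} := fun hm => by
    obtain ⟨e, he⟩ := Submodule.mem_span_singleton.1 hm
    rcases eq_or_ne e 0 with rfl | he0
    · exact hp0 (by rw [← he, zero_smul])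
    · refine hvn (Submodule.mem_span_singleton.2 ⟨(e + 1) / e, ?_⟩)
      refine smul_right_injective (ι → F) he0 ?_
      simp only
      rw [smul_smul, mul_div_cancel₀ _ he0, add_smul, one_smul]
      nth_rewrite 2 [← he]
      rw [smul_sub]
      abel
  obtain ⟨z, hzU, hz, hzd, hzp⟩ := h.exists_sing_pairing_of_isotropic hQ hd (U.sub_mem hv hp) hp hb (by
    by_cases hvp : 𝔅 v p = 0
    · refine Or.inr (Or.inr ⟨p, hp, hpq, ?_, hb⟩)
      rw [QuadraticMap.polar_sub_left, hvp, QuadraticMap.polar_self, hpq, smul_zero, sub_zero]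
    · refine Or.inl ?_
      rw [sub_eq_add_neg, QuadraticMap.map_add (⇑Q), QuadraticMap.map_neg, hvq, hpq,
        QuadraticMap.polar_neg_right]
      simpa using hvp)
  refine ⟨z, hzU, hz, hzp, ?_⟩
  rw [QuadraticMap.polar_comm, QuadraticMap.polar_sub_right, sub_eq_zero] at hzd
  exact hzd

/-- A root element moving `U` gives one joining a singular point of `U` to `W`. -/
theorem exists_mixed_root (h2 : (2 : F) ≠ 0) (hQ : (QuadraticMap.polarBilin Q).Nondegenerate) (hW : Nd Q W)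
    (hUdef : U = qperp Q W) (hd : 4 ≤ finrank F U)
    (hinU : ∀ {u w : ι → F}, Q u = 0 → u ∈ U → w ∈ U → 𝔅 u w = 0 → RootMem M u w)
    (hinW : ∀ {u w : ι → F}, Q u = 0 → u ∈ W → w ∈ W → 𝔅 u w = 0 → RootMem M u w)
    {s w : ι → F} (hs : Q s = 0) (hsw : 𝔅 s w = 0) (hy : RootMem M s w)
    {v₁ : ι → F} (hv₁ : v₁ ∈ U) (hmove : eich Q s w *ᵥ v₁ ∉ U) :
    ∃ p ∈ U, p ≠ 0 ∧ Q p = 0 ∧ ∃ a ∈ W, a ≠ 0 ∧ RootMem M p a := by
  have hUn : Nd Q U := hUdef ▸ hW.qperp' hQ
  have hperp : ∀ {a u : ι → F}, a ∈ W → u ∈ U → 𝔅 a u = 0 := fun ha hu => by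
    rw [hUdef] at hu; exact mem_qperp.1 hu _ ha
  have hperp' : ∀ {a u : ι → F}, a ∈ W → u ∈ U → 𝔅 u a = 0 := fun ha hu => by
    rw [QuadraticMap.polar_comm]; exact hperp ha hu
  obtain ⟨ws, hws, us, hus, hsum⟩ := hW.exists_decomp hQ s
  rw [← hUdef] at hus
  obtain ⟨ww, hww, uw, huw, hwsum⟩ := hW.exists_decomp hQ w
  rw [← hUdef] at huw
  have hsU : ∀ {x : ι → F}, x ∈ U → 𝔅 s x = 𝔅 us x := fun hx => by
    rw [← hsum, QuadraticMap.polar_add_left, hperp hws hx, zero_add]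
  have hsW : ∀ {x : ι → F}, x ∈ W → 𝔅 s x = 𝔅 ws x := fun hx => by
    rw [← hsum, QuadraticMap.polar_add_left, hperp' hx hus, add_zero]
  have hwU : ∀ {x : ι → F}, x ∈ U → 𝔅 w x = 𝔅 uw x := fun hx => by
    rw [← hwsum, QuadraticMap.polar_add_left, hperp hww hx, zero_add]
  have hQs : Q ws + Q us = 0 := by
    rw [← hs, ← hsum, QuadraticMap.map_add (⇑Q), hperp hws hus, add_zero]
  by_cases hws0 : ws = 0
  · -- the point lies in `U`
    have hsmem : s ∈ U := by rw [← hsum, hws0, zero_add]; exact hus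
    have hww0 : ww ≠ 0 := fun h0 => hmove (by
      have hwmem : w ∈ U := by rw [← hwsum, h0, zero_add]; exact huw
      rw [eich_mulVec]
      exact U.add_mem hv₁ (U.sub_mem (U.sub_mem (U.smul_mem _ hwmem) (U.smul_mem _ hsmem))
        (U.smul_mem _ hsmem)))
    have h1 : 𝔅 s uw = 0 := by
      rw [← hwsum, QuadraticMap.polar_add_right, hperp' hww hsmem, zero_add] at hsw
      exact hsw
    refine ⟨s, hsmem, fun h0 => hmove ?_, hs, ww, hww, hww0, ?_⟩
    · rw [h0, eich_mulVec]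
      simpa using hv₁
    have h3 := hy.add hs hsw (w' := -uw) (by rw [QuadraticMap.polar_neg_right, h1, neg_zero])
      ((hinU hs hsmem huw h1).neg hs h1)
    rwa [← hwsum, add_neg_cancel_right] at h3
  -- a translation vector along a singular point of `U` orthogonal to `s`
  have trick : ∀ q ∈ U, q ≠ 0 → Q q = 0 → 𝔅 us q = 0 → ∀ c : F, c ≠ 0 → RootMem M s (c • q) →
      ∃ p ∈ U, p ≠ 0 ∧ Q p = 0 ∧ ∃ a ∈ W, a ≠ 0 ∧ RootMem M p a := by
    intro q hq hq0 hqq huq c hc h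
    refine ⟨q, hq, hq0, hqq, -(c • ws), W.neg_mem (W.smul_mem _ hws),
      neg_ne_zero.2 (smul_ne_zero hc hws0), ?_⟩
    have h1 := h.swap hs (by rw [QuadraticMap.map_smul, hqq, smul_zero])
    rw [rootMem_smul_left] at h1
    have hcu : 𝔅 q (c • us) = 0 := by
      rw [QuadraticMap.polar_smul_right, QuadraticMap.polar_comm, huq, smul_zero]
    have e1 : 𝔅 q (c • -s) = 0 := by
      rw [QuadraticMap.polar_smul_right, QuadraticMap.polar_neg_right, QuadraticMap.polar_comm (⇑Q) q,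
        hsU hq, huq, neg_zero, smul_zero]
    have h2 := h1.add hqq e1 hcu (hinU hqq hq (U.smul_mem _ hus) hcu)
    rwa [show c • -s + c • us = -(c • ws) by rw [← hsum, smul_neg, smul_add]; abel] at h2
  -- the twice moved translation vector
  have qtrick : ∀ q ∈ U, Q q = 0 → 𝔅 us q = 0 → 𝔅 q uw ≠ 0 →
      (Q us ≠ 0 ∨ us ∈ Submodule.span F {q}) →
      ∃ p ∈ U, p ≠ 0 ∧ Q p = 0 ∧ ∃ a ∈ W, a ≠ 0 ∧ RootMem M p a := by
    intro q hq hqq huq hquw hor
    obtain ⟨w₀, hw₀, hw₀q, hqw₀, huw₀⟩ := hUn.exists_nonsingular_perp h2 hQ hd hq hus huq hor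
    set k := eichIso Q q w₀ hqq hqw₀ with hk
    have hkM : k ∈ M := (hinU hqq hq hw₀ hqw₀).iso hqq hqw₀
    have hks : mat Q k *ᵥ s = s := by
      rw [hk, mat_eichIso, eich_mulVec, QuadraticMap.polar_comm (⇑Q) q s, hsU hq, huq,
        QuadraticMap.polar_comm (⇑Q) w₀ s, hsU hw₀, huw₀]
      simp
    obtain ⟨e1, hr1⟩ := hy.conj_sub hs hsw hkM hks
    obtain ⟨-, hr2⟩ := hr1.conj_sub hs e1 hkM hks
    have heq : mat Q k *ᵥ (mat Q k *ᵥ w - w) - (mat Q k *ᵥ w - w) =
        (-2 * Q w₀ * 𝔅 q uw) • q := by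
      have hqw : 𝔅 q w = 𝔅 q uw := by rw [QuadraticMap.polar_comm, hwU hq, QuadraticMap.polar_comm]
      simp only [hk, mat_eichIso, eich_mulVec, QuadraticMap.polar_add_right,
        QuadraticMap.polar_sub_right, QuadraticMap.polar_smul_right, QuadraticMap.polar_self, hqq,
        hqw₀, QuadraticMap.polar_comm (⇑Q) w₀ q, hqw, smul_eq_mul]
      module
    rw [heq] at hr2
    exact trick q hq (fun h0 => hquw (by rw [h0, QuadraticMap.polar_zero_left])) hqq huq _
      (mul_ne_zero (mul_ne_zero (neg_ne_zero.2 h2) hw₀q) hquw) hr2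
  by_cases hus0 : us = 0
  · have huw0 : uw ≠ 0 := fun h0 => hmove (by
      have hsW' : s ∈ W := by rw [← hsum, hus0, add_zero]; exact hws
      have hwW : w ∈ W := by rw [← hwsum, h0, add_zero]; exact hww
      rw [eich_mulVec, hperp hsW' hv₁, hperp hwW hv₁]
      simpa using hv₁)
    obtain ⟨q, hq, hqq, hquw⟩ := hUn.exists_sing_pairing hQ hd huw huw0
    exact qtrick q hq hqq (by rw [hus0, QuadraticMap.polar_zero_left]) hquw
      (Or.inr (by rw [hus0]; exact Submodule.zero_mem _))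
  by_cases hdep : uw ∈ Submodule.span F {us}
  · -- translation vector in `W` modulo `s`
    obtain ⟨k, hkuw⟩ := Submodule.mem_span_singleton.1 hdep
    set w' := ww - k • ws with hw'
    have hw'W : w' ∈ W := W.sub_mem hww (W.smul_mem _ hws)
    have hw's : w - k • s = w' := by rw [hw', ← hsum, ← hwsum, ← hkuw, smul_add]; abel
    have heich : eich Q s w' = eich Q s w := by rw [← hw's, eich_sub_smul hs hsw]
    have hy' : RootMem M s w' := fun g hg => hy g (hg.trans heich)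
    have hw'0 : w' ≠ 0 := fun h0 => hmove (by
      rw [← heich, h0, eich_zero, one_mulVec]; exact hv₁)
    have hsw' : 𝔅 s w' = 0 := by
      rw [← hw's, QuadraticMap.polar_sub_right, QuadraticMap.polar_smul_right, hsw,
        QuadraticMap.polar_self, hs, smul_zero, smul_zero, sub_zero]
    have hwsw' : 𝔅 ws w' = 0 := by rw [← hsW hw'W, hsw']
    by_cases hqus : Q us = 0
    · have hqws : Q ws = 0 := by simpa [hqus] using hQs
      have hdone : ∀ c : F, c ≠ 0 → RootMem M s (c • ws) →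
          ∃ p ∈ U, p ≠ 0 ∧ Q p = 0 ∧ ∃ a ∈ W, a ≠ 0 ∧ RootMem M p a := by
        intro c hc h
        refine trick us hus hus0 hqus (by rw [QuadraticMap.polar_self, hqus, smul_zero]) (-c)
          (neg_ne_zero.2 hc) fun g hg => h g (hg.trans ?_)
        rw [← eich_sub_smul hs (k := c) (w := c • ws) (by
          rw [QuadraticMap.polar_smul_right, hsW hws, QuadraticMap.polar_self, hqws, smul_zero,
            smul_zero])]
        congr 1
        rw [← hsum, smul_add, neg_smul]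
        abel
      by_cases hw'ws : w' ∈ Submodule.span F {ws}
      · obtain ⟨c, hc⟩ := Submodule.mem_span_singleton.1 hw'ws
        exact hdone c (fun h0 => hw'0 (by rw [← hc, h0, zero_smul])) (hc ▸ hy')
      obtain ⟨t, ht, hwst, htw⟩ : ∃ t ∈ W, 𝔅 ws t = 0 ∧ 𝔅 t w' ≠ 0 := by
        by_contra! hall
        exact hw'ws (hW.mem_span_of_perp hws hw'W hall)
      set k := eichIso Q ws t hqws hwst with hk
      have hks : mat Q k *ᵥ s = s := by
        rw [hk, mat_eichIso, eich_mulVec, QuadraticMap.polar_comm (⇑Q) ws s, hsW hws,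
          QuadraticMap.polar_self, hqws, QuadraticMap.polar_comm (⇑Q) t s, hsW ht, hwst]
        simp
      obtain ⟨-, hr⟩ := hy'.conj_sub hs hsw' ((hinW hqws hws ht hwst).iso hqws hwst) hks
      rw [mat_eichIso, eich_mulVec, hwsw'] at hr
      refine hdone (-𝔅 t w') (neg_ne_zero.2 htw) ?_
      simpa using hr
    · obtain ⟨p, ⟨hpU, hpus⟩, hp0, hpq⟩ := exists_singular hQ (U ⊓ qperp Q (Submodule.span F {us}))
        (by have := finrank_le_inf_qperp_add_one hQ U us; omega)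
      rw [SetLike.mem_coe, mem_qperp_singleton] at hpus
      obtain ⟨v, hv, hpv, hvus⟩ : ∃ v ∈ U, 𝔅 p v = 0 ∧ 𝔅 v us ≠ 0 := by
        by_contra! hall
        obtain ⟨c, hc⟩ := Submodule.mem_span_singleton.1 (hUn.mem_span_of_perp hpU hus hall)
        exact hqus (by rw [← hc, QuadraticMap.map_smul, hpq, smul_zero])
      set y := eichIso Q s w' hs hsw' with hydef
      have hyp : mat Q y *ᵥ p = p := by
        rw [hydef, mat_eichIso, eich_mulVec, hsU hpU, hpus, hperp hw'W hpU]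
        simp
      have hr := (hinU hpq hpU hv hpv).conj (hy'.iso hs hsw')
      rw [← hydef, hyp, hydef, mat_eichIso, eich_mulVec, hsU hv, hperp hw'W hv, zero_smul,
        sub_zero] at hr
      set β := 𝔅 us v with hβ
      set a₀ := w' - Q w' • ws with ha₀
      have hβ0 : β ≠ 0 := by rw [hβ, QuadraticMap.polar_comm]; exact hvus
      have ha₀0 : a₀ ≠ 0 := fun h0 => by
        rw [ha₀, sub_eq_zero] at h0
        have e1 := hwsw'
        rw [h0, QuadraticMap.polar_smul_right, QuadraticMap.polar_self, nsmul_eq_mul, Nat.cast_ofNat,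
          smul_eq_mul] at e1
        have hqws : Q ws ≠ 0 := fun e => hqus (by simpa [e] using hQs)
        rcases mul_eq_zero.1 e1 with e | e
        · exact hw'0 (by rw [h0, e, zero_smul])
        · exact mul_ne_zero h2 hqws e
      refine ⟨p, hpU, hp0, hpq, β • a₀, W.smul_mem _ (W.sub_mem hw'W (W.smul_mem _ hws)),
        smul_ne_zero hβ0 ha₀0, ?_⟩
      set u₁ := v - (Q w' * β) • us
      have hu₁ : 𝔅 p u₁ = 0 := by
        rw [QuadraticMap.polar_sub_right, QuadraticMap.polar_smul_right, hpv,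
          QuadraticMap.polar_comm (⇑Q) p us, hpus, smul_zero, sub_zero]
      have hu₁U : u₁ ∈ U := U.sub_mem hv (U.smul_mem _ hus)
      have hβa : 𝔅 p (β • a₀) = 0 :=
        hperp' (W.smul_mem _ (W.sub_mem hw'W (W.smul_mem _ hws))) hpU
      have htot : v + (β • w' - (Q w' * β) • s) = β • a₀ + u₁ := by
        rw [ha₀, ← hsum]
        module
      rw [htot] at hr
      have h3 := hr.add hpq (by rw [QuadraticMap.polar_add_right, hβa, hu₁, add_zero])
        (w' := -u₁) (by rw [QuadraticMap.polar_neg_right, hu₁, neg_zero])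
        ((hinU hpq hpU hu₁U hu₁).neg hpq hu₁)
      rwa [add_neg_cancel_right] at h3
  by_cases hqus : Q us = 0
  · by_cases huu : 𝔅 us uw = 0
    · obtain ⟨t, ht, hust, htw⟩ : ∃ t ∈ U, 𝔅 us t = 0 ∧ 𝔅 t uw ≠ 0 := by
        by_contra! hall
        exact hdep (hUn.mem_span_of_perp hus huw hall)
      set k := eichIso Q us t hqus hust with hk
      have hks : mat Q k *ᵥ s = s := by
        rw [hk, mat_eichIso, eich_mulVec, QuadraticMap.polar_comm (⇑Q) us s, hsU hus,
          QuadraticMap.polar_self, hqus, QuadraticMap.polar_comm (⇑Q) t s, hsU ht, hust]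
        simp
      obtain ⟨-, hr⟩ := hy.conj_sub hs hsw ((hinU hqus hus ht hust).iso hqus hust) hks
      rw [mat_eichIso, eich_mulVec, QuadraticMap.polar_comm (⇑Q) us w, hwU hus,
        QuadraticMap.polar_comm (⇑Q) uw us, huu, QuadraticMap.polar_comm (⇑Q) t w, hwU ht] at hr
      refine trick us hus hus0 hqus (by rw [QuadraticMap.polar_self, hqus, smul_zero]) (-𝔅 uw t)
        (neg_ne_zero.2 (by rwa [QuadraticMap.polar_comm])) ?_
      simpa using hr
    · exact qtrick us hus hqus (by rw [QuadraticMap.polar_self, hqus, smul_zero]) huu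
        (Or.inr (Submodule.mem_span_singleton_self us))
  · obtain ⟨q, hq, hqq, huq, hquw⟩ := hUn.exists_sing_pairing_of_isotropic hQ hd hus huw hdep
      (Or.inl hqus)
    exact qtrick q hq hqq huq hquw (Or.inl hqus)

/-- Maximality of the stabiliser of a nondegenerate subspace, odd characteristic, small complement. -/
theorem isMaximalIn_nd_small (h2 : (2 : F) ≠ 0) (hQ : (QuadraticMap.polarBilin Q).Nondegenerate)
    (hn5 : 5 ≤ Fintype.card ι) (hW : Nd Q W) (hW0 : W ≠ ⊥)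
    (hd : 4 ≤ finrank F (qperp Q W)) (hle : finrank F W ≤ finrank F (qperp Q W))
    (hswap : ∀ g ∈ Cfsg.Omega F ⇑Q, gmap g (qperp Q W) ≠ W)
    (hex : ¬(Fintype.card F ≤ 3 ∧ finrank F W = 2 ∧ ∃ s ∈ W, s ≠ 0 ∧ Q s = 0)) :
    IsMaximalIn (omegaGL ⇑Q) (subspaceStabilizer W ⊓ omegaGL ⇑Q) := by
  set U := qperp Q W with hUdef
  have hUn : Nd Q U := hW.qperp' hQ
  have hperp : ∀ {w u : ι → F}, w ∈ W → u ∈ U → 𝔅 w u = 0 := fun hw hu => mem_qperp.1 hu _ hw
  have hperp' : ∀ {w u : ι → F}, w ∈ W → u ∈ U → 𝔅 u w = 0 := fun hw hu => by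
    rw [QuadraticMap.polar_comm]; exact hperp hw hu
  obtain ⟨w₀, hw₀, hw₀0⟩ := Submodule.exists_mem_ne_zero_of_ne_bot hW0
  refine isMaximalIn_omega _ ?_ fun M hM g hgM hgΩ hgS => ?_
  · obtain ⟨p, hp, hp0, hpq⟩ := exists_singular hQ U (by omega)
    obtain ⟨x, hx, hwx⟩ := hW.exists_polar_one hw₀ hw₀0
    have hpw := hperp' hw₀ hp
    refine ⟨eichIso Q p w₀ hpq hpw, eich_mem_omega hQ hn5 hpq hpw, fun hs => hp0 ?_⟩
    have h := (MaxSub.mem_subspaceStabilizer_iff.1 hs x).1 hx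
    change mat Q (eichIso Q p w₀ hpq hpw) *ᵥ x ∈ W at h
    rw [mat_eichIso, eich_mulVec, hperp' hx hp, hwx] at h
    simp only [zero_smul, one_smul, mul_zero, sub_zero, zero_sub, W.add_mem_iff_right hx, neg_mem_iff] at h
    exact (Submodule.eq_bot_iff _).1 hW.inf_qperp p ⟨h, hp⟩
  have hMW : ∀ k : Isom Q, k ∈ Cfsg.Omega F ⇑Q → (∀ x ∈ W, mat Q k *ᵥ x ∈ W) → k ∈ M :=
    fun k hk h => hM k hk (mem_stab_of_le h)
  -- Eichler elements inside either summand
  have hinU : ∀ {u w : ι → F}, Q u = 0 → u ∈ U → w ∈ U → 𝔅 u w = 0 → RootMem M u w := by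
    intro u w huq hu hw huw
    refine RootMem.of_iso huq huw (hMW _ (eich_mem_omega hQ hn5 huq huw) fun x hx => ?_)
    rw [mat_eichIso, eich_mulVec, hperp' hx hu, hperp' hx hw]
    simpa using hx
  have hinW : ∀ {u w : ι → F}, Q u = 0 → u ∈ W → w ∈ W → 𝔅 u w = 0 → RootMem M u w := by
    intro u w huq hu hw huw
    refine RootMem.of_iso huq huw (hMW _ (eich_mem_omega hQ hn5 huq huw) fun x hx => ?_)
    rw [mat_eichIso, eich_mulVec]
    exact W.add_mem hx (W.sub_mem (W.sub_mem (W.smul_mem _ hw) (W.smul_mem _ hu)) (W.smul_mem _ hu))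
  -- a root element moving `U`
  obtain ⟨u₁, hu₁, w₁, hw₁, hu₁q, huw₁, v₁, hv₁, hmv⟩ : ∃ u ∈ U, ∃ w ∈ U, Q u = 0 ∧ 𝔅 u w = 0 ∧
      ∃ v ∈ U, eich Q (mat Q g *ᵥ u) (mat Q g *ᵥ w) *ᵥ v ∉ U := by
    by_contra! hall
    set X := gmap g⁻¹ U with hX
    have hginv : ∀ z, mat Q g⁻¹ *ᵥ (mat Q g *ᵥ z) = z := fun z => by
      rw [mulVec_mulVec, ← mat_mul, inv_mul_cancel, mat_one, one_mulVec]
    have hgg : ∀ z, mat Q g *ᵥ (mat Q g⁻¹ *ᵥ z) = z := fun z => by
      rw [mulVec_mulVec, ← mat_mul, mul_inv_cancel, mat_one, one_mulVec]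
    have hmemX : ∀ {x}, x ∈ X ↔ mat Q g *ᵥ x ∈ U := fun {x} =>
      ⟨fun ⟨z, hz, hzx⟩ => by rw [← hzx, mulVecLin_apply, hgg]; exact hz,
        fun h => ⟨_, h, by rw [mulVecLin_apply, hginv]⟩⟩
    have hXinv : ∀ u ∈ U, ∀ w ∈ U, Q u = 0 → 𝔅 u w = 0 → ∀ x ∈ X, eich Q u w *ᵥ x ∈ X := by
      intro u hu w hw huq huw x hx
      rw [hmemX, mulVec_mulVec, conj_eich, ← mulVec_mulVec]
      exact hall u hu w hw huq huw _ (hmemX.1 hx)
    have hpull : ∀ x ∈ X, ∀ u ∈ U, Q u = 0 → 𝔅 u x ≠ 0 → u ∈ X := by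
      intro x hx u hu huq hux
      obtain ⟨t, ht, htq, hut, -⟩ := hUn.exists_nonsingular_perp h2 hQ hd hu (d := 0) U.zero_mem
        (QuadraticMap.polar_zero_left Q u) (Or.inr (Submodule.zero_mem _))
      have h1 := X.sub_mem (hXinv u hu t ht huq hut x hx) hx
      have h3 := X.sub_mem (hXinv u hu t ht huq hut _ h1) h1
      rw [show eich Q u t *ᵥ (eich Q u t *ᵥ x - x) - (eich Q u t *ᵥ x - x) =
          (-2 * Q t * 𝔅 u x) • u by
        simp only [eich_mulVec, QuadraticMap.polar_add_right,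
          QuadraticMap.polar_sub_right, QuadraticMap.polar_smul_right, QuadraticMap.polar_self, huq,
          hut, QuadraticMap.polar_comm (⇑Q) t u, smul_eq_mul]
        module] at h3
      exact (X.smul_mem_iff (mul_ne_zero (mul_ne_zero (neg_ne_zero.2 h2) htq) hux)).1 h3
    by_cases hXW : X ≤ W
    · refine hswap g⁻¹ (inv_mem hgΩ) (Submodule.eq_of_le_of_finrank_le hXW ?_)
      rw [finrank_gmap]; exact hle
    obtain ⟨x, hx, hxW⟩ := SetLike.not_le_iff_exists.1 hXW
    obtain ⟨wx, hwx, ux, hux, hxsum⟩ := hW.exists_decomp hQ x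
    have hux0 : ux ≠ 0 := fun h0 => hxW (by rw [← hxsum, h0, add_zero]; exact hwx)
    obtain ⟨u, hu, huq, huux⟩ := hUn.exists_sing_pairing hQ hd hux hux0
    have huX : u ∈ X := hpull x hx u hu huq (by
      rw [← hxsum, QuadraticMap.polar_add_right, hperp' hwx hu, zero_add]; exact huux)
    have hu0 : u ≠ 0 := fun h0 => huux (by rw [h0, QuadraticMap.polar_zero_left])
    have hsing : ∀ v ∈ U, Q v = 0 → v ∈ X := by
      intro v hv hvq
      by_cases hvu : v ∈ Submodule.span F {u}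
      · exact (Submodule.span_singleton_le_iff_mem u X).2 huX hvu
      obtain ⟨z, hz, hzq, hzu, hzv⟩ := hUn.exists_sing_equal_pairing hQ hd hu hv huq hvq hu0 hvu
      have hzX := hpull u huX z hz hzq hzu
      exact hpull z hzX v hv hvq (by rw [QuadraticMap.polar_comm, hzv]; exact hzu)
    have hUX : U ≤ X := by
      intro t ht
      rcases eq_or_ne t 0 with rfl | ht0
      · exact X.zero_mem
      obtain ⟨z, hz, hzq, hzt⟩ := hUn.exists_sing_pairing hQ hd ht ht0
      have h1 : 𝔅 t z ≠ 0 := by rwa [QuadraticMap.polar_comm]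
      have h3 := X.add_mem (hsing _ (U.sub_mem ht (U.smul_mem _ hz)) (quad_sub_smul hzq h1))
        (X.smul_mem (Q t / 𝔅 t z) (hsing z hz hzq))
      rwa [sub_add_cancel] at h3
    have hXU : X = U := (Submodule.eq_of_le_of_finrank_le hUX (by rw [finrank_gmap])).symm
    refine hgS (mem_stab_of_le fun x hx => ?_)
    rw [← qperp_qperp hQ W, ← hUdef, mem_qperp]
    intro z hz
    obtain ⟨z', hz', rfl⟩ : ∃ z' ∈ U, mat Q g *ᵥ z' = z := by
      refine ⟨mat Q g⁻¹ *ᵥ z, ?_, hgg z⟩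
      rw [← hXU, hmemX, hgg]
      exact hz
    rw [polar_mulVec]
    exact hperp' hx hz'
  obtain ⟨p, hp, hp0, hpq, a, ha, ha0, hpa⟩ := exists_mixed_root h2 hQ hW hUdef hd hinU hinW
    (s := mat Q g *ᵥ u₁) (w := mat Q g *ᵥ w₁) (by rw [quad_mulVec, hu₁q])
    (by rw [polar_mulVec, huw₁]) ((hinU hu₁q hu₁ hw₁ huw₁).conj hgM) hv₁ hmv
  -- spreading over the singular vectors of `U`
  have hmove : ∀ {a p v : ι → F}, a ∈ W → p ∈ U → v ∈ U → Q p = 0 → Q v = 0 → p ≠ 0 →
      v ∉ Submodule.span F {p} → RootMem M p a → RootMem M v a := by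
    intro a p v ha hp hv hpq hvq hp0 hvn h
    obtain ⟨z, hz, hzq, hzp, hzeq⟩ := hUn.exists_sing_equal_pairing hQ hd hp hv hpq hvq hp0 hvn
    obtain ⟨hzw, hkv⟩ := eich_move hzq hpq hvq hzp hzeq
    have hw : (𝔅 z p)⁻¹ • (v - p) ∈ U := U.smul_mem _ (U.sub_mem hv hp)
    have := h.conj ((hinU hzq hz hw hzw).iso hzq hzw)
    rw [mat_eichIso, hkv, eich_mulVec, hperp' ha hz, hperp' ha hw] at this
    simpa using this
  let A : Submodule F (ι → F) :=
    { carrier := {a | a ∈ W ∧ ∀ v ∈ U, Q v = 0 → RootMem M v a}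
      zero_mem' := ⟨W.zero_mem, fun _ _ _ => RootMem.zero⟩
      add_mem' := fun {a a'} ha ha' => ⟨W.add_mem ha.1 ha'.1, fun v hv hvq =>
        (ha.2 v hv hvq).add hvq (hperp' ha.1 hv) (hperp' ha'.1 hv) (ha'.2 v hv hvq)⟩
      smul_mem' := fun e a ha => ⟨W.smul_mem _ ha.1, fun v hv hvq =>
        (rootMem_smul_left e).1 (ha.2 _ (U.smul_mem _ hv) (by rw [QuadraticMap.map_smul, hvq, smul_zero]))⟩ }
  have haA : a ∈ A := by
    have hmem : a ∈ W := ha
    refine ⟨hmem, fun v hv hvq => ?_⟩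
    rcases eq_or_ne v 0 with rfl | hv0
    · rw [← zero_smul F p, rootMem_smul_left, zero_smul]
      exact RootMem.zero
    obtain ⟨v', hv', hv'n, hv'q⟩ := exists_singular_notMem hQ (K := U) (M := Submodule.span F {p}) (by
      have h1 := Submodule.finrank_mono (inf_le_right : U ⊓ Submodule.span F {p} ≤ _)
      rw [finrank_span_singleton hp0] at h1
      omega)
    by_cases hvn : v ∈ Submodule.span F {p}
    · have hv'0 : v' ≠ 0 := fun h => hv'n (h ▸ Submodule.zero_mem _)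
      refine hmove hmem hv' hv hv'q hvq hv'0 (fun h => ?_) (hmove hmem hp hv' hpq hv'q hp0 hv'n hpa)
      obtain ⟨e, rfl⟩ := Submodule.mem_span_singleton.1 h
      exact hv'n ((Submodule.smul_mem_iff _ (left_ne_zero_of_smul hv0)).1 hvn)
    · exact hmove hmem hp hv hpq hvq hp0 hvn hpa
  have hconj : ∀ k : Isom Q, k ∈ M → (∀ x ∈ W, mat Q k *ᵥ x ∈ W) → ∀ a ∈ A, mat Q k *ᵥ a ∈ A := by
    intro k hk hkW a ha
    refine ⟨hkW a ha.1, fun v hv hvq => ?_⟩
    rw [hUdef, ← gmap_qperp hQ (gmap_eq_of_le k hkW)] at hv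
    obtain ⟨v₀, hv₀, rfl⟩ := hv
    rw [mulVecLin_apply, quad_mulVec] at hvq
    exact (ha.2 v₀ hv₀ hvq).conj hk
  have hrefl : ∀ v ∈ W, Q v ≠ 0 → v ∉ A → ∀ a ∈ A, 𝔅 v a = 0 := by
    intro v hv hvq hvA a ha
    by_contra hva
    obtain ⟨u, hu, huv⟩ := exists_value_mem hUn.inf_qperp (by omega) (Q v) hvq
    have huq : Q u ≠ 0 := by rw [huv]; exact hvq
    have happly : ∀ x ∈ W, mat Q (reflIso Q v hvq * reflIso Q u huq) *ᵥ x =
        x - ((Q v)⁻¹ * 𝔅 v x) • v := fun x hx => by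
      rw [mat_mul, ← mulVec_mulVec, mat_reflIso_mulVec, mat_reflIso_mulVec,
        show refl Q u x = x by rw [refl_apply, hperp' hx hu, mul_zero, zero_smul, sub_zero], refl_apply]
    have hstab : ∀ x ∈ W, mat Q (reflIso Q v hvq * reflIso Q u huq) *ᵥ x ∈ W := fun x hx => by
      rw [happly x hx]; exact W.sub_mem hx (W.smul_mem _ hv)
    have hk : reflIso Q v hvq * reflIso Q u huq ∈ M := by
      refine hMW _ ((mem_omega_iff_even hQ (Or.inr (by omega))
        ((IsReflProd.reflIso v hvq).mul (IsReflProd.reflIso u huq))).2 ⟨by simp, ?_⟩) hstab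
      exact ⟨Q v, by simp [huv]⟩
    have h := hconj _ hk hstab a ha
    rw [happly a ha.1] at h
    have h' := A.sub_mem ha h
    rw [sub_sub_cancel] at h'
    exact hvA ((A.smul_mem_iff (mul_ne_zero (inv_ne_zero hvq) hva)).1 h')
  have heich : ∀ s ∈ W, ∀ s' ∈ W, ∀ a ∈ A, Q s = 0 → Q s' = 0 → 𝔅 s s' = 0 →
      eich Q s s' *ᵥ a ∈ A := by
    intro s hs s' hs' a ha hsq hs'q hss'
    have hstab : ∀ x ∈ W, mat Q (eichIso Q s s' hsq hss') *ᵥ x ∈ W := fun x hx => by
      rw [mat_eichIso, eich_mulVec]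
      exact W.add_mem hx (W.sub_mem (W.sub_mem (W.smul_mem _ hs') (W.smul_mem _ hs)) (W.smul_mem _ hs))
    exact hconj _ (hMW _ (eich_mem_omega hQ hn5 hsq hss') hstab) hstab a ha
  have hAW : A = W := eq_of_refl_invariant hW (fun a ha => ha.1) (fun h => ha0 (by
    rw [← Submodule.mem_bot F, ← h]; exact haA)) hrefl heich hex
  -- every singular point of `U` is full
  have hfull : ∀ v ∈ U, Q v = 0 → Full M v := by
    intro v hv hvq w hvw
    obtain ⟨a, ha, u, hu, rfl⟩ := hW.exists_decomp hQ w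
    have hva := hperp' ha hv
    have hvu : 𝔅 v u = 0 := by rwa [QuadraticMap.polar_add_right, hva, zero_add] at hvw
    rw [← hAW] at ha
    exact (ha.2 v hv hvq).add hvq hva hvu (hinU hvq hv hu hvu)
  obtain ⟨v, hv, hv0, hvq⟩ := exists_singular hQ U (by omega)
  obtain ⟨v', hv', hv'q, hvv'⟩ := exists_partner_in hv hvq (by
    obtain ⟨x, hx, hvx⟩ := hUn.exists_polar_one hv hv0
    exact ⟨x, hx, by rw [hvx]; exact one_ne_zero⟩)
  exact omega_le_of_full_pair hQ hn5 hvq hv'q (by rw [hvv']; exact one_ne_zero) (hfull v hv hvq)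
    (hfull v' hv' hv'q)

end CfsgLib.OrthMax
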