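import Cfsg.Agent.OrthMax.NondegenerateSmall
import Cfsg.Agent.OrthMax.NondegenerateWrap
import Cfsg.Agent.LinearElements.QuadType

/-!
# Stabilisers of nondegenerate four-subspaces with an inequivalent complement, characteristic two

`isMaximalIn_nd_four`: maximality for `W` without totally singular line whose complement has one.
-/

set_option autoImplicit false
set_option linter.unusedSectionVars false
set_option maxHeartbeats 400000

namespace CfsgLib.OrthMax

open Matrix Module CfsgLib.Spinor CfsgLib.Forms CfsgLib.Forms4 Cfsg.Geo CfsgLib.OmegaOrbits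

variable {F : Type*} [Field F] {ι : Type} [Fintype ι] [DecidableEq ι] {Q : QuadraticForm F (ι → F)}
variable {W U : Submodule F (ι → F)} {M : Subgroup (Isom Q)}

set_option quotPrecheck false in
local notation "𝔅" => QuadraticMap.polar (⇑Q)

/-- In a subspace with a totally singular line every singular point lies on one. -/
theorem exists_line_partner {a b s : ι → F} (ha : a ∈ U) (hb : b ∈ U) (ha0 : a ≠ 0)
    (hba : b ∉ Submodule.span F {a}) (haq : Q a = 0) (hbq : Q b = 0) (hab : 𝔅 a b = 0)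
    (hs0 : s ≠ 0) :
    ∃ r ∈ U, Q r = 0 ∧ 𝔅 s r = 0 ∧ r ∉ Submodule.span F {s} := by
  by_cases hsa : s ∈ Submodule.span F {a}
  · obtain ⟨c, rfl⟩ := Submodule.mem_span_singleton.1 hsa
    refine ⟨b, hb, hbq, by rw [QuadraticMap.polar_smul_left, hab, smul_zero], fun h => hba ?_⟩
    obtain ⟨d, rfl⟩ := Submodule.mem_span_singleton.1 h
    exact Submodule.mem_span_singleton.2 ⟨d * c, by rw [mul_smul]⟩
  by_cases hsb : 𝔅 s a = 0
  · refine ⟨a, ha, haq, hsb, fun h => hsa ?_⟩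
    obtain ⟨d, hd⟩ := Submodule.mem_span_singleton.1 h
    have hd0 : d ≠ 0 := fun e => ha0 (by rw [← hd, e, zero_smul])
    exact Submodule.mem_span_singleton.2 ⟨d⁻¹, by rw [← hd, inv_smul_smul₀ hd0]⟩
  refine ⟨𝔅 s a • b - 𝔅 s b • a, U.sub_mem (U.smul_mem _ hb) (U.smul_mem _ ha), ?_, ?_, fun h => ?_⟩
  · rw [sub_eq_add_neg, ← neg_smul, QuadraticMap.map_add (⇑Q), QuadraticMap.map_smul,
      QuadraticMap.map_smul, haq, hbq, QuadraticMap.polar_smul_right, QuadraticMap.polar_smul_left,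
      QuadraticMap.polar_comm (⇑Q) b a, hab]
    simp
  · rw [QuadraticMap.polar_sub_right, QuadraticMap.polar_smul_right, QuadraticMap.polar_smul_right,
      smul_eq_mul, smul_eq_mul]
    ring
  · obtain ⟨d, hd⟩ := Submodule.mem_span_singleton.1 h
    have h1 : d * 𝔅 s a = 0 := by
      have := congrArg (fun z => 𝔅 z a) hd
      simp only [QuadraticMap.polar_smul_left, QuadraticMap.polar_sub_left, QuadraticMap.polar_self, haq,
        QuadraticMap.polar_comm (⇑Q) b a, hab, smul_eq_mul] at this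
      linear_combination this
    rw [(mul_eq_zero.1 h1).resolve_right hsb, zero_smul] at hd
    refine hba (Submodule.mem_span_singleton.2 ⟨(𝔅 s a)⁻¹ * 𝔅 s b, ?_⟩)
    rw [mul_smul, ← sub_eq_zero.1 hd.symm, inv_smul_smul₀ hsb]

variable [Fintype F]

/-- A root element at `u + w` along a singular `x` orthogonal to `u`, seen as one joining `x` to `w`. -/
theorem RootMem.of_swap {u w x : ι → F} (hs : Q (w + u) = 0) (hx : Q x = 0)
    (hxu : 𝔅 x u = 0) (hxw : 𝔅 x w = 0) (hu : RootMem M x u) (h : RootMem M (w + u) x) :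
    RootMem M x (-w) := by
  have h1 := h.swap hs hx
  have e : 𝔅 x (-(w + u)) = 0 := by
    rw [QuadraticMap.polar_neg_right, QuadraticMap.polar_add_right, hxu, hxw, add_zero, neg_zero]
  have := h1.add hx e hxu hu
  rwa [show -(w + u) + u = -w by abel] at this

/-- A root element joining a singular point of `W` to `U`, turned round. -/
theorem mixed_of_mirror (hQ : (QuadraticMap.polarBilin Q).Nondegenerate) (hUn : Nd Q U)
    (hd : 4 ≤ finrank F U) (hperp : ∀ {w u : ι → F}, w ∈ W → u ∈ U → 𝔅 u w = 0)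
    (hinU : ∀ {u w : ι → F}, Q u = 0 → u ∈ U → w ∈ U → 𝔅 u w = 0 → RootMem M u w)
    {a₀ b₀ : ι → F} (ha₀ : a₀ ∈ U) (hb₀ : b₀ ∈ U) (ha₀0 : a₀ ≠ 0) (hba₀ : b₀ ∉ Submodule.span F {a₀})
    (ha₀q : Q a₀ = 0) (hb₀q : Q b₀ = 0) (hab₀ : 𝔅 a₀ b₀ = 0)
    {q a : ι → F} (hq : q ∈ W) (hq0 : q ≠ 0) (hqq : Q q = 0) (ha : a ∈ U) (ha0 : a ≠ 0)
    (h : RootMem M q a) : ∃ p ∈ U, p ≠ 0 ∧ Q p = 0 ∧ ∃ a ∈ W, a ≠ 0 ∧ RootMem M p a := by
  obtain ⟨p, hp, hpq, hpa⟩ := hUn.exists_sing_pairing hQ hd ha ha0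
  obtain ⟨z, hz, hzq, hpz, hzn⟩ := exists_line_partner (s := p) ha₀ hb₀ ha₀0 hba₀ ha₀q hb₀q hab₀
    (fun h0 => hpa (by rw [h0, QuadraticMap.polar_zero_left]))
  have hqa : 𝔅 q a = 0 := by rw [QuadraticMap.polar_comm]; exact hperp hq ha
  have hk : mat Q (eichIso Q p z hpq hpz) *ᵥ q = q := by
    rw [mat_eichIso, eich_mulVec, hperp hq hp, hperp hq hz]
    simp
  obtain ⟨hqx, hr⟩ := h.conj_sub hqq hqa ((hinU hpq hp hz hpz).iso hpq hpz) hk
  set x := mat Q (eichIso Q p z hpq hpz) *ᵥ a - a with hx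
  have hxe : x = 𝔅 p a • z - 𝔅 z a • p := by
    rw [hx, mat_eichIso, eich_mulVec, hzq]
    simp
  refine ⟨x, by rw [hxe]; exact U.sub_mem (U.smul_mem _ hz) (U.smul_mem _ hp), fun h0 => hzn ?_, ?_,
    -q, W.neg_mem hq, neg_ne_zero.2 hq0, hr.swap hqq ?_⟩
  · rw [hxe, sub_eq_zero] at h0
    exact Submodule.mem_span_singleton.2 ⟨(𝔅 p a)⁻¹ * 𝔅 z a, by
      rw [mul_smul, ← h0, inv_smul_smul₀ hpa]⟩
  all_goals
    rw [hxe, sub_eq_add_neg, ← neg_smul, QuadraticMap.map_add (⇑Q), QuadraticMap.map_smul,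
      QuadraticMap.map_smul, hzq, hpq, QuadraticMap.polar_smul_right, QuadraticMap.polar_smul_left,
      QuadraticMap.polar_comm (⇑Q) z p, hpz]
    simp

/-- A totally singular line across the two summands gives a root element joining them. -/
theorem exists_mixed_of_line (h2 : (2 : F) = 0) (hQ : (QuadraticMap.polarBilin Q).Nondegenerate)
    (hW : Nd Q W) (hUdef : U = qperp Q W) (hd : 4 ≤ finrank F U) (hdW : 4 ≤ finrank F W)
    (hline : ∃ a ∈ U, ∃ b ∈ U, a ≠ 0 ∧ b ∉ Submodule.span F {a} ∧ Q a = 0 ∧ Q b = 0 ∧ 𝔅 a b = 0)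
    (hno : ∀ a ∈ W, ∀ b ∈ W, a ≠ 0 → Q a = 0 → Q b = 0 → 𝔅 a b = 0 → b ∈ Submodule.span F {a})
    (hinU : ∀ {u w : ι → F}, Q u = 0 → u ∈ U → w ∈ U → 𝔅 u w = 0 → RootMem M u w)
    (hinW : ∀ {u w : ι → F}, Q u = 0 → u ∈ W → w ∈ W → 𝔅 u w = 0 → RootMem M u w)
    {L : Submodule F (ι → F)} (hLq : ∀ x ∈ L, Q x = 0) (hroot : ∀ x ∈ L, ∀ y ∈ L, RootMem M x y)
    {s r : ι → F} (hs : s ∈ L) (hr : r ∈ L) (hrs : r ∉ Submodule.span F {s}) (hsU : s ∉ U) :
    ∃ p ∈ U, p ≠ 0 ∧ Q p = 0 ∧ ∃ a ∈ W, a ≠ 0 ∧ RootMem M p a := by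
  haveI : CharP F 2 := CharTwo.of_one_ne_zero_of_two_eq_zero one_ne_zero h2
  obtain ⟨a₀, ha₀, b₀, hb₀, ha₀0, hba₀, ha₀q, hb₀q, hab₀⟩ := hline
  have hUn : Nd Q U := hUdef ▸ hW.qperp' hQ
  have hperp : ∀ {w u : ι → F}, w ∈ W → u ∈ U → 𝔅 u w = 0 := fun {w u} hw hu => by
    rw [QuadraticMap.polar_comm]; rw [hUdef] at hu; exact mem_qperp.1 hu _ hw
  have hperp' : ∀ {w u : ι → F}, w ∈ W → u ∈ U → 𝔅 w u = 0 := fun hw hu => by
    rw [QuadraticMap.polar_comm]; exact hperp hw hu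
  have hLperp : ∀ {x y}, x ∈ L → y ∈ L → 𝔅 x y = 0 := fun hx hy => polar_eq_zero hLq hx hy
  have hself : ∀ v : ι → F, 𝔅 v v = 0 := fun v => by rw [polar_self', h2, zero_mul]
  have mirror := @mixed_of_mirror F _ ι _ _ Q W U M _ hQ hUn hd hperp hinU a₀ b₀ ha₀ hb₀ ha₀0 hba₀
    ha₀q hb₀q hab₀
  -- decompositions
  have hsplit : ∀ x : ι → F, ∃ w ∈ W, ∃ u ∈ U, w + u = x := fun x => by
    obtain ⟨w, hw, u, hu, h⟩ := hW.exists_decomp hQ x
    exact ⟨w, hw, u, hUdef ▸ hu, h⟩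
  by_cases hmeet : ∃ x ∈ L, x ≠ 0 ∧ x ∈ U
  · obtain ⟨x, hx, hx0, hxU⟩ := hmeet
    obtain ⟨ws, hws, us, hus, hsum⟩ := hsplit s
    have hxu : 𝔅 x us = 0 := by
      have := hLperp hx hs
      rwa [← hsum, QuadraticMap.polar_add_right, hperp hws hxU, zero_add] at this
    refine ⟨x, hxU, hx0, hLq x hx, ws, hws, fun h0 => hsU (by rw [← hsum, h0, zero_add]; exact hus), ?_⟩
    have := (hroot x hx s hs).add (hLq x hx) (hLperp hx hs) (w' := -us)
      (by rw [QuadraticMap.polar_neg_right, hxu, neg_zero])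
      ((hinU (hLq x hx) hxU hus hxu).neg (hLq x hx) hxu)
    rwa [← hsum, add_neg_cancel_right] at this
  push Not at hmeet
  have hindep : ∀ x : ι → F, ∃ y ∈ L, y ∉ Submodule.span F {x} := fun x => by
    by_contra! hall
    obtain ⟨c, hc⟩ := Submodule.mem_span_singleton.1 (hall s hs)
    obtain ⟨d, hd⟩ := Submodule.mem_span_singleton.1 (hall r hr)
    have hc0 : c ≠ 0 := fun h0 => hsU (by rw [← hc, h0, zero_smul]; exact U.zero_mem)
    exact hrs (Submodule.mem_span_singleton.2 ⟨d * c⁻¹, by rw [← hc, ← hd, mul_smul, inv_smul_smul₀ hc0]⟩)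
  -- a point of the line whose first component is singular
  by_cases hzero : ∃ x ∈ L, x ≠ 0 ∧ ∃ w ∈ W, ∃ u ∈ U, w + u = x ∧ Q w = 0
  · obtain ⟨s, hs, hs0, ws, hws, us, hus, hsum, hqws⟩ := hzero
    obtain ⟨r, hr, hrs⟩ : ∃ r' ∈ L, r' ∉ Submodule.span F {s} := hindep s
    obtain ⟨wr, hwr, ur, hur, hrsum⟩ := hsplit r
    have hsq := hLq s hs
    have hws0 : ws ≠ 0 := fun h0 => hmeet s hs hs0 (by rw [← hsum, h0, zero_add]; exact hus)
    have hqus : Q us = 0 := by
      rw [← hsum, QuadraticMap.map_add (⇑Q), hqws, hperp' hws hus, add_zero, zero_add] at hsq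
      exact hsq
    have hbs : 𝔅 us ur + 𝔅 ws wr = 0 := by
      have := hLperp hs hr
      rw [← hsum, ← hrsum] at this
      simpa [QuadraticMap.polar_add_left, QuadraticMap.polar_add_right, hperp hwr hus, hperp' hws hur,
        add_comm] using this
    have hwrn : wr ∉ Submodule.span F {ws} := fun h => by
      obtain ⟨c, hc⟩ := Submodule.mem_span_singleton.1 h
      have hm : r - c • s ∈ U := by
        rw [← hrsum, ← hsum, ← hc, smul_add, show c • ws + ur - (c • ws + c • us) = ur - c • us by abel]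
        exact U.sub_mem hur (U.smul_mem _ hus)
      refine hrs (Submodule.mem_span_singleton.2 ⟨c, (sub_eq_zero.1 ?_).symm⟩)
      by_contra h0
      exact hmeet _ (L.sub_mem hr (L.smul_mem _ hs)) h0 hm
    have hsr := hLperp hs hr
    by_cases hus0 : us = 0
    · -- the point lies in `W`
      have hsW : s = ws := by rw [← hsum, hus0, add_zero]
      have hwsr : 𝔅 s wr = 0 := by
        rwa [← hrsum, QuadraticMap.polar_add_right, hsW, hperp' hws hur, add_zero, ← hsW] at hsr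
      have hur0 : ur ≠ 0 := fun h0 => hwrn (by
        have hrW : r = wr := by rw [← hrsum, h0, add_zero]
        exact hno ws hws wr hwr hws0 hqws (by rw [← hrW]; exact hLq r hr) (by rw [← hsW]; exact hwsr))
      refine mirror (q := s) (hsW ▸ hws) hs0 hsq hur hur0 ?_
      have := (hroot s hs r hr).add hsq hsr (w' := -wr)
        (by rw [QuadraticMap.polar_neg_right, hwsr, neg_zero])
        ((hinW hsq (hsW ▸ hws) hwr hwsr).neg hsq hwsr)
      rwa [← hrsum, show wr + ur + -wr = ur by abel] at this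
    by_cases hb : 𝔅 ws wr = 0
    · obtain ⟨z, hz, hwz, hzw⟩ : ∃ z ∈ W, 𝔅 ws z = 0 ∧ 𝔅 z wr ≠ 0 := by
        by_contra! hall
        exact hwrn (hW.mem_span_of_perp hws hwr hall)
      have hk : mat Q (eichIso Q ws z hqws hwz) *ᵥ s = s := by
        rw [mat_eichIso, eich_mulVec, ← hsum, QuadraticMap.polar_add_right, QuadraticMap.polar_add_right,
          hperp' hws hus, hperp' hz hus, hself, QuadraticMap.polar_comm (⇑Q) z ws, hwz]
        simp
      obtain ⟨-, h⟩ := (hroot s hs r hr).conj_sub hsq hsr ((hinW hqws hws hz hwz).iso hqws hwz) hk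
      rw [show mat Q (eichIso Q ws z hqws hwz) *ᵥ r - r = (-𝔅 z wr) • ws by
        rw [mat_eichIso, eich_mulVec, ← hrsum, QuadraticMap.polar_add_right,
          QuadraticMap.polar_add_right, hperp' hws hur, hperp' hz hur, hb]
        simp, ← hsum, add_comm ws us] at h
      set x := (-𝔅 z wr) • ws with hxdef
      have hxW : x ∈ W := W.smul_mem _ hws
      have hx0 : x ≠ 0 := smul_ne_zero (neg_ne_zero.2 hzw) hws0
      have hxq : Q x = 0 := by rw [hxdef, QuadraticMap.map_smul, hqws, smul_zero]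
      have hxws : 𝔅 x ws = 0 := by rw [hxdef, QuadraticMap.polar_smul_left, hself, smul_zero]
      exact mirror hxW hx0 hxq (U.neg_mem hus) (neg_ne_zero.2 hus0)
        (RootMem.of_swap (by rw [add_comm, hsum]; exact hsq) hxq hxws (hperp' hxW hus)
          (hinW hxq hxW hws hxws) h)
    · obtain ⟨z, hz, hzq, huz, hzn⟩ := exists_line_partner (s := us) ha₀ hb₀ ha₀0 hba₀ ha₀q hb₀q hab₀ hus0
      have hk : mat Q (eichIso Q us z hqus huz) *ᵥ s = s := by
        rw [mat_eichIso, eich_mulVec, ← hsum, QuadraticMap.polar_add_right, QuadraticMap.polar_add_right,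
          hperp hws hus, hperp hws hz, hself, QuadraticMap.polar_comm (⇑Q) z us, huz]
        simp
      obtain ⟨-, h⟩ := (hroot s hs r hr).conj_sub hsq hsr ((hinU hqus hus hz huz).iso hqus huz) hk
      rw [show mat Q (eichIso Q us z hqus huz) *ᵥ r - r = 𝔅 us ur • z - 𝔅 z ur • us by
        rw [mat_eichIso, eich_mulVec, ← hrsum, QuadraticMap.polar_add_right,
          QuadraticMap.polar_add_right, hperp hwr hus, hperp hwr hz, hzq]
        simp, ← hsum] at h
      set x := 𝔅 us ur • z - 𝔅 z ur • us with hxdef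
      have hxU : x ∈ U := U.sub_mem (U.smul_mem _ hz) (U.smul_mem _ hus)
      have hbu : 𝔅 us ur ≠ 0 := fun h0 => hb (by rwa [h0, zero_add] at hbs)
      have hxq : Q x = 0 := by
        rw [hxdef, sub_eq_add_neg, ← neg_smul, QuadraticMap.map_add (⇑Q), QuadraticMap.map_smul,
          QuadraticMap.map_smul, hzq, hqus, QuadraticMap.polar_smul_right, QuadraticMap.polar_smul_left,
          QuadraticMap.polar_comm (⇑Q) z us, huz]
        simp
      have hxus : 𝔅 x us = 0 := by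
        rw [hxdef, QuadraticMap.polar_sub_left, QuadraticMap.polar_smul_left, QuadraticMap.polar_smul_left,
          QuadraticMap.polar_comm (⇑Q) z us, huz, hself, smul_zero, smul_zero, sub_zero]
      refine ⟨x, hxU, fun h0 => hzn ?_, hxq, -ws, W.neg_mem hws, neg_ne_zero.2 hws0,
        RootMem.of_swap (by rw [hsum]; exact hsq) hxq hxus (hperp hws hxU) (hinU hxq hxU hus hxus) h⟩
      rw [hxdef, sub_eq_zero] at h0
      exact Submodule.mem_span_singleton.2 ⟨(𝔅 us ur)⁻¹ * 𝔅 z ur, by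
        rw [mul_smul, ← h0, inv_smul_smul₀ hbu]⟩
  push Not at hzero
  obtain ⟨ws, hws, us, hus, hsum⟩ := hsplit s
  obtain ⟨wr, hwr, ur, hur, hrsum⟩ := hsplit r
  have hs0 : s ≠ 0 := fun h0 => hsU (h0 ▸ U.zero_mem)
  have hsq := hLq s hs
  have hsr := hLperp hs hr
  have hc : Q ws ≠ 0 := hzero s hs hs0 ws hws us hus hsum
  have hus0 : us ≠ 0 := fun h0 => hc (by rw [← hsum, h0, add_zero] at hsq; exact hsq)
  have hpt : ∀ t : F, Q (wr + t • ws) ≠ 0 := fun t =>
    hzero (r + t • s) (L.add_mem hr (L.smul_mem _ hs))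
      (fun h0 => hrs (Submodule.mem_span_singleton.2 ⟨-t, by
        rw [neg_smul]; exact (eq_neg_of_add_eq_zero_left h0).symm⟩))
      _ (W.add_mem hwr (W.smul_mem _ hws)) (ur + t • us) (U.add_mem hur (U.smul_mem _ hus))
      (by rw [← hsum, ← hrsum, smul_add]; abel)
  have hb : 𝔅 ws wr ≠ 0 := fun h0 => by
    obtain ⟨t, ht⟩ := FiniteField.isSquare_of_char_two (ringChar.eq F 2) (Q wr / Q ws)
    refine hpt t ?_
    rw [QuadraticMap.map_add (⇑Q), QuadraticMap.map_smul, QuadraticMap.polar_smul_right,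
      QuadraticMap.polar_comm (⇑Q) wr ws, h0, smul_zero, add_zero, smul_eq_mul, ← ht,
      div_mul_cancel₀ _ hc]
    linear_combination Q wr * h2
  -- `ρ(p, w)` for `w` a multiple of `ws` fixes `s`
  have hmove : ∀ p ∈ W, Q p = 0 → 𝔅 p ws = 0 → ∀ lam mu : F, RootMem M s
      ((mu * lam * 𝔅 p wr) • ws - (mu * lam * 𝔅 ws wr + mu * (lam * lam) * Q ws * 𝔅 p wr) • p) := by
    intro p hp hpq hpws lam mu
    have hpw : 𝔅 p (lam • ws) = 0 := by rw [QuadraticMap.polar_smul_right, hpws, smul_zero]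
    have hk : mat Q (eichIso Q p (lam • ws) hpq hpw) *ᵥ s = s := by
      rw [mat_eichIso, eich_mulVec, ← hsum, QuadraticMap.polar_add_right, QuadraticMap.polar_add_right,
        hperp' hp hus, hperp' (W.smul_mem _ hws) hus, hpws, QuadraticMap.polar_smul_left, hself]
      simp
    obtain ⟨-, h⟩ := (hroot s hs (mu • r) (L.smul_mem _ hr)).conj_sub hsq
      (hLperp hs (L.smul_mem _ hr)) ((hinW hpq hp (W.smul_mem _ hws) hpw).iso hpq hpw) hk
    have he : mat Q (eichIso Q p (lam • ws) hpq hpw) *ᵥ (mu • r) - mu • r =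
        (mu * lam * 𝔅 p wr) • ws - (mu * lam * 𝔅 ws wr + mu * (lam * lam) * Q ws * 𝔅 p wr) • p := by
      rw [mat_eichIso, eich_mulVec, ← hrsum, QuadraticMap.map_smul, smul_add,
        QuadraticMap.polar_add_right, QuadraticMap.polar_add_right, QuadraticMap.polar_smul_left,
        QuadraticMap.polar_smul_left, QuadraticMap.polar_smul_right, QuadraticMap.polar_smul_right,
        QuadraticMap.polar_smul_right, QuadraticMap.polar_smul_right, hperp' hp hur, hperp' hws hur]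
      simp only [smul_eq_mul, mul_zero, add_zero]
      module
    rwa [he] at h
  have trick : ∀ p ∈ W, Q p = 0 → p ≠ 0 → 𝔅 p ws = 0 → ∀ c : F, c ≠ 0 → RootMem M s (c • p) →
      ∃ p ∈ U, p ≠ 0 ∧ Q p = 0 ∧ ∃ a ∈ W, a ≠ 0 ∧ RootMem M p a := by
    intro p hp hpq hp0 hpws c hc0 h
    have hxq : Q (c • p) = 0 := by rw [QuadraticMap.map_smul, hpq, smul_zero]
    have hxws : 𝔅 (c • p) ws = 0 := by rw [QuadraticMap.polar_smul_left, hpws, smul_zero]
    have hxW : c • p ∈ W := W.smul_mem _ hp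
    rw [← hsum, add_comm ws us] at h
    exact mirror hxW (smul_ne_zero hc0 hp0) hxq (U.neg_mem hus) (neg_ne_zero.2 hus0)
      (RootMem.of_swap (by rw [add_comm, hsum]; exact hsq) hxq hxws (hperp' hxW hus)
        (hinW hxq hxW hws hxws) h)
  have trick' : ∀ p ∈ W, Q p = 0 → p ≠ 0 → 𝔅 p ws = 0 → 𝔅 p wr = 0 →
      ∃ p ∈ U, p ≠ 0 ∧ Q p = 0 ∧ ∃ a ∈ W, a ≠ 0 ∧ RootMem M p a := by
    intro p hp hpq hp0 hpws hpwr
    refine trick p hp hpq hp0 hpws (-𝔅 ws wr) (neg_ne_zero.2 hb) ?_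
    simpa [hpwr] using hmove p hp hpq hpws 1 1
  by_cases hF : ∃ lam : F, lam ≠ 0 ∧ lam ≠ 1
  · obtain ⟨lam, hl0, hl1⟩ := hF
    obtain ⟨p, ⟨hp, hpws⟩, hp0, hpq⟩ := exists_singular hQ (W ⊓ qperp Q (Submodule.span F {ws}))
      (by have := finrank_le_inf_qperp_add_one hQ W ws; omega)
    rw [SetLike.mem_coe, mem_qperp_singleton, QuadraticMap.polar_comm] at hpws
    by_cases hpwr : 𝔅 p wr = 0
    · exact trick' p hp hpq hp0 hpws hpwr
    refine trick p hp hpq hp0 hpws ((lam - 1) * lam * Q ws * 𝔅 p wr) (mul_ne_zero (mul_ne_zero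
      (mul_ne_zero (sub_ne_zero.2 hl1) hl0) hc) hpwr) ?_
    have hw : ∀ c d : F, 𝔅 s (c • ws - d • p) = 0 := fun c d => by
      rw [← hsum, QuadraticMap.polar_add_left, QuadraticMap.polar_sub_right,
        QuadraticMap.polar_sub_right, QuadraticMap.polar_smul_right, QuadraticMap.polar_smul_right,
        QuadraticMap.polar_smul_right, QuadraticMap.polar_smul_right, hself,
        QuadraticMap.polar_comm (⇑Q) ws p, hpws, hperp hws hus, hperp hp hus]
      simp
    have h1 := hmove p hp hpq hpws 1 lam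
    have h3 := hmove p hp hpq hpws lam 1
    have := h1.add hsq (hw _ _) (by rw [QuadraticMap.polar_neg_right, hw, neg_zero]) (h3.neg hsq (hw _ _))
    convert this using 1
    module
  push Not at hF
  have hone : ∀ x : F, x ≠ 0 → x = 1 := hF
  set D := W ⊓ qperp Q (Submodule.span F {ws}) ⊓ qperp Q (Submodule.span F {wr}) with hD
  by_cases hex : ∃ p ∈ D, p ≠ 0 ∧ Q p = 0
  · obtain ⟨p, ⟨⟨hp, hpws⟩, hpwr⟩, hp0, hpq⟩ := hex
    rw [SetLike.mem_coe, mem_qperp_singleton, QuadraticMap.polar_comm] at hpws hpwr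
    exact trick' p hp hpq hp0 hpws hpwr
  push Not at hex
  have hD2 : 2 ≤ finrank F D := by
    have := finrank_le_inf_qperp_add_one hQ W ws
    have := finrank_le_inf_qperp_add_one hQ (W ⊓ qperp Q (Submodule.span F {ws})) wr
    rw [← hD] at this
    omega
  obtain ⟨d₁, hd₁, hd₁0⟩ := Submodule.exists_mem_ne_zero_of_ne_bot (p := D) (fun h => by
    rw [h, finrank_bot] at hD2; omega)
  obtain ⟨d₂, hd₂, hd₂n⟩ : ∃ d ∈ D, d ∉ Submodule.span F {d₁} := by
    by_contra! hall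
    have := Submodule.finrank_mono (show D ≤ Submodule.span F {d₁} from hall)
    rw [finrank_span_singleton hd₁0] at this
    omega
  have hd₂0 : d₂ ≠ 0 := fun h => hd₂n (h ▸ Submodule.zero_mem _)
  have hd₁₂ : d₁ + d₂ ≠ 0 := fun h => hd₂n (by
    rw [eq_neg_of_add_eq_zero_right h]; exact Submodule.neg_mem _ (Submodule.mem_span_singleton_self _))
  have e1 := hone _ (hex d₁ hd₁ hd₁0)
  have e2 := hone _ (hex d₂ hd₂ hd₂0)
  have e12 : 𝔅 d₁ d₂ = 1 := by
    have := hone _ (hex _ (D.add_mem hd₁ hd₂) hd₁₂)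
    rw [QuadraticMap.map_add (⇑Q), e1, e2] at this
    linear_combination this - h2
  have f1 := hone _ hc
  have f2 : Q wr = 1 := hone _ (by simpa using hpt 0)
  have f12 : 𝔅 ws wr = 1 := by
    have := hone _ (hpt 1)
    rw [one_smul, QuadraticMap.map_add (⇑Q), f1, f2, QuadraticMap.polar_comm] at this
    linear_combination this - h2
  obtain ⟨⟨hd₁W, hd₁s⟩, hd₁r⟩ := hd₁
  obtain ⟨⟨hd₂W, hd₂s⟩, hd₂r⟩ := hd₂
  rw [SetLike.mem_coe, mem_qperp_singleton] at hd₁s hd₁r hd₂s hd₂r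
  have g1 : Q (ws + d₁) = 0 := by
    rw [QuadraticMap.map_add (⇑Q), f1, e1, hd₁s]
    linear_combination h2
  have g2 : Q (wr + d₂) = 0 := by
    rw [QuadraticMap.map_add (⇑Q), f2, e2, hd₂r]
    linear_combination h2
  have g12 : 𝔅 (ws + d₁) (wr + d₂) = 0 := by
    rw [QuadraticMap.polar_add_left, QuadraticMap.polar_add_right, QuadraticMap.polar_add_right,
      hd₂s, QuadraticMap.polar_comm (⇑Q) d₁ wr, hd₁r, f12, e12]
    linear_combination h2
  have hne : ws + d₁ ≠ 0 := fun h0 => by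
    have := congrArg (fun z => 𝔅 wr z) h0
    simp only [QuadraticMap.polar_add_right, QuadraticMap.polar_zero_right, hd₁r, add_zero,
      QuadraticMap.polar_comm (⇑Q) wr ws, f12] at this
    exact one_ne_zero this
  obtain ⟨e, he⟩ := Submodule.mem_span_singleton.1
    (hno _ (W.add_mem hws hd₁W) _ (W.add_mem hwr hd₂W) hne g1 g2 g12)
  have := congrArg (fun z => 𝔅 ws z) he
  simp only [QuadraticMap.polar_add_right, QuadraticMap.polar_smul_right, hd₁s, hd₂s, hself, add_zero,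
    smul_zero, f12] at this
  exact absurd this.symm one_ne_zero

/-- Maximality for `W` without totally singular line whose complement has one, characteristic two. -/
theorem isMaximalIn_nd_four (h2 : (2 : F) = 0) (hQ : (QuadraticMap.polarBilin Q).Nondegenerate)
    (hn5 : 5 ≤ Fintype.card ι) (hW : Nd Q W) (hdW : 4 ≤ finrank F W)
    (hd : 4 ≤ finrank F (qperp Q W))
    (hline : ∃ a ∈ qperp Q W, ∃ b ∈ qperp Q W,
      a ≠ 0 ∧ b ∉ Submodule.span F {a} ∧ Q a = 0 ∧ Q b = 0 ∧ 𝔅 a b = 0)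
    (hno : ∀ a ∈ W, ∀ b ∈ W, a ≠ 0 → Q a = 0 → Q b = 0 → 𝔅 a b = 0 → b ∈ Submodule.span F {a}) :
    IsMaximalIn (omegaGL ⇑Q) (subspaceStabilizer W ⊓ omegaGL ⇑Q) := by
  set U := qperp Q W with hUdef
  have hUn : Nd Q U := hW.qperp' hQ
  have hperp : ∀ {w u : ι → F}, w ∈ W → u ∈ U → 𝔅 w u = 0 := fun hw hu => mem_qperp.1 hu _ hw
  have hperp' : ∀ {w u : ι → F}, w ∈ W → u ∈ U → 𝔅 u w = 0 := fun hw hu => by
    rw [QuadraticMap.polar_comm]; exact hperp hw hu
  have hex : ¬(Fintype.card F ≤ 3 ∧ finrank F W = 2 ∧ ∃ s ∈ W, s ≠ 0 ∧ Q s = 0) := fun h => by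
    omega
  have hW0 : W ≠ ⊥ := fun h => by rw [h, finrank_bot] at hdW; omega
  obtain ⟨w₀, hw₀, hw₀0⟩ := Submodule.exists_mem_ne_zero_of_ne_bot hW0
  refine isMaximalIn_omega _ ?_ fun M hM g hgM hgΩ hgS => ?_
  · obtain ⟨p, hp, hp0, hpq⟩ := exists_singular hQ U (by omega)
    obtain ⟨x, hx, hwx⟩ := hW.exists_polar_one hw₀ hw₀0
    have hpw := hperp' hw₀ hp
    refine ⟨eichIso Q p w₀ hpq hpw, eich_mem_omega hQ hn5 hpq hpw, fun hs => hp0 ?_⟩
    have h := (MaxSub.mem_subspaceStabilizer_iff.1 hs x).1 hx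
    change mat Q (eichIso Q p w₀ hpq hpw) *ᵥ x ∈ W at h
    rw [mat_eichIso, eich_mulVec, hperp' hx hp, hwx] at h
    simp only [zero_smul, one_smul, mul_zero, sub_zero, zero_sub, W.add_mem_iff_right hx, neg_mem_iff] at h
    exact (Submodule.eq_bot_iff _).1 hW.inf_qperp p ⟨h, hp⟩
  have hMW : ∀ k : Isom Q, k ∈ Cfsg.Omega F ⇑Q → (∀ x ∈ W, mat Q k *ᵥ x ∈ W) → k ∈ M :=
    fun k hk h => hM k hk (mem_stab_of_le h)
  -- Eichler elements inside either summand
  have hinU : ∀ {u w : ι → F}, Q u = 0 → u ∈ U → w ∈ U → 𝔅 u w = 0 → RootMem M u w := by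
    intro u w huq hu hw huw
    refine RootMem.of_iso huq huw (hMW _ (eich_mem_omega hQ hn5 huq huw) fun x hx => ?_)
    rw [mat_eichIso, eich_mulVec, hperp' hx hu, hperp' hx hw]
    simpa using hx
  have hinW : ∀ {u w : ι → F}, Q u = 0 → u ∈ W → w ∈ W → 𝔅 u w = 0 → RootMem M u w := by
    intro u w huq hu hw huw
    refine RootMem.of_iso huq huw (hMW _ (eich_mem_omega hQ hn5 huq huw) fun x hx => ?_)
    rw [mat_eichIso, eich_mulVec]
    exact W.add_mem hx (W.sub_mem (W.sub_mem (W.smul_mem _ hw) (W.smul_mem _ hu)) (W.smul_mem _ hu))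
  -- a totally singular line of the moved complement, outside it
  obtain ⟨a₀, ha₀, b₀, hb₀, ha₀0, hba₀, ha₀q, hb₀q, hab₀⟩ := hline
  set Y := gmap g U with hY
  have hgY : ∀ {u : ι → F}, u ∈ U → mat Q g *ᵥ u ∈ Y := fun hu =>
    Submodule.mem_map_of_mem (f := mulVecLin (mat Q g)) hu
  have hne : ¬Y ≤ U := fun h => hgS (mem_stab_of_le fun x hx => by
    rw [← qperp_qperp hQ W, ← hUdef, ← gmap_qperp hQ
      (Submodule.eq_of_le_of_finrank_le h (by rw [finrank_gmap]))]
    exact Submodule.mem_map_of_mem (f := mulVecLin (mat Q g)) (by rwa [hUdef, qperp_qperp hQ W]))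
  obtain ⟨t, htY, htn⟩ := SetLike.not_le_iff_exists.1 hne
  obtain ⟨w, hw, hwt⟩ : ∃ w ∈ W, 𝔅 t w ≠ 0 := by
    by_contra! hall
    exact htn (mem_qperp.2 fun x hx => by rw [QuadraticMap.polar_comm]; exact hall x hx)
  obtain ⟨x₀, hx₀, hx₀a⟩ := hUn.exists_polar_one ha₀ ha₀0
  obtain ⟨s, hsY, hsq, hsw⟩ := OrthMax.exists_singular_pairing (K := Y) (z := mat Q g *ᵥ a₀)
    (hgY ha₀) (by rw [quad_mulVec, ha₀q]) (hgY hx₀)
    (by rw [polar_mulVec, QuadraticMap.polar_comm, hx₀a]; exact one_ne_zero) htY hwt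
  have hsU : s ∉ U := fun h => hsw (hperp' hw h)
  obtain ⟨r, hrY, hrq, hsr, hrs⟩ := exists_line_partner (U := Y) (s := s) (hgY ha₀) (hgY hb₀)
    (fun h => ha₀0 (mulVec_injective g (by rw [mulVecLin_apply, h, map_zero])))
    (fun h => hba₀ (by
      obtain ⟨c, hc⟩ := Submodule.mem_span_singleton.1 h
      exact Submodule.mem_span_singleton.2 ⟨c, mulVec_injective g (by
        rw [map_smul, mulVecLin_apply, mulVecLin_apply, hc])⟩))
    (by rw [quad_mulVec, ha₀q]) (by rw [quad_mulVec, hb₀q]) (by rw [polar_mulVec, hab₀])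
    (fun h => hsw (by rw [h, QuadraticMap.polar_zero_left]))
  set L := Submodule.span F {s, r} with hL
  have hLY : L ≤ Y := Submodule.span_le.2 (Set.insert_subset hsY (Set.singleton_subset_iff.2 hrY))
  have hLq : ∀ x ∈ L, Q x = 0 := fun x hx => by
    obtain ⟨c, d, rfl⟩ := Submodule.mem_span_pair.1 hx
    rw [QuadraticMap.map_add (⇑Q), QuadraticMap.map_smul, QuadraticMap.map_smul, hsq, hrq,
      QuadraticMap.polar_smul_left, QuadraticMap.polar_smul_right, hsr]
    simp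
  have hroot : ∀ x ∈ L, ∀ y ∈ L, RootMem M x y := fun x hx y hy => by
    have hxq := hLq x hx
    have hxy := polar_eq_zero hLq hx hy
    obtain ⟨x', hx', rfl⟩ := hLY hx
    obtain ⟨y', hy', rfl⟩ := hLY hy
    rw [mulVecLin_apply, quad_mulVec] at hxq
    rw [mulVecLin_apply, mulVecLin_apply, polar_mulVec] at hxy
    exact (hinU hxq hx' hy' hxy).conj hgM
  obtain ⟨p, hp, hp0, hpq, a, ha, ha0, hpa⟩ := exists_mixed_of_line h2 hQ hW hUdef hd hdW
    ⟨a₀, ha₀, b₀, hb₀, ha₀0, hba₀, ha₀q, hb₀q, hab₀⟩ hno hinU hinW hLq hroot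
    (Submodule.subset_span (Set.mem_insert _ _)) (Submodule.subset_span (Set.mem_insert_of_mem _ rfl))
    hrs hsU
  -- spreading over the singular vectors of `U`
  have hmove : ∀ {a p v : ι → F}, a ∈ W → p ∈ U → v ∈ U → Q p = 0 → Q v = 0 → p ≠ 0 →
      v ∉ Submodule.span F {p} → RootMem M p a → RootMem M v a := by
    intro a p v ha hp hv hpq hvq hp0 hvn h
    obtain ⟨z, hz, hzq, hzp, hzeq⟩ := hUn.exists_sing_equal_pairing hQ hd hp hv hpq hvq hp0 hvn
    obtain ⟨hzw, hkv⟩ := eich_move hzq hpq hvq hzp hzeq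
    have hw : (𝔅 z p)⁻¹ • (v - p) ∈ U := U.smul_mem _ (U.sub_mem hv hp)
    have := h.conj ((hinU hzq hz hw hzw).iso hzq hzw)
    rw [mat_eichIso, hkv, eich_mulVec, hperp' ha hz, hperp' ha hw] at this
    simpa using this
  let A : Submodule F (ι → F) :=
    { carrier := {a | a ∈ W ∧ ∀ v ∈ U, Q v = 0 → RootMem M v a}
      zero_mem' := ⟨W.zero_mem, fun _ _ _ => RootMem.zero⟩
      add_mem' := fun {a a'} ha ha' => ⟨W.add_mem ha.1 ha'.1, fun v hv hvq =>
        (ha.2 v hv hvq).add hvq (hperp' ha.1 hv) (hperp' ha'.1 hv) (ha'.2 v hv hvq)⟩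
      smul_mem' := fun e a ha => ⟨W.smul_mem _ ha.1, fun v hv hvq =>
        (rootMem_smul_left e).1 (ha.2 _ (U.smul_mem _ hv) (by rw [QuadraticMap.map_smul, hvq, smul_zero]))⟩ }
  have haA : a ∈ A := by
    have hmem : a ∈ W := ha
    refine ⟨hmem, fun v hv hvq => ?_⟩
    rcases eq_or_ne v 0 with rfl | hv0
    · rw [← zero_smul F p, rootMem_smul_left, zero_smul]
      exact RootMem.zero
    obtain ⟨v', hv', hv'n, hv'q⟩ := exists_singular_notMem hQ (K := U) (M := Submodule.span F {p}) (by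
      have h1 := Submodule.finrank_mono (inf_le_right : U ⊓ Submodule.span F {p} ≤ _)
      rw [finrank_span_singleton hp0] at h1
      omega)
    by_cases hvn : v ∈ Submodule.span F {p}
    · have hv'0 : v' ≠ 0 := fun h => hv'n (h ▸ Submodule.zero_mem _)
      refine hmove hmem hv' hv hv'q hvq hv'0 (fun h => ?_) (hmove hmem hp hv' hpq hv'q hp0 hv'n hpa)
      obtain ⟨e, rfl⟩ := Submodule.mem_span_singleton.1 h
      exact hv'n ((Submodule.smul_mem_iff _ (left_ne_zero_of_smul hv0)).1 hvn)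
    · exact hmove hmem hp hv hpq hvq hp0 hvn hpa
  have hconj : ∀ k : Isom Q, k ∈ M → (∀ x ∈ W, mat Q k *ᵥ x ∈ W) → ∀ a ∈ A, mat Q k *ᵥ a ∈ A := by
    intro k hk hkW a ha
    refine ⟨hkW a ha.1, fun v hv hvq => ?_⟩
    rw [hUdef, ← gmap_qperp hQ (gmap_eq_of_le k hkW)] at hv
    obtain ⟨v₀, hv₀, rfl⟩ := hv
    rw [mulVecLin_apply, quad_mulVec] at hvq
    exact (ha.2 v₀ hv₀ hvq).conj hk
  have hrefl : ∀ v ∈ W, Q v ≠ 0 → v ∉ A → ∀ a ∈ A, 𝔅 v a = 0 := by
    intro v hv hvq hvA a ha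
    by_contra hva
    obtain ⟨u, hu, huv⟩ := exists_value_mem hUn.inf_qperp (by omega) (Q v) hvq
    have huq : Q u ≠ 0 := by rw [huv]; exact hvq
    have happly : ∀ x ∈ W, mat Q (reflIso Q v hvq * reflIso Q u huq) *ᵥ x =
        x - ((Q v)⁻¹ * 𝔅 v x) • v := fun x hx => by
      rw [mat_mul, ← mulVec_mulVec, mat_reflIso_mulVec, mat_reflIso_mulVec,
        show refl Q u x = x by rw [refl_apply, hperp' hx hu, mul_zero, zero_smul, sub_zero], refl_apply]
    have hstab : ∀ x ∈ W, mat Q (reflIso Q v hvq * reflIso Q u huq) *ᵥ x ∈ W := fun x hx => by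
      rw [happly x hx]; exact W.sub_mem hx (W.smul_mem _ hv)
    have hk : reflIso Q v hvq * reflIso Q u huq ∈ M := by
      refine hMW _ ((mem_omega_iff_even hQ (Or.inr (by omega))
        ((IsReflProd.reflIso v hvq).mul (IsReflProd.reflIso u huq))).2 ⟨by simp, ?_⟩) hstab
      exact ⟨Q v, by simp [huv]⟩
    have h := hconj _ hk hstab a ha
    rw [happly a ha.1] at h
    have h' := A.sub_mem ha h
    rw [sub_sub_cancel] at h'
    exact hvA ((A.smul_mem_iff (mul_ne_zero (inv_ne_zero hvq) hva)).1 h')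
  have heich : ∀ s ∈ W, ∀ s' ∈ W, ∀ a ∈ A, Q s = 0 → Q s' = 0 → 𝔅 s s' = 0 →
      eich Q s s' *ᵥ a ∈ A := by
    intro s hs s' hs' a ha hsq hs'q hss'
    have hstab : ∀ x ∈ W, mat Q (eichIso Q s s' hsq hss') *ᵥ x ∈ W := fun x hx => by
      rw [mat_eichIso, eich_mulVec]
      exact W.add_mem hx (W.sub_mem (W.sub_mem (W.smul_mem _ hs') (W.smul_mem _ hs)) (W.smul_mem _ hs))
    exact hconj _ (hMW _ (eich_mem_omega hQ hn5 hsq hss') hstab) hstab a ha
  have hAW : A = W := eq_of_refl_invariant hW (fun a ha => ha.1) (fun h => ha0 (by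
    rw [← Submodule.mem_bot F, ← h]; exact haA)) hrefl heich hex
  -- every singular point of `U` is full
  have hfull : ∀ v ∈ U, Q v = 0 → Full M v := by
    intro v hv hvq w hvw
    obtain ⟨a, ha, u, hu, rfl⟩ := hW.exists_decomp hQ w
    have hva := hperp' ha hv
    have hvu : 𝔅 v u = 0 := by rwa [QuadraticMap.polar_add_right, hva, zero_add] at hvw
    rw [← hAW] at ha
    exact (ha.2 v hv hvq).add hvq hva hvu (hinU hvq hv hu hvu)
  obtain ⟨v, hv, hv0, hvq⟩ := exists_singular hQ U (by omega)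
  obtain ⟨v', hv', hv'q, hvv'⟩ := exists_partner_in hv hvq (by
    obtain ⟨x, hx, hvx⟩ := hUn.exists_polar_one hv hv0
    exact ⟨x, hx, by rw [hvx]; exact one_ne_zero⟩)
  exact omega_le_of_full_pair hQ hn5 hvq hv'q (by rw [hvv']; exact one_ne_zero) (hfull v hv hvq)
    (hfull v' hv' hv'q)

open CfsgLib.QuadType in
/-- Maximality for a nondegenerate four-subspace of a minus eight-space. -/
theorem isMaximalIn_nd_four_fun (h2 : (2 : F) = 0) {Q : (ι → F) → F} (hQ : IsNondegenerateQuadraticForm Q)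
    (h8 : Fintype.card ι = 8) (hminus : ¬IsPlusTypeOn Q ⊤) {W : Submodule F (ι → F)}
    (hW : IsNondegenerateOn (QuadraticMap.polar Q) W) (hW4 : finrank F W = 4) :
    IsMaximalIn (omegaGL Q) (subspaceStabilizer W ⊓ omegaGL Q) := by
  set q := AschbacherQuad.quadForm hQ
  have hq := AschbacherQuad.quadForm_nondegenerate hQ
  have hWn : Nd q W := nd_of_isNondegenerateOn hW
  have hd : finrank F (qperp q W) = 4 := by rw [finrank_qperp hq, hW4, h8]
  have main : ∀ W : Submodule F (ι → F), Nd q W → finrank F W = 4 → finrank F (qperp q W) = 4 →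
      Plus q (qperp q W) → ¬Plus q W →
      IsMaximalIn (omegaGL Q) (subspaceStabilizer W ⊓ omegaGL Q) := by
    intro W hW hW4 hd hplus hnot
    obtain ⟨T, hT, hTq, hTd⟩ := hplus
    obtain ⟨a, ha, ha0⟩ := Submodule.exists_mem_ne_zero_of_ne_bot (p := T) (fun h => by
      rw [h, finrank_bot, hd] at hTd; omega)
    obtain ⟨b, hb, hba⟩ : ∃ b ∈ T, b ∉ Submodule.span F {a} := by
      by_contra! hall
      have := Submodule.finrank_mono (show T ≤ Submodule.span F {a} from hall)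
      rw [finrank_span_singleton ha0] at this
      omega
    refine isMaximalIn_nd_four (Q := q) h2 hq (by omega) hW (by omega) (by omega)
      ⟨a, hT ha, b, hT hb, ha0, hba, hTq a ha, hTq b hb, polar_eq_zero (Q := q) hTq ha hb⟩ ?_
    intro a ha b hb ha0 haq hbq hab
    by_contra hba
    refine hnot ⟨Submodule.span F {a, b},
      Submodule.span_le.2 (Set.insert_subset ha (Set.singleton_subset_iff.2 hb)), fun x hx => ?_, ?_⟩
    · obtain ⟨c, d, rfl⟩ := Submodule.mem_span_pair.1 hx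
      rw [QuadraticMap.map_add (⇑q), QuadraticMap.map_smul, QuadraticMap.map_smul, haq, hbq,
        QuadraticMap.polar_smul_left, QuadraticMap.polar_smul_right, hab]
      simp
    · have hli : LinearIndependent F ![a, b] := (LinearIndependent.pair_iff' ha0).2 fun c hc =>
        hba (Submodule.mem_span_singleton.2 ⟨c, hc⟩)
      have h := finrank_span_eq_card hli
      rw [Matrix.range_cons_cons_empty, Fintype.card_fin] at h
      rw [h, hW4]
  have hsep : ∀ {X : Submodule F (ι → F)}, Nd q X → Sep q X := fun hX w hw hw0 => by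
    obtain ⟨y, hy, h⟩ := hX.exists_polar_one hw hw0
    exact ⟨y, hy, by rw [QuadraticMap.polarBilin_apply_apply, h]; exact one_ne_zero⟩
  have hs := plus_sup_iff (hsep hWn) (hsep (hWn.qperp' hq))
    (fun x hx y hy => mem_qperp.1 hy x hx) (by rw [hW4]; decide) (by rw [hd]; decide)
  rw [Submodule.eq_top_of_finrank_eq (S := W ⊔ qperp q W) (by
    have h := Submodule.finrank_sup_add_finrank_inf_eq W (qperp q W)
    rw [hWn.inf_qperp, finrank_bot] at h
    rw [Module.finrank_pi]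
    omega)] at hs
  have hneq : ¬(Plus q W ↔ Plus q (qperp q W)) := fun h => by
    obtain ⟨T, -, hT, hTd⟩ := hs.2 h
    rw [finrank_top, Module.finrank_pi] at hTd
    exact hminus ⟨T, le_top, hT, by rw [finrank_top, Module.finrank_pi]; omega⟩
  by_cases hp : Plus q W
  · rw [show subspaceStabilizer W ⊓ omegaGL Q = subspaceStabilizer (qperp q W) ⊓ omegaGL Q from
      stab_inf_qperp (Q := q) hq W]
    exact main _ (hWn.qperp' hq) hd (by rw [qperp_qperp hq]; exact hW4)
      (by rw [qperp_qperp hq]; exact hp) (fun h => hneq (iff_of_true hp h))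
  · exact main W hWn hW4 hd (by
      by_contra h
      exact hneq (iff_of_false hp h)) hp

end CfsgLib.OrthMax
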