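import Cfsg.Agent.OrthMax.PlaneTools

/-!
# Root groups from rotations of planes

`Rot Q M P g`: an element of `M` fixing `P^⊥` pointwise whose square has no fixed vector in the plane `P`.
`omega_le_of_fixed`: such a plane in suitable position against a decomposition into planes gives all of `Ω`.
-/

set_option autoImplicit false
set_option linter.unusedSectionVars false

namespace CfsgLib.OrthMax

open Matrix Module CfsgLib.Spinor CfsgLib.Forms CfsgLib.Forms4 Cfsg.Geo CfsgLib.OmegaOrbits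

variable {F : Type*} [Field F] {ι : Type} [Fintype ι] [DecidableEq ι] {Q : QuadraticForm F (ι → F)}

set_option quotPrecheck false in
local notation "𝔅" => QuadraticMap.polar (⇑Q)

theorem mulVec_inv_left (g : Isom Q) (x : ι → F) : mat Q g⁻¹ *ᵥ (mat Q g *ᵥ x) = x := by
  rw [mulVec_mulVec, ← mat_mul, inv_mul_cancel, mat_one, one_mulVec]

theorem mulVec_inv_right (g : Isom Q) (x : ι → F) : mat Q g *ᵥ (mat Q g⁻¹ *ᵥ x) = x := by
  rw [mulVec_mulVec, ← mat_mul, mul_inv_cancel, mat_one, one_mulVec]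

variable {M : Subgroup (Isom Q)} {P : Submodule F (ι → F)} {g : Isom Q}

/-- An element of `M` acting on the plane `P` alone, with fixed-point-free square there. -/
structure Rot (Q : QuadraticForm F (ι → F)) (M : Subgroup (Isom Q)) (P : Submodule F (ι → F)) (g : Isom Q) :
    Prop where
  nd : Nd Q P
  dim : finrank F P = 2
  mem : g ∈ M
  fix : ∀ x ∈ qperp Q P, mat Q g *ᵥ x = x
  nofix : ∀ x ∈ P, mat Q g *ᵥ (mat Q g *ᵥ x) = x → x = 0

theorem Rot.inv (hP : Rot Q M P g) : Rot Q M P g⁻¹ where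
  nd := hP.nd
  dim := hP.dim
  mem := M.inv_mem hP.mem
  fix := fun x hx => by
    conv_lhs => arg 2; rw [← hP.fix x hx]
    exact mulVec_inv_left g x
  nofix := fun x hx e => hP.nofix x hx (by
    conv_lhs => arg 2; arg 2; rw [← e]
    rw [mulVec_inv_right, mulVec_inv_right])

theorem Rot.map (hP : Rot Q M P g) {k : Isom Q} (hk : k ∈ M) : Rot Q M (gmap k P) (k * g * k⁻¹) where
  nd := hP.nd.gmap k
  dim := by rw [finrank_gmap, hP.dim]
  mem := M.mul_mem (M.mul_mem hk hP.mem) (M.inv_mem hk)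
  fix := fun x hx => by
    rw [mat_mul, mat_mul, ← mulVec_mulVec, ← mulVec_mulVec, hP.fix (mat Q k⁻¹ *ᵥ x) ?_, mulVec_inv_right]
    intro y hy
    show 𝔅 y (mat Q k⁻¹ *ᵥ x) = 0
    rw [← mulVec_inv_left k y, polar_mulVec]
    exact hx _ ⟨y, hy, rfl⟩
  nofix := by
    rintro _ ⟨y, hy, rfl⟩ e
    simp only [mulVecLin_apply] at e ⊢
    rw [mat_mul, mat_mul] at e
    simp only [← mulVec_mulVec, mulVec_inv_left] at e
    rw [hP.nofix y hy (mulVec_injective k (by simpa [mulVecLin_apply] using e)), mulVec_zero]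

theorem Rot.map_mem (hP : Rot Q M P g) (hQ : (QuadraticMap.polarBilin Q).Nondegenerate) {x : ι → F} (hx : x ∈ P) :
    mat Q g *ᵥ x ∈ P := by
  rw [← qperp_qperp hQ P]
  intro y hy
  show 𝔅 y (mat Q g *ᵥ x) = 0
  conv_lhs => arg 2; rw [← hP.fix y hy]
  rw [polar_mulVec, QuadraticMap.polar_comm]
  exact hy x hx

theorem Rot.ne (hP : Rot Q M P g) {x : ι → F} (hx : x ∈ P) (hx0 : x ≠ 0) : mat Q g *ᵥ x ≠ x := fun e =>
  hx0 (hP.nofix x hx (by rw [e, e]))

theorem Rot.diff_mem (hP : Rot Q M P g) (hQ : (QuadraticMap.polarBilin Q).Nondegenerate) (x : ι → F) :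
    mat Q g *ᵥ x - x ∈ P := by
  obtain ⟨a, ha, b, hb, rfl⟩ := hP.nd.exists_decomp hQ x
  rw [mulVec_add, hP.fix b hb, add_sub_add_right_eq_sub]
  exact P.sub_mem (hP.map_mem hQ ha) ha

theorem Rot.diff_ne (hP : Rot Q M P g) (hQ : (QuadraticMap.polarBilin Q).Nondegenerate) {x : ι → F}
    (hx : x ∉ qperp Q P) : mat Q g *ᵥ x - x ≠ 0 := by
  obtain ⟨a, ha, b, hb, rfl⟩ := hP.nd.exists_decomp hQ x
  rw [mulVec_add, hP.fix b hb, add_sub_add_right_eq_sub]
  refine sub_ne_zero.2 (hP.ne ha fun a0 => hx ?_)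
  rw [a0, zero_add]
  exact hb

variable [Fintype F]

theorem cast_rootSpace {u u' w : ι → F} {hu : Q u = 0} {hu' : Q u' = 0} (e : u = u') (h : w ∈ rootSpace M hu) :
    w ∈ rootSpace M hu' := by
  subst e
  exact h

/-- An element of `M` shearing the plane along a singular vector gives a root element. -/
theorem Rot.root (hP : Rot Q M P g) (hQ : (QuadraticMap.polarBilin Q).Nondegenerate) {k : Isom Q} (hk : k ∈ M)
    {p₁ p₂ r v : ι → F} (hp₁ : p₁ ∈ P) (hp₂ : p₂ ∈ P) (hp₁0 : p₁ ≠ 0) (hind : p₂ ∉ Submodule.span F {p₁})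
    (hfix : mat Q k *ᵥ p₁ = p₁) (hr : mat Q k *ᵥ p₂ = p₂ + r) (hrq : Q r = 0) (hv : v ∈ P) (hv₁ : 𝔅 v p₁ = 0)
    (hv₂ : 𝔅 v p₂ = -1) :
    (∀ x ∈ P, 𝔅 r x = 0) ∧ RootMem M r (v - mat Q g *ᵥ v) := by
  have hr₁ : 𝔅 p₁ r = 0 := by
    have := polar_mulVec Q k p₁ p₂
    rwa [hfix, hr, QuadraticMap.polar_add_right, add_eq_left] at this
  have hr₂ : 𝔅 p₂ r = 0 := by
    have := quad_mulVec Q k p₂
    rwa [hr, QuadraticMap.map_add (⇑Q), hrq, add_zero, add_eq_left] at this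
  have hperp : r ∈ qperp Q P := mem_qperp_of_two hP.dim hp₁ hp₂ hp₁0 hind hr₁ hr₂
  have hrP : ∀ x ∈ P, 𝔅 r x = 0 := fun x hx => by rw [QuadraticMap.polar_comm]; exact hperp x hx
  refine ⟨hrP, ?_⟩
  have hrv := hrP v hv
  set e := eichIso Q r v hrq hrv with he
  have heP : ∀ x ∈ P, mat Q e *ᵥ x = x - 𝔅 v x • r := fun x hx => by
    rw [he, mat_eichIso, eich_mulVec, hrP x hx]; simp [sub_eq_add_neg]
  set j := e⁻¹ * k with hj
  have hjP : ∀ x ∈ P, mat Q j *ᵥ x = x := by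
    intro x hx
    obtain ⟨α, β, rfl⟩ := plane_span hP.dim hp₁ hp₂ hp₁0 hind hx
    have e1 : mat Q e⁻¹ *ᵥ p₁ = p₁ := by
      conv_lhs => arg 2; rw [← show mat Q e *ᵥ p₁ = p₁ by rw [heP _ hp₁, hv₁, zero_smul, sub_zero]]
      exact mulVec_inv_left e p₁
    have e2 : mat Q e⁻¹ *ᵥ (p₂ + r) = p₂ := by
      conv_lhs => arg 2; rw [← show mat Q e *ᵥ p₂ = p₂ + r by rw [heP _ hp₂, hv₂, neg_smul, one_smul, sub_neg_eq_add]]
      exact mulVec_inv_left e p₂
    rw [hj, mat_mul, ← mulVec_mulVec, mulVec_add, mulVec_add, mulVec_smul, mulVec_smul, mulVec_smul, mulVec_smul,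
      hfix, hr, e1, e2]
  have hcomm : j * g = g * j := mat_ext Q (Matrix.ext_iff_mulVec.2 fun x => by
    obtain ⟨a, ha, b, hb, rfl⟩ := hP.nd.exists_decomp hQ x
    have hjb : mat Q j *ᵥ b ∈ qperp Q P := fun y hy => by
      show 𝔅 y (mat Q j *ᵥ b) = 0
      rw [← hjP y hy, polar_mulVec]
      exact hb y hy
    rw [mat_mul Q j g, mat_mul Q g j, ← mulVec_mulVec, ← mulVec_mulVec, mulVec_add, mulVec_add, mulVec_add, mulVec_add,
      hP.fix b hb, hjP a ha, hjP _ (hP.map_mem hQ ha), hP.fix _ hjb])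
  have hnv : 𝔅 r (-v) = 0 := by rw [QuadraticMap.polar_neg_right, hrv, neg_zero]
  have hinv : e⁻¹ = eichIso Q r (-v) hrq hnv := by
    refine inv_eq_of_mul_eq_one_right (mat_ext Q ?_)
    rw [mat_mul, he, mat_eichIso, mat_eichIso, eich_mul hrq hrv hnv, add_neg_cancel, eich_zero, mat_one]
  have hgr : mat Q g *ᵥ r = r := hP.fix r hperp
  have hgv : 𝔅 r (mat Q g *ᵥ (-v)) = 0 := hrP _ (hP.map_mem hQ (P.neg_mem hv))
  have hkey : k * g * k⁻¹ * g⁻¹ = e * (g * e⁻¹ * g⁻¹) := by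
    have hk' : k = e * j := by rw [hj, mul_inv_cancel_left]
    have : j * g * j⁻¹ = g := by rw [hcomm, mul_inv_cancel_right]
    calc k * g * k⁻¹ * g⁻¹ = e * (j * g * j⁻¹) * e⁻¹ * g⁻¹ := by rw [hk']; group
      _ = _ := by rw [this]; group
  intro a ha
  have hconj : mat Q (g * e⁻¹ * g⁻¹) = eich Q r (-(mat Q g *ᵥ v)) := by
    rw [mat_mul, mat_mul, hinv, mat_eichIso, conj_eich, hgr, mulVec_neg, mul_assoc, ← mat_mul, mul_inv_cancel,
      mat_one, mul_one]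
  rw [mulVec_neg] at hgv
  have : a = k * g * k⁻¹ * g⁻¹ := mat_ext Q (by
    rw [ha, hkey, mat_mul, hconj, he, mat_eichIso, eich_mul hrq hrv hgv, ← sub_eq_add_neg])
  rw [this]
  exact M.mul_mem (M.mul_mem (M.mul_mem hk hP.mem) (M.inv_mem hk)) (M.inv_mem hP.mem)

variable {t : ℕ} {D : Fin t → Submodule F (ι → F)}

/-- Every reflection value has, up to squares, a compensating vector outside the member fixing `r`. -/
def Comp (Q : QuadraticForm F (ι → F)) (D : Fin t → Submodule F (ι → F)) (r : ι → F) (f : Fin t) : Prop :=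
  ∀ c : F, c ≠ 0 → ∃ m, m ≠ f ∧ ∃ z' ∈ D m, QuadraticMap.polar (⇑Q) z' r = 0 ∧ IsSquare (c * Q z') ∧ Q z' ≠ 0

section Setting

variable (h : DSys Q 2 D) (hn : 5 ≤ Fintype.card ι) (hM : ContainsFix M D) (hq : Fintype.card F ≠ 3)
  (hb : PlusBound Q D) (ht : 5 ≤ t)
include h hn hM hq hb ht

omit hn hM hq hb ht in
theorem DSys.comp_zero {c : Fin t → ι → F} (hc : ∀ i, c i ∈ D i) {m : Fin t} (hm : ∑ i, c i ∈ qperp Q (D m)) :
    c m = 0 := h.nd m _ (hc m) fun z hz => by rw [← h.polar_comp hc hz]; exact hm z hz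

omit hn hM hq hb ht in
theorem DSys.eq_zero_of_perp_all {x : ι → F} (hx : ∀ m, x ∈ qperp Q (D m)) : x = 0 := by
  obtain ⟨c, hc, rfl⟩ := h.exists_comp x
  exact Finset.sum_eq_zero fun m _ => h.comp_zero hc (hx m)

omit hn hM hq hb ht in
theorem DSys.exists_free (s : Finset (Fin t)) (hs : s.card < t) : ∃ m, m ∉ s := by
  by_contra! hall
  exact absurd (Finset.card_le_card (fun x _ => hall x : Finset.univ ⊆ s)) (by
    rw [Finset.card_univ, Fintype.card_fin]; omega)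

omit hn hM hq hb ht in
theorem DSys.gmap_member {p q : Fin t} {k : Isom Q} (hpq : ∀ x ∈ D p, mat Q k *ᵥ x ∈ D q) :
    gmap k (D p) = D q :=
  Submodule.eq_of_le_of_finrank_eq (by rintro _ ⟨x, hx, rfl⟩; exact hpq x hx) (by rw [finrank_gmap, h.dim, h.dim])

omit hq hb ht in
theorem exists_rot_member (hq' : Fintype.card F ≠ 3) (hb' : PlusBound Q D) (i : Fin t) :
    ∃ θ, Rot Q M (D i) θ := by
  obtain ⟨z, hz, z', hz', hzq, heq, hfree⟩ := h.exists_rot hq' hb' i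
  have hz'q : Q z' ≠ 0 := by rwa [heq]
  refine ⟨_, h.nd i, h.dim i, refl2_mem h hn hM hzq hz'q hz hz' ⟨Q z, by rw [heq]⟩, fun x hx => ?_, fun x hx e => ?_⟩
  · rw [mat_refl_two, refl_fix (hx z' hz'), refl_fix (hx z hz)]
  · rw [mat_refl_two, mat_refl_two] at e
    exact h.nd i x hx (hfree x e)

omit hq hb ht in
/-- An element exchanging two members and fixing the others, available for any number of members. -/
theorem DSys.exists_transfer {f e : Fin t} (hfe : f ≠ e) :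
    ∃ k ∈ M, (∀ x ∈ D f, mat Q k *ᵥ x ∈ D e) ∧ (∀ x ∈ D e, mat Q k *ᵥ x ∈ D f) ∧
      ∀ m, m ≠ f → m ≠ e → ∀ x ∈ D m, mat Q k *ᵥ x = x := by
  obtain ⟨a, -, hafe, haef, hao⟩ := h.exists_swap hfe
  have hexc : Nat.card F ≠ 2 ∨ Fintype.card ι ≠ 4 := Or.inr (by omega)
  obtain ⟨vs, hvs⟩ := exists_isReflProd_finite h.nondeg hexc a
  have hval : ∀ c : F, c ≠ 0 → ∃ v ∈ D f, Q v = c :=
    fun c hc => exists_value_mem (h.nd f).inf_qperp (by rw [h.dim]) c hc
  obtain ⟨H, ws, hws, heven, hsq, hHf, hHo⟩ : ∃ (H : Isom Q) (ws : List (ι → F)), IsReflProd Q H ws ∧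
      Even (vs ++ ws).length ∧ IsSquare ((vs ++ ws).map fun v => Q v).prod ∧
      (∀ x ∈ D f, mat Q H *ᵥ x ∈ D f) ∧ ∀ m, m ≠ f → ∀ x ∈ D m, mat Q H *ᵥ x = x := by
    have hP : (vs.map fun v => Q v).prod ≠ 0 := prod_quad_ne_zero hvs.1
    obtain ⟨v, hv, hvq⟩ := hval _ hP
    have hv0 : Q v ≠ 0 := by rwa [hvq]
    by_cases he : Even vs.length
    · obtain ⟨u, hu, huq⟩ := hval 1 one_ne_zero
      have hu0 : Q u ≠ 0 := by rw [huq]; exact one_ne_zero
      refine ⟨reflIso Q u hu0 * reflIso Q v hv0, [u] ++ [v],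
        (IsReflProd.reflIso u hu0).mul (IsReflProd.reflIso v hv0), by simp [Nat.even_add_one, he],
        ⟨(vs.map fun v => Q v).prod, by simp [huq, hvq]⟩, fun x hx => ?_, fun m hm x hx => ?_⟩
      · rw [mat_refl_two]
        exact refl_mem_member h hu (refl_mem_member h hv hx)
      · rw [mat_refl_two, refl_fix (h.perp (Ne.symm hm) hv hx), refl_fix (h.perp (Ne.symm hm) hu hx)]
    · refine ⟨reflIso Q v hv0, [v], IsReflProd.reflIso v hv0, by simp [Nat.even_add_one, he],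
        ⟨(vs.map fun v => Q v).prod, by simp [hvq]⟩, fun x hx => ?_, fun m hm x hx => ?_⟩
      · rw [mat_reflIso_mulVec]
        exact refl_mem_member h hv hx
      · rw [mat_reflIso_mulVec, refl_fix (h.perp (Ne.symm hm) hv hx)]
  have hmaps : ∀ x ∈ D f, mat Q (a * H) *ᵥ x ∈ D e := fun x hx => by
    rw [mat_mul, ← mulVec_mulVec]
    exact hafe _ (hHf x hx)
  have hmaps' : ∀ x ∈ D e, mat Q (a * H) *ᵥ x ∈ D f := fun x hx => by
    rw [mat_mul, ← mulVec_mulVec, hHo e hfe.symm x hx]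
    exact haef x hx
  have hfix : ∀ m, m ≠ f → m ≠ e → ∀ x ∈ D m, mat Q (a * H) *ᵥ x = x := fun m hmf hme x hx => by
    rw [mat_mul, ← mulVec_mulVec, hHo m hmf x hx, hao m hmf hme x hx]
  refine ⟨a * H, hM _ ((mem_omega_iff_even h.nondeg hexc (hvs.mul hws)).2 ⟨heven, hsq⟩)
    (mem_decompositionStabilizer_of_maps (h.injective (by omega)) h.dim fun m => ?_), hmaps, hmaps', hfix⟩
  rcases eq_or_ne m f with rfl | hmf
  · exact ⟨e, hmaps⟩
  rcases eq_or_ne m e with rfl | hme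
  · exact ⟨f, hmaps'⟩
  exact ⟨m, fun x hx => by
    show mat Q (a * H) *ᵥ x ∈ D m
    rw [hfix m hmf hme x hx]; exact hx⟩

omit hn hM hq hb ht in
/-- Members orthogonal to `r` compensate every reflection. -/
theorem DSys.comp_of_perp {r : ι → F} {f e : Fin t} (hfe : f ≠ e) (hre : r ∈ qperp Q (D e)) :
    Comp Q D r f := fun c hc => by
  obtain ⟨z', hz', hq'⟩ := exists_value_mem (h.nd e).inf_qperp (by rw [h.dim]) c hc
  exact ⟨e, hfe.symm, z', hz', hre z' hz', ⟨c, by rw [hq']⟩, by rwa [hq']⟩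

omit hn hM hq hb ht in
/-- Components of opposite values compensate every reflection, when `-1` is not a square. -/
theorem DSys.comp_of_opp {r : ι → F} {f m₁ m₂ : Fin t} {z₁ z₂ : ι → F} (hm₁ : m₁ ≠ f) (hm₂ : m₂ ≠ f)
    (hz₁ : z₁ ∈ D m₁) (hz₂ : z₂ ∈ D m₂) (hq₁ : Q z₁ ≠ 0) (hQ₂ : Q z₂ = -Q z₁) (hneg : ¬ IsSquare (-1 : F))
    (hr₁ : ∀ y ∈ D m₁, 𝔅 y z₁ = 0 → 𝔅 y r = 0) (hr₂ : ∀ y ∈ D m₂, 𝔅 y z₂ = 0 → 𝔅 y r = 0) :
    Comp Q D r f := by
  have h2 : (2 : F) ≠ 0 := fun e => hneg ⟨1, by linear_combination (-1 : F) * e⟩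
  have hq₂ : Q z₂ ≠ 0 := by rw [hQ₂]; exact neg_ne_zero.2 hq₁
  have hnq : ∀ {i : Fin t} {z : ι → F}, z ∈ D i → Q z ≠ 0 →
      ∃ n ∈ D i, 𝔅 n z = 0 ∧ Q n ≠ 0 ∧ n ∉ Submodule.span F {z} := by
    intro i z hz hzq
    obtain ⟨n, hn', hn0, hzn⟩ := exists_perp_ne h.nondeg (h.dim i) z
    refine ⟨n, hn', by rw [QuadraticMap.polar_comm]; exact hzn, fun e => ?_, fun hm => ?_⟩
    · obtain ⟨d, hd⟩ := Submodule.mem_span_singleton.1 ((h.nd i).mem_span_singular (h.dim i) hn' hz hn0 e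
        (by rw [QuadraticMap.polar_comm]; exact hzn))
      exact hzq (by rw [← hd, QuadraticMap.map_smul, e, smul_zero])
    · obtain ⟨d, rfl⟩ := Submodule.mem_span_singleton.1 hm
      rw [QuadraticMap.polar_smul_right, polar_self', smul_eq_mul, mul_eq_zero, mul_eq_zero] at hzn
      rcases hzn with rfl | e | e
      · exact hn0 (zero_smul _ _)
      · exact h2 e
      · exact hzq e
  obtain ⟨n₁, hn₁, hzn₁, hnq₁, -⟩ := hnq hz₁ hq₁
  obtain ⟨n₂, hn₂, hzn₂, hnq₂, hspan⟩ := hnq hz₂ hq₂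
  have hns : ¬ IsSquare (Q n₁ * Q n₂) := by
    rintro ⟨σ, hσ⟩
    obtain ⟨e, he⟩ := h.iso m₁ m₂
    have hz20 : z₂ ≠ 0 := fun e0 => hq₂ (by rw [e0, QuadraticMap.map_zero])
    obtain ⟨α, β, hu⟩ := plane_span (h.dim m₂) hz₂ hn₂ hz20 hspan (e ⟨z₁, hz₁⟩).2
    obtain ⟨γ, δ, hv⟩ := plane_span (h.dim m₂) hz₂ hn₂ hz20 hspan (e ⟨n₁, hn₁⟩).2
    have hzn : 𝔅 z₂ n₂ = 0 := by rw [QuadraticMap.polar_comm]; exact hzn₂
    have hQ : ∀ a b : F, Q (a • z₂ + b • n₂) = a ^ 2 * Q z₂ + b ^ 2 * Q n₂ := fun a b => by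
      rw [QuadraticMap.map_add (⇑Q), QuadraticMap.map_smul, QuadraticMap.map_smul, QuadraticMap.polar_smul_left,
        QuadraticMap.polar_smul_right, hzn]
      simp only [smul_eq_mul, mul_zero, add_zero]
      ring
    have e1 := he ⟨z₁, hz₁⟩
    have e2 := he ⟨n₁, hn₁⟩
    have e3 := he (⟨z₁, hz₁⟩ + ⟨n₁, hn₁⟩)
    rw [← hu, hQ] at e1
    rw [← hv, hQ] at e2
    rw [map_add, Submodule.coe_add, Submodule.coe_add, ← hu, ← hv,
      show α • z₂ + β • n₂ + (γ • z₂ + δ • n₂) = (α + γ) • z₂ + (β + δ) • n₂ by module, hQ,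
      QuadraticMap.map_add (⇑Q), show 𝔅 z₁ n₁ = 0 by rw [QuadraticMap.polar_comm]; exact hzn₁, add_zero] at e3
    have e4 : α * γ * Q z₂ + β * δ * Q n₂ = 0 :=
      mul_left_cancel₀ h2 (by linear_combination e3 - e1 - e2)
    have key : Q z₁ * Q n₁ = (α * δ - β * γ) ^ 2 * (Q z₂ * Q n₂) := by
      rw [← e1, ← e2]
      linear_combination (α * γ * Q z₂ + β * δ * Q n₂) * e4
    rw [hQ₂] at key
    have hkey : Q n₁ = -((α * δ - β * γ) ^ 2 * Q n₂) :=
      mul_left_cancel₀ hq₁ (by linear_combination key)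
    have hσ0 : (α * δ - β * γ) * Q n₂ ≠ 0 :=
      mul_ne_zero (fun e0 => hnq₁ (by rw [hkey, e0]; ring)) hnq₂
    refine hneg ⟨σ / ((α * δ - β * γ) * Q n₂), ?_⟩
    have hx0 := left_ne_zero_of_mul hσ0
    rw [div_mul_div_comm, ← hσ, hkey]
    field_simp
  intro c hc
  by_cases hc₁ : IsSquare (c * Q n₁)
  · exact ⟨m₁, hm₁, n₁, hn₁, hr₁ n₁ hn₁ hzn₁, hc₁, hnq₁⟩
  refine ⟨m₂, hm₂, n₂, hn₂, hr₂ n₂ hn₂ hzn₂, ?_, hnq₂⟩
  by_contra hc₂
  obtain ⟨σ, hσ⟩ := isSquare_mul_of_not_isSquare hc₁ hc₂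
  exact hns ⟨σ / c, by field_simp; linear_combination hσ⟩

omit ht in
/-- A root element seen by a member fills it. -/
theorem spread {r w : ι → F} {f : Fin t} (hrq : Q r = 0) (hrf : r ∈ qperp Q (D f))
    (hcomp : Comp Q D r f) (hw : RootMem M r w) (hrw : 𝔅 r w = 0) (hwf : w ∉ qperp Q (D f)) :
    D f ≤ rootSpace M hrq := by
  have hperp : ∀ x ∈ D f, 𝔅 r x = 0 := fun x hx => by rw [QuadraticMap.polar_comm]; exact hrf x hx
  suffices hall : ∀ x ∈ D f, RootMem M r x from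
    fun x hx => ⟨hperp x hx, fun c => hall _ ((D f).smul_mem c hx)⟩
  let T : (ι → F) → Prop := fun x => x ∈ D f ∧ RootMem M r x
  have hadd : ∀ {x y}, T x → T y → T (x + y) := fun {x y} hx hy =>
    ⟨(D f).add_mem hx.1 hy.1, hx.2.add hrq (hperp x hx.1) (hperp y hy.1) hy.2⟩
  have hneg : ∀ {x}, T x → T (-x) := fun {x} hx => ⟨(D f).neg_mem hx.1, hx.2.neg hrq (hperp x hx.1)⟩
  have hsub : ∀ {x y}, T x → T y → T (x - y) := fun {x y} hx hy => sub_eq_add_neg x y ▸ hadd hx (hneg hy)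
  have h0 : T 0 := ⟨(D f).zero_mem, RootMem.zero⟩
  -- reflections of the member, compensated in another one
  have hrefl : ∀ {z x}, z ∈ D f → Q z ≠ 0 → T x → T (refl Q z x) := by
    intro z x hz hzq hx
    obtain ⟨m, hmf, z', hz', hz'r, hz'sq, hz'0⟩ := hcomp (Q z) hzq
    have hk := refl2_mem h hn hM hzq hz'0 hz hz' hz'sq
    have := hx.2.conj hk
    rw [mat_refl_two, mat_refl_two, refl_fix hz'r, refl_fix (hrf z hz),
      refl_fix (h.perp hmf hz' hx.1)] at this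
    exact ⟨refl_mem_member h hz hx.1, this⟩
  have hdiff : ∀ {z x}, z ∈ D f → Q z ≠ 0 → T x → T (((Q z)⁻¹ * 𝔅 z x) • z) := by
    intro z x hz hzq hx
    have := hsub hx (hrefl hz hzq hx)
    rwa [refl_apply, sub_sub_cancel] at this
  -- a nonzero vector of the member
  obtain ⟨a₀, ha₀, ha₀0⟩ : ∃ a, T a ∧ a ≠ 0 := by
    obtain ⟨z, hz, z', hz', hzq, heq, hfree⟩ := h.exists_rot hq hb f
    have hz'q : Q z' ≠ 0 := by rwa [heq]
    have hk := refl2_mem h hn hM hzq hz'q hz hz' ⟨Q z, by rw [heq]⟩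
    have hconj := hw.conj hk
    rw [mat_refl_two, mat_refl_two, refl_fix (hrf z' hz'), refl_fix (hrf z hz)] at hconj
    have hrk : 𝔅 r (refl Q z (refl Q z' w)) = 0 := by
      simp only [refl_apply, QuadraticMap.polar_sub_right, QuadraticMap.polar_smul_right, hperp z hz, hperp z' hz',
        hrw, smul_zero, sub_zero]
    refine ⟨refl Q z (refl Q z' w) - w, ⟨?_, ?_⟩, sub_ne_zero.2 fun e => hwf (hfree w (by rw [e, e]))⟩
    · rw [refl_apply Q z, refl_apply Q z']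
      convert (D f).neg_mem ((D f).add_mem ((D f).smul_mem ((Q z')⁻¹ * 𝔅 z' w) hz')
        ((D f).smul_mem ((Q z)⁻¹ * 𝔅 z (w - ((Q z')⁻¹ * 𝔅 z' w) • z')) hz)) using 1
      abel
    · rw [sub_eq_add_neg]
      exact hconj.add hrq hrk (by rw [QuadraticMap.polar_neg_right, hrw, neg_zero]) (hw.neg hrq hrw)
  obtain ⟨y, hy, hya, hyq, -⟩ := h.good_vec hq hb ha₀.1 ha₀0
  set a := (Q y)⁻¹ • y with ha
  have hTa : T a := by
    have := hdiff hy hyq ha₀
    rwa [hya, mul_one] at this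
  have haq : Q a ≠ 0 := by
    rw [ha, QuadraticMap.map_smul, smul_eq_mul]
    exact mul_ne_zero (mul_ne_zero (inv_ne_zero hyq) (inv_ne_zero hyq)) hyq
  have ha0 : a ≠ 0 := fun e => haq (by rw [e, QuadraticMap.map_zero])
  by_cases hsing : ∃ x ∈ D f, x ≠ 0 ∧ Q x = 0
  · obtain ⟨s, hs, hs0, hsq⟩ := hsing
    have h7 := hb f s hs hs0 hsq
    obtain ⟨f', hf', hfq, hsf⟩ := exists_partner_in hs hsq (by
      obtain ⟨f', hf', hsf⟩ := (h.nd f).exists_polar_one hs hs0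
      exact ⟨f', hf', by rw [hsf]; exact one_ne_zero⟩)
    have hss : 𝔅 s s = 0 := by rw [polar_self', hsq, mul_zero]
    have hff : 𝔅 f' f' = 0 := by rw [polar_self', hfq, mul_zero]
    have hfs : 𝔅 f' s = 1 := by rw [QuadraticMap.polar_comm, hsf]
    have hmove : ∀ {α β μ : F}, μ ≠ 0 → T (α • s + β • f') → T ((-(β / μ)) • s + (-(α * μ)) • f') := by
      intro α β μ hμ hT'
      have hz : s + μ • f' ∈ D f := (D f).add_mem hs ((D f).smul_mem _ hf')
      have hzq : Q (s + μ • f') = μ := by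
        rw [QuadraticMap.map_add (⇑Q), QuadraticMap.map_smul, QuadraticMap.polar_smul_right, hsq, hfq, hsf]
        simp
      have := hrefl hz (by rwa [hzq]) hT'
      rw [refl_apply, hzq] at this
      convert this using 1
      simp only [QuadraticMap.polar_add_left, QuadraticMap.polar_add_right, QuadraticMap.polar_smul_left,
        QuadraticMap.polar_smul_right, hss, hff, hsf, hfs, smul_eq_mul]
      match_scalars <;> field_simp <;> ring
    have hpe := eq_pair_coords (h.dim f) hs hf' hsq hfq hsf hTa.1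
    set α := 𝔅 f' a
    set β := 𝔅 s a
    have hαβ : α * β ≠ 0 := fun e => haq (by
      rw [hpe, QuadraticMap.map_add (⇑Q), QuadraticMap.map_smul, QuadraticMap.map_smul, hsq, hfq,
        QuadraticMap.polar_smul_left, QuadraticMap.polar_smul_right, hsf]
      simpa using e)
    obtain ⟨hα, hβ⟩ := mul_ne_zero_iff.1 hαβ
    have hcirc : ∀ κ : F, κ ≠ 0 → T (κ • s + (α * β / κ) • f') := by
      intro κ hκ
      have := hmove (μ := -β / κ) (div_ne_zero (neg_ne_zero.2 hβ) hκ) (hpe ▸ hTa)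
      convert this using 3 <;> field_simp
    classical
    obtain ⟨m, hm⟩ := card_le_filter (s := ({0, -1} : Finset F) ∪
        Finset.univ.filter fun m : F => 1 * m ^ 2 + 1 * m + 1 = 0) (by
      have e1 := Finset.card_union_le ({0, -1} : Finset F) (Finset.univ.filter fun m : F => 1 * m ^ 2 + 1 * m + 1 = 0)
      have e2 := card_roots_le_two (A := (1 : F)) (B := 1) 1 (fun e => absurd e one_ne_zero)
      have e3 : ({0, -1} : Finset F).card ≤ 2 := Finset.card_le_two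
      omega)
    simp only [Finset.mem_union, Finset.mem_insert, Finset.mem_singleton, Finset.mem_filter, Finset.mem_univ,
      true_and, not_or, one_mul] at hm
    obtain ⟨⟨hm0, hm1⟩, hm2⟩ := hm
    have hm1' : 1 + m ≠ 0 := fun e => hm1 (by linear_combination e)
    set σ := (1 + m + m ^ 2) / (1 + m) with hσ
    have hσ0 : σ ≠ 0 := div_ne_zero (fun e => hm2 (by linear_combination e)) hm1'
    have hTs : T (σ • s + (0 : F) • f') := by
      have := hadd (hadd (hcirc 1 one_ne_zero) (hcirc m hm0)) (hcirc (-(m / (1 + m))) (neg_ne_zero.2 (div_ne_zero hm0 hm1')))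
      convert this using 1
      rw [hσ]
      match_scalars <;> field_simp <;> ring
    have hf_all : ∀ y : F, T ((0 : F) • s + y • f') := by
      intro y
      by_cases hy : y = 0
      · subst hy; simpa using h0
      have := hmove (μ := -(y / σ)) (neg_ne_zero.2 (div_ne_zero hy hσ0)) hTs
      convert this using 3 <;> field_simp <;> ring
    have hs_all : ∀ y : F, T (y • s + (0 : F) • f') := by
      intro y
      have := hmove (μ := (1 : F)) one_ne_zero (hf_all (-y))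
      convert this using 3 <;> ring
    intro x hx
    have := hadd (hs_all (𝔅 f' x)) (hf_all (𝔅 s x))
    rw [zero_smul, zero_smul, add_zero, zero_add, ← eq_pair_coords (h.dim f) hs hf' hsq hfq hsf hx] at this
    exact this.2
  · have hne : ∀ {x}, x ∈ D f → x ≠ 0 → Q x ≠ 0 := fun {x} hx hx0 e => hsing ⟨x, hx, hx0, e⟩
    have hne1 : ∀ {x}, x ∈ D f → 𝔅 x a = 1 → Q x ≠ 0 := fun {x} hx hxa => hne hx fun e => by
      rw [e, QuadraticMap.polar_zero_left] at hxa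
      exact zero_ne_one hxa
    obtain ⟨z₀, hz₀, n, hn', hz₀a, hna, -, hAB, hQs⟩ := h.exists_line hTa.1 ha0
    classical
    set S := Finset.univ.image fun s : F => Q n * s ^ 2 + 𝔅 z₀ n * s + Q z₀ with hS
    have hS0 : ∀ u ∈ S, u ≠ 0 ∧ T ((u * Q a)⁻¹ • a) := by
      intro u hu
      simp only [hS, Finset.mem_image, Finset.mem_univ, true_and] at hu
      obtain ⟨s, rfl⟩ := hu
      rw [← hQs]
      set z := z₀ + s • n with hz
      have hzm : z ∈ D f := (D f).add_mem hz₀ ((D f).smul_mem _ hn')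
      have hza : 𝔅 z a = 1 := by
        rw [hz, QuadraticMap.polar_add_left, QuadraticMap.polar_smul_left, hz₀a, hna, smul_zero, add_zero]
      have hzq := hne1 hzm hza
      set z' := (Q a)⁻¹ • a - z with hz'
      have hz'm : z' ∈ D f := (D f).sub_mem ((D f).smul_mem _ hTa.1) hzm
      have hz'a : 𝔅 z' a = 1 := by
        rw [hz', QuadraticMap.polar_sub_left, QuadraticMap.polar_smul_left, polar_self', hza, smul_eq_mul]
        field_simp
        norm_num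
      have hz'q : Q z' = Q z := by
        rw [hz', sub_eq_add_neg, QuadraticMap.map_add (⇑Q), QuadraticMap.map_smul, QuadraticMap.map_neg,
          QuadraticMap.polar_neg_right, QuadraticMap.polar_smul_left, QuadraticMap.polar_comm (⇑Q) a z, hza,
          smul_eq_mul, smul_eq_mul]
        field_simp
        ring
      have := hadd (hdiff hzm hzq hTa) (hdiff hz'm (hne1 hz'm hz'a) hTa)
      refine ⟨hzq, ?_⟩
      convert this using 1
      rw [hza, hz'a, hz'q, hz']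
      match_scalars <;> field_simp <;> ring
    have hall : ∀ c : F, T (c • a) := by
      refine forall_of_half (fun c d hc hd => by rw [add_smul]; exact hadd hc hd)
        (insert 0 (S.image fun u => (u * Q a)⁻¹)) (fun c hc => ?_) ?_
      · simp only [Finset.mem_insert, Finset.mem_image] at hc
        rcases hc with rfl | ⟨u, hu, rfl⟩
        · rw [zero_smul]; exact h0
        · exact (hS0 u hu).2
      · rw [Finset.card_insert_of_notMem (fun hmem => by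
            obtain ⟨u, hu, hu0⟩ := Finset.mem_image.1 hmem
            exact inv_ne_zero (mul_ne_zero (hS0 u hu).1 haq) hu0),
          Finset.card_image_of_injective _ fun u u' e => mul_right_cancel₀ haq (inv_injective e)]
        have := sum_values (C := Q z₀) hAB
        rw [← hS] at this
        omega
    have hoff : ∀ {x}, x ∈ D f → 𝔅 x a ≠ 0 → T x := by
      intro x hx hxa
      have hxq := hne hx fun e => hxa (by rw [e, QuadraticMap.polar_zero_left])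
      have := hdiff hx hxq (hall (Q x / 𝔅 x a))
      rwa [QuadraticMap.polar_smul_right, smul_eq_mul, div_mul_cancel₀ _ hxa, inv_mul_cancel₀ hxq, one_smul] at this
    intro x hx
    by_cases hxa : 𝔅 x a = 0
    · obtain ⟨z, hz, hza⟩ : ∃ z ∈ D f, 𝔅 z a = 1 := ⟨z₀, hz₀, hz₀a⟩
      have := hsub (hoff ((D f).add_mem hx hz) (by
        rw [QuadraticMap.polar_add_left, hxa, hza, zero_add]; exact one_ne_zero))
        (hoff hz (by rw [hza]; exact one_ne_zero))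
      rw [add_sub_cancel_right] at this
      exact this.2
    · exact (hoff hx hxa).2

omit hq hb ht in
/-- A filled member propagates to all members orthogonal to the singular vector. -/
theorem spread_all {r : ι → F} {hrq : Q r = 0} {f : Fin t} (hrf : r ∈ qperp Q (D f))
    (hf : D f ≤ rootSpace M hrq) {m : Fin t} (hm : r ∈ qperp Q (D m)) : D m ≤ rootSpace M hrq := by
  rcases eq_or_ne m f with rfl | hmf
  · exact hf
  obtain ⟨k, hk, hfm, -, hoth⟩ := h.exists_transfer hn hM hmf.symm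
  have hkr : mat Q k *ᵥ r = r := by
    obtain ⟨c, hc, rfl⟩ := h.exists_comp r
    rw [mulVec_sum]
    refine Finset.sum_congr rfl fun i _ => ?_
    by_cases hi : i = f ∨ i = m
    · rcases hi with rfl | rfl
      · rw [h.comp_zero hc hrf, mulVec_zero]
      · rw [h.comp_zero hc hm, mulVec_zero]
    · push Not at hi
      exact hoth i hi.1 hi.2 _ (hc i)
  intro y hy
  rw [← h.gmap_member hfm] at hy
  obtain ⟨x, hx, rfl⟩ := hy
  exact cast_rootSpace hkr (rootSpace_map hk (hf hx) (by rw [quad_mulVec, hrq]))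

/-- A filled member orthogonal to a singular vector, with compensators, gives `Ω`. -/
theorem finish {r : ι → F} {hrq : Q r = 0} (hr0 : r ≠ 0) {f : Fin t} (hrf : r ∈ qperp Q (D f))
    (hcomp : Comp Q D r f) (hf : D f ≤ rootSpace M hrq) : Cfsg.Omega F ⇑Q ≤ M := by
  classical
  obtain ⟨rc, hrc, hrsum⟩ := h.exists_comp r
  obtain ⟨c, hc⟩ : ∃ c, r ∉ qperp Q (D c) := by
    by_contra! hall
    exact hr0 (h.eq_zero_of_perp_all hall)
  have hcf : c ≠ f := fun e => hc (e ▸ hrf)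
  have hrc0 : rc c ≠ 0 := fun e0 => hc fun z hz => by
    show 𝔅 z r = 0
    rw [← hrsum, h.polar_comp hrc hz, e0, QuadraticMap.polar_zero_right]
  obtain ⟨z, hz, hzr, hzq, -⟩ := h.good_vec hq hb (hrc c) hrc0
  have hzr' : 𝔅 z r = 1 := by rw [← hrsum, h.polar_comp hrc hz, hzr]
  obtain ⟨m, hmf, z', hz', hz'r, hz'sq, hz'0⟩ := hcomp (Q z) hzq
  obtain ⟨w, hw, hwq⟩ := exists_value_mem (h.nd f).inf_qperp (by rw [h.dim]) (-Q z) (neg_ne_zero.2 hzq)
  have hk := refl2_mem h hn hM hzq hz'0 hz hz' hz'sq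
  set k := reflIso Q z hzq * reflIso Q z' hz'0 with hkdef
  set δ := (-(Q z)⁻¹) • z with hδ
  have hkr : mat Q k *ᵥ r = r + δ := by
    rw [hkdef, mat_refl_two, refl_fix hz'r, refl_apply, hzr', hδ, mul_one, neg_smul, sub_eq_add_neg]
  have hrw : 𝔅 r w = 0 := by rw [QuadraticMap.polar_comm]; exact hrf w hw
  have hE := rootSpace_iso (hf hw)
  set s := δ + (-(Q z)⁻¹) • w with hs
  have hsimg : mat Q (eichIso Q r w hrq hrw * k) *ᵥ r = s := by
    rw [mat_mul, ← mulVec_mulVec, hkr, mat_eichIso, eich_mulVec]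
    have e1 : 𝔅 r (r + δ) = -(Q z)⁻¹ := by
      rw [QuadraticMap.polar_add_right, polar_self', hrq, hδ, QuadraticMap.polar_smul_right,
        QuadraticMap.polar_comm (⇑Q) r z, hzr', mul_zero, zero_add, smul_eq_mul, mul_one]
    have e2 : 𝔅 w (r + δ) = 0 := by
      rw [QuadraticMap.polar_add_right, hδ, QuadraticMap.polar_smul_right, h.perp (Ne.symm hcf) hw hz,
        show 𝔅 w r = 0 from hrf w hw, smul_zero, add_zero]
    rw [e1, e2, hwq, hs, hδ]
    match_scalars <;> field_simp <;> ring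
  have hsq : Q s = 0 := by rw [← hsimg, quad_mulVec, hrq]
  have hδm : δ ∈ D c := (D c).smul_mem _ hz
  have hwm : (-(Q z)⁻¹) • w ∈ D f := (D f).smul_mem _ hw
  have hsperp : ∀ m, m ≠ c → m ≠ f → s ∈ qperp Q (D m) := fun m hmc hmf =>
    Submodule.add_mem _ (h.mem_qperp hmc hδm) (h.mem_qperp hmf hwm)
  -- a member filled for `s`
  obtain ⟨e, hec, hef, hse⟩ : ∃ e, e ≠ c ∧ e ≠ f ∧ D e ≤ rootSpace M hsq := by
    have himg : ∀ {y}, y ∈ rootSpace M hrq →
        mat Q (eichIso Q r w hrq hrw * k) *ᵥ y ∈ rootSpace M hsq := fun {y} hy =>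
      cast_rootSpace hsimg (rootSpace_map (M.mul_mem hE hk) hy (by rw [quad_mulVec, hrq]))
    have hkfix : ∀ {a y}, a ≠ c → a ≠ m → y ∈ D a → mat Q k *ᵥ y = y := fun {a y} hac ham hy => by
      rw [hkdef, mat_refl_two, refl_fix (h.perp ham.symm hz' hy), refl_fix (h.perp hac.symm hz hy)]
    by_cases hbig : ∃ e, e ≠ c ∧ e ≠ f ∧ r ∉ qperp Q (D e)
    · obtain ⟨e, hec, hef, hre⟩ := hbig
      obtain ⟨e₂, he₂⟩ := h.exists_free {c, f, e} (by
        have := Finset.card_le_three (a := c) (b := f) (c := e); omega)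
      simp only [Finset.mem_insert, Finset.mem_singleton, not_or] at he₂
      obtain ⟨u, hu, hwu⟩ := (h.nd f).exists_polar_one hw (fun e0 => hzq (by
        rw [e0, QuadraticMap.map_zero] at hwq
        exact neg_eq_zero.1 hwq.symm))
      have himgu := himg (hf hu)
      rw [mat_mul, ← mulVec_mulVec, hkfix (Ne.symm hcf) (Ne.symm hmf) hu, mat_eichIso, eich_mulVec, hwu,
        show 𝔅 r u = 0 from (mem_rootSpace.1 (hf hu)).1] at himgu
      simp only [zero_smul, one_smul, sub_zero, zero_sub, zero_mul, mul_zero, neg_zero, add_zero] at himgu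
      refine ⟨e, hec, hef, spread h hn hM hq hb hsq (hsperp e hec hef)
        (h.comp_of_perp (Ne.symm he₂.2.2) (hsperp e₂ he₂.1 he₂.2.1)) (w := u + -r)
        (by simpa using himgu.2 1) (mem_rootSpace.1 himgu).1 fun hm => hre ?_⟩
      have := Submodule.sub_mem _ hm (h.mem_qperp hef hu)
      rwa [add_sub_cancel_left, neg_mem_iff] at this
    · push Not at hbig
      obtain ⟨e, he⟩ := h.exists_free {c, f, m} (by
        have := Finset.card_le_three (a := c) (b := f) (c := m); omega)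
      simp only [Finset.mem_insert, Finset.mem_singleton, not_or] at he
      refine ⟨e, he.1, he.2.1, fun y hy => ?_⟩
      have hy' := spread_all h hn hM hrf hf (hbig e he.1 he.2.1) hy
      have := himg hy'
      rw [mat_mul, ← mulVec_mulVec, hkfix he.1 he.2.2 hy, mat_eichIso, eich_mulVec,
        h.perp (Ne.symm he.2.1) hw hy, show 𝔅 r y = 0 from (mem_rootSpace.1 hy').1] at this
      simpa using this
  have hse0 := hsperp e hec hef
  have hsall : ∀ j, j ≠ c → j ≠ f → D j ≤ rootSpace M hsq := fun j hjc hjf =>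
    spread_all h hn hM hse0 hse (hsperp j hjc hjf)
  -- a disjoint translate of `s`
  obtain ⟨c', hc'⟩ := h.exists_free {c, f, e} (by
    have := Finset.card_le_three (a := c) (b := f) (c := e); omega)
  obtain ⟨d, hd⟩ := h.exists_free {c, f, e, c'} (by
    have := Finset.card_le_four (a := c) (b := f) (c := e) (d := c'); omega)
  simp only [Finset.mem_insert, Finset.mem_singleton, not_or] at hc' hd
  obtain ⟨g₁, hg₁, hg₁c, -, hg₁o⟩ := h.exists_transfer hn hM (Ne.symm hc'.1)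
  obtain ⟨g₂, hg₂, hg₂f, -, hg₂o⟩ := h.exists_transfer hn hM (Ne.symm hd.2.1)
  have hπ : g₂ * g₁ ∈ M := M.mul_mem hg₂ hg₁
  set π := g₂ * g₁ with hπdef
  set s' := mat Q π *ᵥ s with hs'
  have hs'q : Q s' = 0 := by rw [hs', quad_mulVec, hsq]
  have hπδ : mat Q π *ᵥ δ ∈ D c' := by
    rw [hπdef, mat_mul, ← mulVec_mulVec, hg₂o c' hc'.2.1 (Ne.symm hd.2.2.2) _ (hg₁c δ hδm)]
    exact hg₁c δ hδm
  have hπw : mat Q π *ᵥ ((-(Q z)⁻¹) • w) ∈ D d := by
    rw [hπdef, mat_mul, ← mulVec_mulVec, hg₁o f (Ne.symm hcf) (Ne.symm hc'.2.1) _ hwm]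
    exact hg₂f _ hwm
  have hs'perp : ∀ m, m ≠ c' → m ≠ d → s' ∈ qperp Q (D m) := fun m hmc hmd => by
    rw [hs', hs, mulVec_add]
    exact Submodule.add_mem _ (h.mem_qperp hmc hπδ) (h.mem_qperp hmd hπw)
  have hs'e : D e ≤ rootSpace M hs'q := by
    intro y hy
    have hye : mat Q π *ᵥ y = y := by
      rw [hπdef, mat_mul, ← mulVec_mulVec, hg₁o e hec (Ne.symm hc'.2.2) y hy,
        hg₂o e hef (Ne.symm hd.2.2.1) y hy]
    have := rootSpace_map hπ (hse hy) (by rw [quad_mulVec, hsq])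
    rw [hye] at this
    exact this
  have hs'all : ∀ j, j ≠ c' → j ≠ d → D j ≤ rootSpace M hs'q := fun j hjc hjd =>
    spread_all h hn hM (hs'perp e (Ne.symm hc'.2.2) (Ne.symm hd.2.2.1)) hs'e (hs'perp j hjc hjd)
  have hδ0 : δ ≠ 0 := by
    rw [hδ]
    exact smul_ne_zero (neg_ne_zero.2 (inv_ne_zero hzq)) fun e0 => hzq (by rw [e0, QuadraticMap.map_zero])
  -- the two exceptional members
  have hss' : 𝔅 s' s = 0 := by
    rw [hs, QuadraticMap.polar_add_right, QuadraticMap.polar_comm (⇑Q) s' δ,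
      QuadraticMap.polar_comm (⇑Q) s' (_ • w), show 𝔅 δ s' = 0 from hs'perp c (Ne.symm hc'.1) (Ne.symm hd.1) δ hδm,
      show 𝔅 ((-(Q z)⁻¹) • w) s' = 0 from hs'perp f (Ne.symm hc'.2.1) (Ne.symm hd.2.1) _ hwm, add_zero]
  have hs'R : s' ∈ rootSpace M hsq := by
    have hsum : mat Q π *ᵥ δ + mat Q π *ᵥ ((-(Q z)⁻¹) • w) = s' := (mulVec_add _ _ _).symm
    rw [← hsum]
    exact Submodule.add_mem _ (hsall c' hc'.1 hc'.2.1 hπδ) (hsall d hd.1 hd.2.1 hπw)
  obtain ⟨w₂, hw₂, hδw₂⟩ := (h.nd c').exists_polar_one hπδ (fun e0 => hδ0 (by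
    have := congrArg (mat Q π⁻¹ *ᵥ ·) e0
    simpa only [mulVec_inv_left, mulVec_zero] using this))
  have hs'w₂ : 𝔅 s' w₂ = 1 := by
    rw [hs', hs, mulVec_add, QuadraticMap.polar_add_left, hδw₂, h.perp hd.2.2.2 hπw hw₂, add_zero]
  have hpair : ∀ xc ∈ D c, ∀ xf ∈ D f, 𝔅 s (xc + xf) = 0 → xc + xf ∈ rootSpace M hsq := by
    intro xc hxc xf hxf hsy
    have hy' : xc + xf ∈ rootSpace M hs'q := Submodule.add_mem _ (hs'all c (Ne.symm hc'.1) (Ne.symm hd.1) hxc)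
      (hs'all f (Ne.symm hc'.2.1) (Ne.symm hd.2.1) hxf)
    set y := xc + xf with hy
    have hs'y := (mem_rootSpace.1 hy').1
    have hyw₂ : 𝔅 y w₂ = 0 := by
      rw [hy, QuadraticMap.polar_add_left, h.perp (Ne.symm hc'.1) hxc hw₂, h.perp (Ne.symm hc'.2.1) hxf hw₂, add_zero]
    have hfixs : mat Q (eichIso Q s' y hs'q hs'y) *ᵥ s = s := by
      rw [mat_eichIso, eich_mulVec, hss', QuadraticMap.polar_comm (⇑Q) y s, hsy]
      simp
    have := rootSpace_fixed (rootSpace_iso hy') hfixs (hsall c' hc'.1 hc'.2.1 hw₂)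
    rw [mat_eichIso, eich_mulVec, hs'w₂, hyw₂, add_sub_cancel_left, one_smul, zero_smul, sub_zero, mul_one] at this
    exact ((rootSpace M hsq).sub_mem_iff_left (Submodule.smul_mem _ _ hs'R)).1 this
  have hfull : Full M s := by
    intro v hv
    obtain ⟨cv, hcv, rfl⟩ := h.exists_comp v
    have hsplit : ∑ i, cv i = (cv c + cv f) + ∑ i ∈ (Finset.univ.erase c).erase f, cv i := by
      rw [← Finset.add_sum_erase _ _ (Finset.mem_univ c),
        ← Finset.add_sum_erase _ _ (Finset.mem_erase.2 ⟨hcf.symm, Finset.mem_univ f⟩), add_assoc]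
    have hrest : ∑ i ∈ (Finset.univ.erase c).erase f, cv i ∈ rootSpace M hsq :=
      Submodule.sum_mem _ fun i hi => hsall i (Finset.mem_erase.1 (Finset.mem_erase.1 hi).2).1
        (Finset.mem_erase.1 hi).1 (hcv i)
    rw [hsplit] at hv ⊢
    have hy : 𝔅 s (cv c + cv f) = 0 := by
      rwa [QuadraticMap.polar_add_right, (mem_rootSpace.1 hrest).1, add_zero] at hv
    simpa using (Submodule.add_mem _ (hpair _ (hcv c) _ (hcv f) hy) hrest).2 1
  obtain ⟨y, hy, hyδ, hyq, -⟩ := h.good_vec hq hb hδm hδ0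
  obtain ⟨y', hy', hy'q⟩ := exists_value_mem (h.nd e).inf_qperp (by rw [h.dim]) (Q y) hyq
  have hky := refl2_mem h hn hM hyq (by rwa [hy'q]) hy hy' ⟨Q y, by rw [hy'q]⟩
  have hys : 𝔅 y s = 1 := by
    rw [hs, QuadraticMap.polar_add_right, hyδ, h.perp hcf hy hwm, add_zero]
  refine omega_le_of_full_pair h.nondeg hn hsq (by rw [quad_mulVec, hsq]) ?_ hfull (hfull.conj hky)
  rw [mat_refl_two, refl_fix (hse0 y' hy'), refl_apply, hys,
    QuadraticMap.polar_sub_right, QuadraticMap.polar_smul_right, polar_self', hsq, QuadraticMap.polar_comm (⇑Q) s y,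
    hys]
  simpa using hyq

/-- A shear of a plane along a singular vector with small support. -/
theorem omega_le_of_shear (hP : Rot Q M P g) {p₁ p₂ r : ι → F} (hp₁ : p₁ ∈ P) (hp₂ : p₂ ∈ P) {k : Isom Q}
    (hk : k ∈ M) (hfix : mat Q k *ᵥ p₁ = p₁) (hr : mat Q k *ᵥ p₂ = p₂ + r) (hr0 : r ≠ 0) (hrq : Q r = 0)
    (C : Finset (Fin t)) (hrC : ∀ m ∉ C, r ∈ qperp Q (D m)) (hcomp : ∀ f ∉ C, Comp Q D r f)
    (hout : ∃ m ∉ C, p₁ ∉ qperp Q (D m)) : Cfsg.Omega F ⇑Q ≤ M := by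
  classical
  obtain ⟨m₀, hm₀, hp₁m⟩ := hout
  have hp₁0 : p₁ ≠ 0 := fun e => hp₁m (e ▸ Submodule.zero_mem _)
  have hind : p₂ ∉ Submodule.span F {p₁} := fun hm => hr0 (by
    obtain ⟨c, rfl⟩ := Submodule.mem_span_singleton.1 hm
    rw [mulVec_smul, hfix] at hr
    simpa using hr)
  obtain ⟨n, hn', hn0, hpn⟩ := exists_perp_ne h.nondeg hP.dim p₁
  have hnp : 𝔅 n p₂ ≠ 0 := fun e => hn0 (hP.nd.eq_zero_of_two hP.dim hp₁ hp₂ hp₁0 hind hn' hpn
    (by rw [QuadraticMap.polar_comm, e]))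
  set v := (-(𝔅 n p₂)⁻¹) • n with hv
  have hvP : v ∈ P := P.smul_mem _ hn'
  have hv0 : v ≠ 0 := smul_ne_zero (neg_ne_zero.2 (inv_ne_zero hnp)) hn0
  have hv₁ : 𝔅 v p₁ = 0 := by rw [hv, QuadraticMap.polar_smul_left, QuadraticMap.polar_comm (⇑Q) n p₁, hpn, smul_zero]
  have hv₂ : 𝔅 v p₂ = -1 := by
    rw [hv, QuadraticMap.polar_smul_left, smul_eq_mul, neg_mul, inv_mul_cancel₀ hnp]
  obtain ⟨γ, hγ, f, hf, hwf⟩ : ∃ γ, Rot Q M P γ ∧ ∃ f ∉ C, v - mat Q γ *ᵥ v ∉ qperp Q (D f) := by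
    by_contra! hall
    set w₁ := v - mat Q g *ᵥ v with hw₁
    set w₂ := v - mat Q g⁻¹ *ᵥ v with hw₂
    have h1 := hall g hP
    have h2 := hall g⁻¹ hP.inv
    have hw₂P : w₂ ∈ P := P.sub_mem hvP (hP.inv.map_mem h.nondeg hvP)
    have hw₁P : w₁ ∈ P := P.sub_mem hvP (hP.map_mem h.nondeg hvP)
    have hw₂0 : w₂ ≠ 0 := sub_ne_zero.2 (Ne.symm (hP.inv.ne hvP hv0))
    by_cases hdep : w₁ ∈ Submodule.span F {w₂}
    swap
    · obtain ⟨α, β, he⟩ := plane_span hP.dim hw₂P hw₁P hw₂0 hdep hp₁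
      exact hp₁m (he ▸ Submodule.add_mem _ (Submodule.smul_mem _ _ (h2 m₀ hm₀)) (Submodule.smul_mem _ _ (h1 m₀ hm₀)))
    obtain ⟨c, hc⟩ := Submodule.mem_span_singleton.1 hdep
    have hgw : mat Q g *ᵥ w₂ = (-c) • w₂ := by
      rw [neg_smul, hc, hw₁, hw₂, mulVec_sub, mulVec_inv_right, neg_sub]
    have hc0 : c ≠ 0 := fun e => hw₂0 (by
      rw [e, neg_zero, zero_smul] at hgw
      have := congrArg (mat Q g⁻¹ *ᵥ ·) hgw
      simpa only [mulVec_inv_left, mulVec_zero] using this)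
    have hsq0 : Q w₂ = 0 := by
      have h3 := quad_mulVec Q g w₂
      rw [hgw, QuadraticMap.map_smul, smul_eq_mul] at h3
      by_contra hne
      have hcc : c * c = 1 := mul_right_cancel₀ hne (by linear_combination h3)
      refine hw₂0 (hP.nofix w₂ hw₂P ?_)
      rw [hgw, mulVec_smul, hgw, smul_smul, neg_mul_neg, hcc, one_smul]
    have hperp : 𝔅 w₂ v = 0 := by
      have h3 := quad_mulVec Q g v
      rw [show mat Q g *ᵥ v = v + (-c) • w₂ by rw [neg_smul, hc, hw₁]; abel, QuadraticMap.map_add (⇑Q),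
        QuadraticMap.map_smul Q (-c) w₂, hsq0, smul_zero, add_zero, add_eq_left, QuadraticMap.polar_smul_right, smul_eq_mul,
        mul_eq_zero, neg_eq_zero] at h3
      rw [QuadraticMap.polar_comm]
      exact h3.resolve_left hc0
    obtain ⟨d, hd⟩ := Submodule.mem_span_singleton.1 (hP.nd.mem_span_singular hP.dim hw₂P hvP hw₂0 hsq0 hperp)
    have hd0 : d ≠ 0 := fun e => hv0 (by rw [← hd, e, zero_smul])
    have : 𝔅 w₂ p₁ = 0 := by
      rw [← hd, QuadraticMap.polar_smul_left, smul_eq_mul] at hv₁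
      exact (mul_eq_zero.1 hv₁).resolve_left hd0
    obtain ⟨e, he⟩ := Submodule.mem_span_singleton.1 (hP.nd.mem_span_singular hP.dim hw₂P hp₁ hw₂0 hsq0 this)
    exact hp₁m (he ▸ Submodule.smul_mem _ _ (h2 m₀ hm₀))
  obtain ⟨hrP, hroot⟩ := hγ.root h.nondeg hk hp₁ hp₂ hp₁0 hind hfix hr hrq hvP hv₁ hv₂
  exact finish h hn hM hq hb ht (hrq := hrq) hr0 (hrC f hf) (hcomp f hf) (spread h hn hM hq hb hrq (hrC f hf)
    (hcomp f hf) hroot (hrP _ (P.sub_mem hvP (hγ.map_mem h.nondeg hvP))) hwf)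

/-- A fixed vector of the plane avoiding two members met by the plane and an absorber, or four members. -/
theorem omega_le_of_fixed (hP : Rot Q M P g) {p₁ p₂ : ι → F} (hp₁ : p₁ ∈ P) (hp₂ : p₂ ∈ P) (hp₁0 : p₁ ≠ 0)
    (G : Finset (Fin t)) (hG : ∀ m ∈ G, p₁ ∈ qperp Q (D m) ∧ p₂ ∉ qperp Q (D m))
    (hcase : (2 ≤ G.card ∧ ∃ e, e ∉ G ∧ p₁ ∈ qperp Q (D e) ∧ p₂ ∈ qperp Q (D e)) ∨ 4 ≤ G.card) :
    Cfsg.Omega F ⇑Q ≤ M := by
  classical
  obtain ⟨c, hc, hsum⟩ := h.exists_comp p₂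
  have hcm : ∀ {m}, m ∈ G → c m ≠ 0 := fun {m} hm e => (hG m hm).2 fun z hz => by
    show 𝔅 z p₂ = 0
    rw [← hsum, h.polar_comp hc hz, e, QuadraticMap.polar_zero_right]
  have hp2 : ∀ {m z}, z ∈ D m → 𝔅 z (c m) = 1 → 𝔅 z p₂ = 1 := fun {m z} hz e => by
    rw [← hsum, h.polar_comp hc hz, e]
  have hout : ∀ C ⊆ G, ∃ m ∉ C, p₁ ∉ qperp Q (D m) := fun C hCG => by
    by_contra! hall
    exact hp₁0 (h.eq_zero_of_perp_all fun m => if hm : m ∈ C then (hG m (hCG hm)).1 else hall m hm)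
  have hnz : ∀ {m n : Fin t} {z z' : ι → F}, m ≠ n → z ∈ D m → Q z ≠ 0 → z' ∈ qperp Q (D m) →
      (-(Q z)⁻¹) • z + z' ≠ 0 := by
    intro m n z z' _ hz hzq hz' e
    obtain ⟨x, hx, hzx⟩ := (h.nd m).exists_polar_one hz (fun e0 => hzq (by rw [e0, QuadraticMap.map_zero]))
    have := congrArg (fun y => 𝔅 x y) e
    simp only [QuadraticMap.polar_add_right, QuadraticMap.polar_smul_right, QuadraticMap.polar_zero_right,
      show 𝔅 x z' = 0 from hz' x hx, QuadraticMap.polar_comm (⇑Q) x z, hzx] at this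
    simpa [hzq] using this
  have hperp₂ : ∀ {m₁ m₂ : Fin t} {z₁ z₂ : ι → F}, m₁ ≠ m₂ → z₁ ∈ D m₁ → z₂ ∈ D m₂ →
      ∀ m ∉ ({m₁, m₂} : Finset (Fin t)), (-(Q z₁)⁻¹) • z₁ + (-(Q z₂)⁻¹) • z₂ ∈ qperp Q (D m) := by
    intro m₁ m₂ z₁ z₂ _ hz₁ hz₂ m hm
    simp only [Finset.mem_insert, Finset.mem_singleton, not_or] at hm
    exact Submodule.add_mem _ (Submodule.smul_mem _ _ (h.mem_qperp hm.1 hz₁))
      (Submodule.smul_mem _ _ (h.mem_qperp hm.2 hz₂))
  have hcomp₂ : ∀ {m₁ m₂ : Fin t} {z₁ z₂ : ι → F}, m₁ ≠ m₂ → z₁ ∈ D m₁ → z₂ ∈ D m₂ →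
      ∀ f ∉ ({m₁, m₂} : Finset (Fin t)), Comp Q D ((-(Q z₁)⁻¹) • z₁ + (-(Q z₂)⁻¹) • z₂) f := by
    intro m₁ m₂ z₁ z₂ hne hz₁ hz₂ f hf
    obtain ⟨e, he⟩ := h.exists_free {f, m₁, m₂} (by
      have := Finset.card_le_three (a := f) (b := m₁) (c := m₂); omega)
    simp only [Finset.mem_insert, Finset.mem_singleton, not_or] at he
    exact h.comp_of_perp (Ne.symm he.1) (hperp₂ hne hz₁ hz₂ e (by simp [he.2.1, he.2.2]))
  by_cases hneg : IsSquare (-1 : F)
  · have h2 : 1 < G.card := by rcases hcase with ⟨h2, -⟩ | h4 <;> omega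
    obtain ⟨m₁, hm₁, m₂, hm₂, hne⟩ := Finset.one_lt_card.1 h2
    obtain ⟨z₁, hz₁, z₂, hz₂, hB₁, hB₂, hQ12, hq₁⟩ := h.sum_zero hq hb (hc m₁) (hcm hm₁) (hc m₂) (hcm hm₂)
    have hQ2 : Q z₂ = -Q z₁ := by linear_combination hQ12
    have hq₂ : Q z₂ ≠ 0 := by rw [hQ2]; exact neg_ne_zero.2 hq₁
    obtain ⟨σ, hσ⟩ := hneg
    have hk := refl2_mem h hn hM hq₁ hq₂ hz₁ hz₂ ⟨σ * Q z₁, by rw [hQ2]; linear_combination (Q z₁ * Q z₁) * hσ⟩
    have hC : {m₁, m₂} ⊆ G := by simp [Finset.insert_subset_iff, hm₁, hm₂]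
    refine omega_le_of_shear h hn hM hq hb ht hP hp₁ hp₂ (r := (-(Q z₁)⁻¹) • z₁ + (-(Q z₂)⁻¹) • z₂) hk ?_ ?_
      (hnz hne hz₁ hq₁ (Submodule.smul_mem _ _ (h.mem_qperp hne hz₂))) ?_ {m₁, m₂} (hperp₂ hne hz₁ hz₂)
      (hcomp₂ hne hz₁ hz₂) (hout _ hC)
    · rw [mat_refl_two, refl_fix ((hG m₂ hm₂).1 z₂ hz₂), refl_fix ((hG m₁ hm₁).1 z₁ hz₁)]
    · rw [mat_refl_two, refl_apply, refl_apply, QuadraticMap.polar_sub_right, QuadraticMap.polar_smul_right,
        hp2 hz₁ hB₁, hp2 hz₂ hB₂, h.perp hne hz₁ hz₂, smul_zero, sub_zero]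
      module
    · rw [QuadraticMap.map_add (⇑Q), QuadraticMap.map_smul, QuadraticMap.map_smul, QuadraticMap.polar_smul_left,
        QuadraticMap.polar_smul_right, h.perp hne hz₁ hz₂, hQ2, smul_eq_mul, smul_eq_mul]
      simp only [smul_zero, add_zero]
      field_simp
      ring
  rcases hcase with ⟨h2, e, heG, he₁, he₂⟩ | h4
  · obtain ⟨m₁, hm₁, m₂, hm₂, hne⟩ := Finset.one_lt_card.1 (by omega : 1 < G.card)
    obtain ⟨z₁, hz₁, z₂, hz₂, hB₁, hB₂, hQ12, hq₁⟩ := h.sum_zero hq hb (hc m₁) (hcm hm₁) (hc m₂) (hcm hm₂)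
    have hQ2 : Q z₂ = -Q z₁ := by linear_combination hQ12
    have hq₂ : Q z₂ ≠ 0 := by rw [hQ2]; exact neg_ne_zero.2 hq₁
    obtain ⟨a, ha, haq⟩ := exists_value_mem (h.nd e).inf_qperp (by rw [h.dim]) (1 : F) one_ne_zero
    obtain ⟨b, hb', hbq⟩ := exists_value_mem (h.nd e).inf_qperp (by rw [h.dim]) (-1 : F) (neg_ne_zero.2 one_ne_zero)
    have haq' : Q a ≠ 0 := by rw [haq]; exact one_ne_zero
    have hbq' : Q b ≠ 0 := by rw [hbq]; exact neg_ne_zero.2 one_ne_zero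
    have hk := refl4_mem h hn hM hq₁ hq₂ haq' hbq' hz₁ hz₂ ha hb'
      ⟨Q z₁, by rw [hQ2, haq, hbq]; ring⟩
    have hC : {m₁, m₂} ⊆ G := by simp [Finset.insert_subset_iff, hm₁, hm₂]
    refine omega_le_of_shear h hn hM hq hb ht hP hp₁ hp₂ (r := (-(Q z₁)⁻¹) • z₁ + (-(Q z₂)⁻¹) • z₂) hk ?_ ?_
      (hnz hne hz₁ hq₁ (Submodule.smul_mem _ _ (h.mem_qperp hne hz₂))) ?_ {m₁, m₂} (hperp₂ hne hz₁ hz₂)
      (hcomp₂ hne hz₁ hz₂) (hout _ hC)
    · rw [mat_mul, ← mulVec_mulVec, mat_refl_two, mat_refl_two, refl_fix (he₁ b hb'), refl_fix (he₁ a ha),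
        refl_fix ((hG m₂ hm₂).1 z₂ hz₂), refl_fix ((hG m₁ hm₁).1 z₁ hz₁)]
    · rw [mat_mul, ← mulVec_mulVec, mat_refl_two, mat_refl_two, refl_fix (he₂ b hb'), refl_fix (he₂ a ha),
        refl_apply, refl_apply, QuadraticMap.polar_sub_right, QuadraticMap.polar_smul_right, hp2 hz₁ hB₁, hp2 hz₂ hB₂,
        h.perp hne hz₁ hz₂, smul_zero, sub_zero]
      module
    · rw [QuadraticMap.map_add (⇑Q), QuadraticMap.map_smul, QuadraticMap.map_smul, QuadraticMap.polar_smul_left,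
        QuadraticMap.polar_smul_right, h.perp hne hz₁ hz₂, hQ2, smul_eq_mul, smul_eq_mul]
      simp only [smul_zero, add_zero]
      field_simp
      ring
  · obtain ⟨m₁, hm₁, m₂, hm₂, m₃, hm₃, h12, h13, h23⟩ := Finset.two_lt_card.1 (by omega : 2 < G.card)
    obtain ⟨m₄, hm₄, hm₄'⟩ : ∃ m ∈ G, m ∉ ({m₁, m₂, m₃} : Finset (Fin t)) := by
      by_contra! hall
      have := Finset.card_le_card hall
      have := Finset.card_le_three (a := m₁) (b := m₂) (c := m₃)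
      omega
    simp only [Finset.mem_insert, Finset.mem_singleton, not_or] at hm₄'
    obtain ⟨h41, h42, h43⟩ := hm₄'
    obtain ⟨z₁, hz₁, z₂, hz₂, hB₁, hB₂, hQ12, hq₁⟩ := h.sum_zero hq hb (hc m₁) (hcm hm₁) (hc m₂) (hcm hm₂)
    obtain ⟨z₃, hz₃, z₄, hz₄, hB₃, hB₄, hQ34, hq₃⟩ := h.sum_zero hq hb (hc m₃) (hcm hm₃) (hc m₄) (hcm hm₄)
    have hQ2 : Q z₂ = -Q z₁ := by linear_combination hQ12
    have hQ4 : Q z₄ = -Q z₃ := by linear_combination hQ34
    have hq₂ : Q z₂ ≠ 0 := by rw [hQ2]; exact neg_ne_zero.2 hq₁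
    have hq₄ : Q z₄ ≠ 0 := by rw [hQ4]; exact neg_ne_zero.2 hq₃
    have hk := refl4_mem h hn hM hq₁ hq₂ hq₃ hq₄ hz₁ hz₂ hz₃ hz₄
      ⟨Q z₁ * Q z₃, by rw [hQ2, hQ4]; ring⟩
    have hC : {m₁, m₂, m₃, m₄} ⊆ G := by simp [Finset.insert_subset_iff, hm₁, hm₂, hm₃, hm₄]
    refine omega_le_of_shear h hn hM hq hb ht hP hp₁ hp₂ (r := (-(Q z₁)⁻¹) • z₁ + ((-(Q z₂)⁻¹) • z₂ +
      ((-(Q z₃)⁻¹) • z₃ + (-(Q z₄)⁻¹) • z₄))) hk ?_ ?_
      (hnz h12 hz₁ hq₁ (Submodule.add_mem _ (Submodule.smul_mem _ _ (h.mem_qperp h12 hz₂))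
        (Submodule.add_mem _ (Submodule.smul_mem _ _ (h.mem_qperp h13 hz₃))
          (Submodule.smul_mem _ _ (h.mem_qperp (Ne.symm h41) hz₄))))) ?_ {m₁, m₂, m₃, m₄}
      (fun m hm => ?_) (fun f hf => ?_) (hout _ hC)
    · rw [mat_mul, ← mulVec_mulVec, mat_refl_two, mat_refl_two, refl_fix ((hG m₄ hm₄).1 z₄ hz₄),
        refl_fix ((hG m₃ hm₃).1 z₃ hz₃), refl_fix ((hG m₂ hm₂).1 z₂ hz₂), refl_fix ((hG m₁ hm₁).1 z₁ hz₁)]
    · rw [mat_mul, ← mulVec_mulVec, mat_refl_two, mat_refl_two]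
      simp only [refl_apply, QuadraticMap.polar_sub_right, QuadraticMap.polar_smul_right, hp2 hz₁ hB₁, hp2 hz₂ hB₂,
        hp2 hz₃ hB₃, hp2 hz₄ hB₄, h.perp h12 hz₁ hz₂, h.perp h13 hz₁ hz₃, h.perp (Ne.symm h41) hz₁ hz₄,
        h.perp h23 hz₂ hz₃, h.perp (Ne.symm h42) hz₂ hz₄, h.perp (Ne.symm h43) hz₃ hz₄, smul_zero, sub_zero]
      module
    · simp only [QuadraticMap.map_add (⇑Q), QuadraticMap.map_smul, QuadraticMap.polar_add_right,
        QuadraticMap.polar_smul_left, QuadraticMap.polar_smul_right, h.perp h12 hz₁ hz₂, h.perp h13 hz₁ hz₃,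
        h.perp (Ne.symm h41) hz₁ hz₄, h.perp h23 hz₂ hz₃, h.perp (Ne.symm h42) hz₂ hz₄,
        h.perp (Ne.symm h43) hz₃ hz₄, hQ2, hQ4, smul_eq_mul, mul_zero, add_zero]
      field_simp
      ring
    · simp only [Finset.mem_insert, Finset.mem_singleton, not_or] at hm
      exact Submodule.add_mem _ (Submodule.smul_mem _ _ (h.mem_qperp hm.1 hz₁))
        (Submodule.add_mem _ (Submodule.smul_mem _ _ (h.mem_qperp hm.2.1 hz₂))
          (Submodule.add_mem _ (Submodule.smul_mem _ _ (h.mem_qperp hm.2.2.1 hz₃))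
            (Submodule.smul_mem _ _ (h.mem_qperp hm.2.2.2 hz₄))))
    · simp only [Finset.mem_insert, Finset.mem_singleton, not_or] at hf
      refine h.comp_of_opp (Ne.symm hf.1) (Ne.symm hf.2.1) hz₁ hz₂ hq₁ hQ2 hneg (fun y hy hyz => ?_)
        (fun y hy hyz => ?_)
      · simp only [QuadraticMap.polar_add_right, QuadraticMap.polar_smul_right, hyz, h.perp h12 hy hz₂,
          h.perp h13 hy hz₃, h.perp (Ne.symm h41) hy hz₄, smul_zero, add_zero]
      · simp only [QuadraticMap.polar_add_right, QuadraticMap.polar_smul_right, hyz, h.perp (Ne.symm h12) hy hz₁,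
          h.perp h23 hy hz₃, h.perp (Ne.symm h42) hy hz₄, smul_zero, add_zero]

/-- A member pushed out by an element of `M` fixing one of its vectors. -/
theorem omega_le_of_push_plane {γ : Isom Q} (hγ : γ ∈ M) {c : Fin t} {n x : ι → F} (hn' : n ∈ D c) (hn0 : n ≠ 0)
    (hfix : mat Q γ *ᵥ n = n) (hx : x ∈ D c) (C : Finset (Fin t))
    (hC : ∀ f ∈ C, f ≠ c ∧ mat Q γ *ᵥ x - x ∉ qperp Q (D f))
    (hcase : (2 ≤ C.card ∧ ∃ e, e ≠ c ∧ mat Q γ *ᵥ x - x ∈ qperp Q (D e)) ∨ 4 ≤ C.card) :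
    Cfsg.Omega F ⇑Q ≤ M := by
  obtain ⟨θ, hθ⟩ := exists_rot_member h hn hM hq hb c
  refine omega_le_of_fixed h hn hM hq hb ht (hθ.map hγ) (p₁ := n) (p₂ := mat Q γ *ᵥ x) ⟨n, hn', hfix⟩ ⟨x, hx, rfl⟩
    hn0 C (fun m hm => ⟨h.mem_qperp (hC m hm).1 hn', fun hmem => (hC m hm).2 ?_⟩) ?_
  · exact Submodule.sub_mem _ hmem (h.mem_qperp (hC m hm).1 hx)
  · rcases hcase with ⟨h2, e, hec, he⟩ | h4
    · refine Or.inl ⟨h2, e, fun hm => (hC e hm).2 he, h.mem_qperp hec hn', ?_⟩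
      have := Submodule.add_mem _ he (h.mem_qperp hec hx)
      rwa [sub_add_cancel] at this
    · exact Or.inr h4

end Setting

end CfsgLib.OrthMax
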