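import Cfsg.Agent.OrthMax.DecompRoots
import Cfsg.Agent.OrthMax.Nondegenerate

/-!
# Vectors of prescribed values in nondegenerate planes of a decomposition

Counting on the affine line `{z | B(z, p) = 1}` of a plane gives the vectors used to build the elements of
`Ω` that preserve a decomposition into planes: `DSys.good_vec`, `DSys.exists_rot`, `DSys.sum_zero`.
-/

set_option autoImplicit false
set_option linter.unusedSectionVars false

namespace CfsgLib.OrthMax

open Matrix Module CfsgLib.Spinor CfsgLib.Forms CfsgLib.Forms4 Cfsg.Geo CfsgLib.OmegaOrbits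

variable {F : Type*} [Field F] {ι : Type} [Fintype ι] [DecidableEq ι] {Q : QuadraticForm F (ι → F)}

set_option quotPrecheck false in
local notation "𝔅" => QuadraticMap.polar (⇑Q)

/-! ### Linear algebra in a plane -/

theorem plane_span {W : Submodule F (ι → F)} (hd : finrank F W = 2) {a b : ι → F} (ha : a ∈ W) (hb : b ∈ W)
    (ha0 : a ≠ 0) (hba : b ∉ Submodule.span F {a}) {x : ι → F} (hx : x ∈ W) :
    ∃ α β : F, α • a + β • b = x := by
  let φ : F × F →ₗ[F] W := LinearMap.coprod ((LinearMap.id : F →ₗ[F] F).smulRight (⟨a, ha⟩ : W))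
    ((LinearMap.id : F →ₗ[F] F).smulRight (⟨b, hb⟩ : W))
  have hinj : Function.Injective φ := by
    refine LinearMap.ker_eq_bot.1 ((Submodule.eq_bot_iff _).2 fun p hp => ?_)
    have hp' : p.1 • a + p.2 • b = 0 := by simpa [φ, Subtype.ext_iff] using hp
    by_cases h2 : p.2 = 0
    · rw [h2, zero_smul, add_zero, smul_eq_zero] at hp'
      exact Prod.ext (hp'.resolve_right ha0) h2
    · refine absurd (Submodule.mem_span_singleton.2 ⟨-(p.2⁻¹ * p.1), ?_⟩) hba
      rw [show b = p.2⁻¹ • (p.2 • b) by rw [smul_smul, inv_mul_cancel₀ h2, one_smul],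
        show p.2 • b = -(p.1 • a) by linear_combination (norm := module) hp']
      module
  obtain ⟨p, hp⟩ := (LinearMap.injective_iff_surjective_of_finrank_eq_finrank (by simp [hd])).1 hinj ⟨x, hx⟩
  exact ⟨p.1, p.2, by simpa [φ, Subtype.ext_iff] using hp⟩

theorem mem_qperp_of_two {W : Submodule F (ι → F)} (hd : finrank F W = 2) {a b : ι → F} (ha : a ∈ W) (hb : b ∈ W)
    (ha0 : a ≠ 0) (hba : b ∉ Submodule.span F {a}) {x : ι → F} (hax : 𝔅 a x = 0) (hbx : 𝔅 b x = 0) :
    x ∈ qperp Q W := fun w hw => by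
  obtain ⟨α, β, rfl⟩ := plane_span hd ha hb ha0 hba hw
  show 𝔅 (α • a + β • b) x = 0
  rw [QuadraticMap.polar_add_left, QuadraticMap.polar_smul_left, QuadraticMap.polar_smul_left, hax, hbx,
    smul_zero, smul_zero, add_zero]

theorem Nd.eq_zero_of_two {W : Submodule F (ι → F)} (hW : Nd Q W) (hd : finrank F W = 2) {a b : ι → F}
    (ha : a ∈ W) (hb : b ∈ W) (ha0 : a ≠ 0) (hba : b ∉ Submodule.span F {a}) {x : ι → F} (hx : x ∈ W)
    (hax : 𝔅 a x = 0) (hbx : 𝔅 b x = 0) : x = 0 :=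
  hW x hx fun w hw => mem_qperp_of_two hd ha hb ha0 hba hax hbx w hw

/-- The orthogonal line of a singular vector of a plane is its span. -/
theorem Nd.mem_span_singular {W : Submodule F (ι → F)} (hW : Nd Q W) (hd : finrank F W = 2) {x y : ι → F}
    (hx : x ∈ W) (hy : y ∈ W) (hx0 : x ≠ 0) (hxq : Q x = 0) (hxy : 𝔅 x y = 0) :
    y ∈ Submodule.span F {x} := by
  by_contra hyx
  refine hx0 (hW.eq_zero_of_two hd hx hy hx0 hyx hx (by rw [polar_self', hxq, mul_zero]) ?_)
  rw [QuadraticMap.polar_comm, hxy]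

theorem exists_perp_ne (hQ : (QuadraticMap.polarBilin Q).Nondegenerate) {W : Submodule F (ι → F)}
    (hd : finrank F W = 2) (a : ι → F) : ∃ n ∈ W, n ≠ 0 ∧ 𝔅 a n = 0 := by
  have h1 := finrank_le_inf_qperp_add_one hQ W a
  obtain ⟨n, hn, hn0⟩ := Submodule.exists_mem_ne_zero_of_ne_bot
    (p := W ⊓ qperp Q (Submodule.span F {a})) fun e => by rw [e, finrank_bot] at h1; omega
  exact ⟨n, hn.1, hn0, mem_qperp_singleton.1 hn.2⟩

/-! ### Counting -/

variable [Fintype F]

theorem card_roots_le_two [DecidableEq F] {A B : F} (C : F) (hAB : A = 0 → B ≠ 0) :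
    (Finset.univ.filter fun s : F => A * s ^ 2 + B * s + C = 0).card ≤ 2 := by
  by_contra h
  obtain ⟨a, ha, b, hb, c, hc, hab, hac, hbc⟩ := Finset.two_lt_card.1 (not_le.1 h)
  simp only [Finset.mem_filter, Finset.mem_univ, true_and] at ha hb hc
  have h1 : A * (a + b) + B = 0 := mul_right_cancel₀ (sub_ne_zero.2 hab) (by linear_combination ha - hb)
  have h2 : A * (a + c) + B = 0 := mul_right_cancel₀ (sub_ne_zero.2 hac) (by linear_combination ha - hc)
  have hA : A = 0 := mul_right_cancel₀ (sub_ne_zero.2 hbc) (by linear_combination h1 - h2)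
  exact hAB hA (by rw [hA, zero_mul, zero_add] at h1; exact h1)

/-- An additive subgroup with more than half of the elements is everything. -/
theorem forall_of_half {P : F → Prop} (hsub : ∀ a b, P a → P b → P (a + b)) (s : Finset F) (hs : ∀ a ∈ s, P a)
    (hcard : Fintype.card F < 2 * s.card) (x : F) : P x := by
  classical
  obtain ⟨a, ha1, ha2⟩ : ∃ a, a ∈ s ∧ a ∈ s.image fun b => x - b := by
    by_contra! h
    have hd : Disjoint s (s.image fun b => x - b) := Finset.disjoint_left.2 h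
    have := (Finset.card_union_of_disjoint hd).symm.le.trans (Finset.card_le_univ _)
    rw [Finset.card_image_of_injective _ fun b c e => sub_right_injective e] at this
    omega
  obtain ⟨b, hb, rfl⟩ := Finset.mem_image.1 ha2
  simpa using hsub _ _ (hs _ ha1) (hs _ hb)

theorem card_le_filter {s : Finset F} (hs : s.card < Fintype.card F) : ∃ x, x ∉ s := by
  by_contra! h
  exact absurd (Finset.card_le_card (fun x _ => h x : Finset.univ ⊆ s)) (by rw [Finset.card_univ]; omega)

variable {t : ℕ} {D : Fin t → Submodule F (ι → F)}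

/-- Members with singular vectors occur only for at least seven scalars. -/
def PlusBound (Q : QuadraticForm F (ι → F)) (D : Fin t → Submodule F (ι → F)) : Prop :=
  ∀ i, ∀ x ∈ D i, x ≠ 0 → Q x = 0 → 7 ≤ Fintype.card F

theorem DSys.singular_transfer {k : ℕ} (h : DSys Q k D) {i : Fin t} {x : ι → F} (hx : x ∈ D i) (hx0 : x ≠ 0)
    (hxq : Q x = 0) (j : Fin t) : ∃ y ∈ D j, y ≠ 0 ∧ Q y = 0 := by
  obtain ⟨e, he⟩ := h.iso i j
  refine ⟨e ⟨x, hx⟩, (e _).2, fun h0 => hx0 ?_, by rw [he]; exact hxq⟩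
  have : e ⟨x, hx⟩ = 0 := Subtype.ext h0
  exact congrArg Subtype.val ((LinearEquiv.map_eq_zero_iff e).1 this)

variable (h : DSys Q 2 D)
include h

/-- The affine line `B(z, p) = 1` in a member. -/
theorem DSys.exists_line {i : Fin t} {p : ι → F} (hp : p ∈ D i) (hp0 : p ≠ 0) :
    ∃ z₀ ∈ D i, ∃ n ∈ D i, 𝔅 z₀ p = 1 ∧ 𝔅 n p = 0 ∧ n ≠ 0 ∧ (Q n = 0 → 𝔅 z₀ n ≠ 0) ∧
      ∀ s : F, Q (z₀ + s • n) = Q n * s ^ 2 + 𝔅 z₀ n * s + Q z₀ := by
  obtain ⟨z, hz, hpz⟩ := (h.nd i).exists_polar_one hp hp0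
  obtain ⟨n, hn, hn0, hpn⟩ := exists_perp_ne h.nondeg (h.dim i) p
  have hzp : 𝔅 z p = 1 := by rw [QuadraticMap.polar_comm, hpz]
  have hnp : 𝔅 n p = 0 := by rw [QuadraticMap.polar_comm, hpn]
  refine ⟨z, hz, n, hn, hzp, hnp, hn0, fun hq hzn => hn0 ((h.nd i).eq_zero_of_two (h.dim i) hn hz hn0
    (fun hmem => ?_) hn (by rw [polar_self', hq, mul_zero]) hzn), fun s => ?_⟩
  · obtain ⟨c, hc⟩ := Submodule.mem_span_singleton.1 hmem
    rw [← hc, QuadraticMap.polar_smul_left, hnp, smul_zero] at hzp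
    exact zero_ne_one hzp
  · rw [QuadraticMap.map_add (⇑Q), QuadraticMap.map_smul, QuadraticMap.polar_smul_right, smul_eq_mul, smul_eq_mul]
    ring

/-- A vector pairing to one, avoiding the exceptional values. -/
theorem DSys.good_vec (hq : Fintype.card F ≠ 3) (hb : PlusBound Q D) {i : Fin t} {p : ι → F} (hp : p ∈ D i)
    (hp0 : p ≠ 0) :
    ∃ z ∈ D i, 𝔅 z p = 1 ∧ Q z ≠ 0 ∧ 2 * Q p * Q z ≠ 1 ∧ z ∉ Submodule.span F {p} := by
  classical
  obtain ⟨z₀, hz₀, n, hn, hzp, hnp, hn0, hAB, hQs⟩ := h.exists_line hp hp0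
  have hlin : ∀ s : F, 𝔅 (z₀ + s • n) p = 1 := fun s => by
    rw [QuadraticMap.polar_add_left, QuadraticMap.polar_smul_left, hzp, hnp, smul_zero, add_zero]
  have hmem : ∀ s : F, z₀ + s • n ∈ D i := fun s => (D i).add_mem hz₀ ((D i).smul_mem _ hn)
  -- membership in the line of `p`
  have hline : ∀ c : F, 𝔅 (c • p) p = 1 → (2 : F) ≠ 0 := by
    intro c hc h2
    rw [QuadraticMap.polar_smul_left, polar_self', h2, zero_mul, smul_zero] at hc
    exact zero_ne_one hc
  suffices hs : ∃ s : F, Q (z₀ + s • n) ≠ 0 ∧ 2 * Q p * Q (z₀ + s • n) ≠ 1 ∧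
      z₀ + s • n ∉ Submodule.span F {p} by
    obtain ⟨s, h1, h2, h3⟩ := hs
    exact ⟨_, hmem s, hlin s, h1, h2, h3⟩
  by_cases hcard : Fintype.card F = 2
  · have h2 : (2 : F) = 0 := by
      have := FiniteField.cast_card_eq_zero F
      rw [hcard] at this
      exact_mod_cast this
    refine ⟨0, fun h0 => ?_, by rw [h2, zero_mul, zero_mul]; exact zero_ne_one, fun hm => ?_⟩
    · have := hb i _ (hmem 0) (fun e => by
        have := hlin 0
        rw [e, QuadraticMap.polar_zero_left] at this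
        exact zero_ne_one this) h0
      omega
    · obtain ⟨c, hc⟩ := Submodule.mem_span_singleton.1 hm
      exact hline c (by rw [hc]; exact hlin 0) h2
  set S1 := Finset.univ.filter fun s : F => Q (z₀ + s • n) = 0 with hS1
  set S2 := Finset.univ.filter fun s : F => 2 * Q p * Q (z₀ + s • n) = 1 with hS2
  set S3 := Finset.univ.filter fun s : F => z₀ + s • n ∈ Submodule.span F {p} with hS3
  have c1 : S1.card ≤ 2 := by
    refine le_trans (Finset.card_le_card fun s hs => ?_) (card_roots_le_two (Q z₀) hAB)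
    simp only [hS1, Finset.mem_filter, Finset.mem_univ, true_and, hQs] at hs ⊢
    exact hs
  have c2 : S2.card ≤ 2 := by
    by_cases hpp : 2 * Q p = 0
    · refine le_of_eq_of_le (Finset.card_eq_zero.2 (Finset.filter_eq_empty_iff.2 fun s _ hs => ?_)) zero_le
      rw [hpp, zero_mul] at hs
      exact zero_ne_one hs
    refine le_trans (Finset.card_le_card fun s hs => ?_) (card_roots_le_two (Q z₀ - (2 * Q p)⁻¹) hAB)
    simp only [hS2, Finset.mem_filter, Finset.mem_univ, true_and, hQs] at hs ⊢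
    linear_combination eq_inv_of_mul_eq_one_right hs
  have c3 : S3.card ≤ 1 := by
    refine Finset.card_le_one.2 fun s hs u hu => by_contra fun hne => ?_
    simp only [hS3, Finset.mem_filter, Finset.mem_univ, true_and] at hs hu
    have hd := Submodule.sub_mem _ hs hu
    rw [add_sub_add_left_eq_sub, ← sub_smul, Submodule.smul_mem_iff _ (sub_ne_zero.2 hne)] at hd
    obtain ⟨c, hc⟩ := Submodule.mem_span_singleton.1 hd
    obtain ⟨d, hd'⟩ := Submodule.mem_span_singleton.1 hs
    have hd1 : 𝔅 (d • p) p = 1 := by rw [hd']; exact hlin s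
    rw [← hc, QuadraticMap.polar_smul_left, smul_eq_mul] at hnp
    rw [QuadraticMap.polar_smul_left, smul_eq_mul] at hd1
    rcases mul_eq_zero.1 hnp with h0 | h0
    · exact hn0 (by rw [← hc, h0, zero_smul])
    · rw [h0, mul_zero] at hd1
      exact zero_ne_one hd1
  have hbig : (S1 ∪ S2 ∪ S3).card < Fintype.card F := by
    have e1 := Finset.card_union_le (S1 ∪ S2) S3
    have e2 := Finset.card_union_le S1 S2
    by_cases hsing : ∃ x ∈ D i, x ≠ 0 ∧ Q x = 0
    · obtain ⟨x, hx, hx0, hxq⟩ := hsing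
      have := hb i x hx hx0 hxq
      omega
    · have h0 : S1.card = 0 := Finset.card_eq_zero.2 (Finset.filter_eq_empty_iff.2 fun s _ hs =>
        hsing ⟨_, hmem s, fun e => by
          have := hlin s
          rw [e, QuadraticMap.polar_zero_left] at this
          exact zero_ne_one this, hs⟩)
      have := Fintype.one_lt_card (α := F)
      omega
  obtain ⟨s, hs⟩ := card_le_filter hbig
  simp only [hS1, hS2, hS3, Finset.mem_union, Finset.mem_filter, Finset.mem_univ, true_and, not_or] at hs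
  exact ⟨s, hs.1.1, hs.1.2, hs.2⟩

/-- Two reflections whose product squared fixes only the orthogonal complement of the member. -/
theorem DSys.exists_rot (hq : Fintype.card F ≠ 3) (hb : PlusBound Q D) (i : Fin t) :
    ∃ z ∈ D i, ∃ z' ∈ D i, Q z ≠ 0 ∧ Q z' = Q z ∧
      ∀ x, refl Q z (refl Q z' (refl Q z (refl Q z' x))) = x → x ∈ qperp Q (D i) := by
  obtain ⟨z, hz, hzq⟩ := exists_value_mem (h.nd i).inf_qperp (by rw [h.dim]) (1 : F) one_ne_zero
  have hz0 : Q z ≠ 0 := by rw [hzq]; exact one_ne_zero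
  have hzne : z ≠ 0 := fun e => hz0 (by rw [e, QuadraticMap.map_zero])
  obtain ⟨y, hy, hyz, hy0, hne, hyspan⟩ := h.good_vec hq hb hz hzne
  set z' := refl Q y z with hz'
  have hz'q : Q z' = Q z := quad_refl Q hy0 z
  have hz'mem : z' ∈ D i := by
    rw [hz', refl_apply]; exact (D i).sub_mem hz ((D i).smul_mem _ hy)
  have hz'span : z' ∉ Submodule.span F {z} := fun hm => hyspan (by
    rw [hz', refl_apply, Submodule.sub_mem_iff_right _ (Submodule.mem_span_singleton_self z), hyz, mul_one] at hm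
    exact (Submodule.smul_mem_iff _ (inv_ne_zero hy0)).1 hm)
  have hzz' : 𝔅 z z' ≠ 0 := by
    rw [hz', refl_apply, QuadraticMap.polar_sub_right, QuadraticMap.polar_smul_right, polar_self',
      QuadraticMap.polar_comm (⇑Q) z y, hyz, smul_eq_mul, mul_one, mul_one]
    intro hzero
    field_simp at hzero
    exact hne (by linear_combination hzero)
  refine ⟨z, hz, z', hz'mem, hz0, hz'q, fun x hx => ?_⟩
  -- both orders of the two reflections agree at `x`
  have hcomm : refl Q z (refl Q z' x) = refl Q z' (refl Q z x) := by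
    have := congrArg (fun v => refl Q z' (refl Q z v)) hx
    simp only [refl_refl Q hz0, refl_refl Q (show Q z' ≠ 0 by rwa [hz'q])] at this
    exact this
  have hkey : (𝔅 z' x * 𝔅 z z') • z = (𝔅 z x * 𝔅 z z') • z' := by
    simp only [refl_apply, hz'q, QuadraticMap.polar_sub_right, QuadraticMap.polar_smul_right, smul_eq_mul,
      QuadraticMap.polar_comm (⇑Q) z' z] at hcomm
    have h2 : ((Q z)⁻¹ * (Q z)⁻¹ * 𝔅 z' x * 𝔅 z z') • z = ((Q z)⁻¹ * (Q z)⁻¹ * 𝔅 z x * 𝔅 z z') • z' := by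
      linear_combination (norm := module) hcomm
    have h3 := congrArg (fun v => (Q z * Q z) • v) h2
    simp only [smul_smul] at h3
    convert h3 using 2 <;> field_simp
  have hzx : 𝔅 z x = 0 := by
    by_contra hne'
    refine hz'span (Submodule.mem_span_singleton.2 ⟨(𝔅 z x * 𝔅 z z')⁻¹ * (𝔅 z' x * 𝔅 z z'), ?_⟩)
    rw [← smul_smul, hkey, inv_smul_smul₀ (mul_ne_zero hne' hzz')]
  refine mem_qperp_of_two (h.dim i) hz hz'mem hzne hz'span hzx ?_
  rw [hzx, zero_mul, zero_smul, smul_eq_zero, mul_eq_zero] at hkey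
  exact (hkey.resolve_right hzne).resolve_right hzz'

omit h in
theorem sum_values [DecidableEq F] {A B C : F} (hAB : A = 0 → B ≠ 0) :
    Fintype.card F ≤ 2 * (Finset.univ.image fun s : F => A * s ^ 2 + B * s + C).card := by
  refine Finset.card_le_mul_card_image _ 2 fun κ _ => ?_
  refine le_trans (Finset.card_le_card fun s hs => ?_) (card_roots_le_two (C - κ) hAB)
  simp only [Finset.mem_filter, Finset.mem_univ, true_and] at hs ⊢
  linear_combination hs

/-- Vectors pairing to one with opposite values. -/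
theorem DSys.sum_zero (hq : Fintype.card F ≠ 3) (hb : PlusBound Q D) {c e : Fin t} {p₁ p₂ : ι → F}
    (hp₁ : p₁ ∈ D c) (hp₁0 : p₁ ≠ 0) (hp₂ : p₂ ∈ D e) (hp₂0 : p₂ ≠ 0) :
    ∃ z₁ ∈ D c, ∃ z₂ ∈ D e, 𝔅 z₁ p₁ = 1 ∧ 𝔅 z₂ p₂ = 1 ∧ Q z₁ + Q z₂ = 0 ∧ Q z₁ ≠ 0 := by
  classical
  -- a singular `p` gives every value
  have hany : ∀ {i : Fin t} {p : ι → F}, p ∈ D i → p ≠ 0 → Q p = 0 → ∀ κ, ∃ z ∈ D i, 𝔅 z p = 1 ∧ Q z = κ := by
    intro i p hp hp0 hpq κ
    obtain ⟨z, hz, hpz⟩ := (h.nd i).exists_polar_one hp hp0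
    have hzp : 𝔅 z p = 1 := by rw [QuadraticMap.polar_comm, hpz]
    refine ⟨z + (κ - Q z) • p, (D i).add_mem hz ((D i).smul_mem _ hp), ?_, ?_⟩
    · rw [QuadraticMap.polar_add_left, QuadraticMap.polar_smul_left, polar_self', hpq, hzp, mul_zero, smul_zero,
        add_zero]
    · rw [QuadraticMap.map_add (⇑Q), QuadraticMap.map_smul, QuadraticMap.polar_smul_right, hpq, hzp, smul_eq_mul,
        smul_eq_mul]
      ring
  by_cases h1 : Q p₁ = 0
  · obtain ⟨z₂, hz₂, hB, hz0, -⟩ := h.good_vec hq hb hp₂ hp₂0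
    obtain ⟨z₁, hz₁, hB1, hv⟩ := hany hp₁ hp₁0 h1 (-Q z₂)
    exact ⟨z₁, hz₁, z₂, hz₂, hB1, hB, by rw [hv, neg_add_cancel], by rw [hv]; exact neg_ne_zero.2 hz0⟩
  by_cases h2 : Q p₂ = 0
  · obtain ⟨z₁, hz₁, hB, hz0, -⟩ := h.good_vec hq hb hp₁ hp₁0
    obtain ⟨z₂, hz₂, hB2, hv⟩ := hany hp₂ hp₂0 h2 (-Q z₁)
    exact ⟨z₁, hz₁, z₂, hz₂, hB, hB2, by rw [hv, add_neg_cancel], hz0⟩
  by_cases hsing : ∃ x ∈ D c, x ≠ 0 ∧ Q x = 0
  · obtain ⟨x, hx, hx0, hxq⟩ := hsing
    have h7 := hb c x hx hx0 hxq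
    -- coordinates
    have hvec : ∀ {i : Fin t} {p : ι → F}, p ∈ D i → Q p ≠ 0 → ∀ u : F,
        ∃ z ∈ D i, 𝔅 z p = 1 ∧ Q z = u * (1 - u) / Q p := by
      intro i p hp hpq u
      obtain ⟨s, hs, hs0, hsq⟩ := h.singular_transfer hx hx0 hxq i
      obtain ⟨f, hf, hfq, hsf⟩ := exists_partner_in hs hsq (by
        obtain ⟨f, hf, hsf⟩ := (h.nd i).exists_polar_one hs hs0
        exact ⟨f, hf, by rw [hsf]; exact one_ne_zero⟩)
      have hpe := eq_pair_coords (h.dim i) hs hf hsq hfq hsf hp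
      set α := 𝔅 f p
      set β := 𝔅 s p
      have hPv : Q p = α * β := by
        conv_lhs => rw [hpe]
        rw [QuadraticMap.map_add (⇑Q), QuadraticMap.map_smul, QuadraticMap.map_smul, hsq, hfq,
          QuadraticMap.polar_smul_left, QuadraticMap.polar_smul_right, hsf]
        simp
      have hα : α ≠ 0 := fun e => hpq (by rw [hPv, e, zero_mul])
      have hβ : β ≠ 0 := fun e => hpq (by rw [hPv, e, mul_zero])
      refine ⟨(u / β) • s + ((1 - u) / α) • f, (D i).add_mem ((D i).smul_mem _ hs) ((D i).smul_mem _ hf), ?_, ?_⟩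
      · rw [QuadraticMap.polar_add_left, QuadraticMap.polar_smul_left, QuadraticMap.polar_smul_left, smul_eq_mul,
          smul_eq_mul, div_mul_cancel₀ _ hβ, div_mul_cancel₀ _ hα, add_sub_cancel]
      · rw [QuadraticMap.map_add (⇑Q), QuadraticMap.map_smul, QuadraticMap.map_smul, hsq, hfq,
          QuadraticMap.polar_smul_left, QuadraticMap.polar_smul_right, hsf, hPv]
        simp only [smul_eq_mul, mul_zero, zero_add, mul_one]
        field_simp
    set r := -(Q p₁) / Q p₂ with hr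
    have hr0 : r ≠ 0 := div_ne_zero (neg_ne_zero.2 h1) h2
    obtain ⟨m, hm⟩ := card_le_filter (s := ({0, 1, r} : Finset F) ∪
        Finset.univ.filter fun m : F => 1 * m ^ 2 + 0 * m + -r = 0) (by
      have e1 := Finset.card_union_le ({0, 1, r} : Finset F)
        (Finset.univ.filter fun m : F => 1 * m ^ 2 + 0 * m + -r = 0)
      have e2 := card_roots_le_two (A := (1 : F)) (B := 0) (-r) (fun e => absurd e one_ne_zero)
      have e3 : ({0, 1, r} : Finset F).card ≤ 3 := Finset.card_le_three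
      omega)
    simp only [Finset.mem_union, Finset.mem_insert, Finset.mem_singleton, Finset.mem_filter, Finset.mem_univ,
      true_and, not_or, one_mul, zero_mul, add_zero] at hm
    obtain ⟨⟨hm0, hm1, hmr⟩, hmm⟩ := hm
    have hden : r - m ^ 2 ≠ 0 := fun e => hmm (by linear_combination -e)
    set w := (r - m) / (r - m ^ 2) with hw
    have hw0 : w ≠ 0 := div_ne_zero (sub_ne_zero.2 (Ne.symm hmr)) hden
    have hu1 : m * w ≠ 1 := fun e => by
      have : r * (m - 1) = 0 := by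
        rw [hw] at e
        field_simp at e
        linear_combination e
      exact mul_ne_zero hr0 (sub_ne_zero.2 hm1) this
    obtain ⟨z₁, hz₁, hB1, hv1⟩ := hvec hp₁ h1 (m * w)
    obtain ⟨z₂, hz₂, hB2, hv2⟩ := hvec hp₂ h2 w
    refine ⟨z₁, hz₁, z₂, hz₂, hB1, hB2, ?_, ?_⟩
    · have hkey : m * (1 - m * w) = r * (1 - w) := by rw [hw]; field_simp; ring
      have hkey' : r * Q p₂ = -(Q p₁) := by rw [hr]; field_simp
      rw [hv1, hv2]
      field_simp
      linear_combination (Q p₂ * w) * hkey + (w * (1 - w)) * hkey'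
    · rw [hv1]
      exact div_ne_zero (mul_ne_zero (mul_ne_zero hm0 hw0) (sub_ne_zero.2 (Ne.symm hu1))) h1
  · obtain ⟨a, ha, n, hn, hap, hnp, -, hAB, hQs⟩ := h.exists_line hp₁ hp₁0
    obtain ⟨b, hb', m, hm, hbp, hmp, -, hAB', hQs'⟩ := h.exists_line hp₂ hp₂0
    have hns : ∀ {i : Fin t} {z p : ι → F}, z ∈ D i → 𝔅 z p = 1 → Q z ≠ 0 := fun {i z p} hz hzp hzq => by
      obtain ⟨y, hy, hy0, hyq⟩ := h.singular_transfer hz (fun e => by
        rw [e, QuadraticMap.polar_zero_left] at hzp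
        exact zero_ne_one hzp) hzq c
      exact hsing ⟨y, hy, hy0, hyq⟩
    have hl1 : ∀ s : F, a + s • n ∈ D c ∧ 𝔅 (a + s • n) p₁ = 1 := fun s => ⟨(D c).add_mem ha ((D c).smul_mem _ hn),
      by rw [QuadraticMap.polar_add_left, QuadraticMap.polar_smul_left, hap, hnp, smul_zero, add_zero]⟩
    have hl2 : ∀ s : F, b + s • m ∈ D e ∧ 𝔅 (b + s • m) p₂ = 1 := fun s => ⟨(D e).add_mem hb' ((D e).smul_mem _ hm),
      by rw [QuadraticMap.polar_add_left, QuadraticMap.polar_smul_left, hbp, hmp, smul_zero, add_zero]⟩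
    set S := Finset.univ.image fun s : F => Q n * s ^ 2 + 𝔅 a n * s + Q a with hS
    set T := (Finset.univ.image fun s : F => Q m * s ^ 2 + 𝔅 b m * s + Q b).image fun x => -x with hT
    obtain ⟨v, hvS, hvT⟩ : ∃ v, v ∈ S ∧ v ∈ T := by
      by_contra! hd
      have hsub : S ∪ T ⊆ Finset.univ.erase 0 := fun x hx => by
        refine Finset.mem_erase.2 ⟨?_, Finset.mem_univ _⟩
        simp only [hS, hT, Finset.mem_union, Finset.mem_image, Finset.mem_univ, true_and] at hx
        rcases hx with ⟨s, rfl⟩ | ⟨_, ⟨s, rfl⟩, rfl⟩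
        · rw [← hQs]; exact hns (hl1 s).1 (hl1 s).2
        · rw [← hQs']; exact neg_ne_zero.2 (hns (hl2 s).1 (hl2 s).2)
      have e1 := Finset.card_le_card hsub
      rw [Finset.card_union_of_disjoint (Finset.disjoint_left.2 hd), Finset.card_erase_of_mem (Finset.mem_univ _),
        Finset.card_univ] at e1
      have e2 := sum_values (C := Q a) hAB
      have e3 := sum_values (C := Q b) hAB'
      rw [← hS] at e2
      have e4 : T.card = (Finset.univ.image fun s : F => Q m * s ^ 2 + 𝔅 b m * s + Q b).card := by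
        rw [hT, Finset.card_image_of_injective _ neg_injective]
      have := Fintype.one_lt_card (α := F)
      omega
    simp only [hS, hT, Finset.mem_image, Finset.mem_univ, true_and] at hvS hvT
    obtain ⟨s, rfl⟩ := hvS
    obtain ⟨_, ⟨s', rfl⟩, hss⟩ := hvT
    exact ⟨_, (hl1 s).1, _, (hl2 s').1, (hl1 s).2, (hl2 s').2, by rw [hQs, hQs', ← hss, neg_add_cancel],
      hns (hl1 s).1 (hl1 s).2⟩

/-! ### Reflections in vectors of the members -/

omit h in
theorem refl_mem_member {k : ℕ} (h : DSys Q k D) {l j : Fin t} {z x : ι → F} (hz : z ∈ D l) (hx : x ∈ D j) :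
    refl Q z x ∈ D j := by
  rw [refl_apply]
  rcases eq_or_ne l j with rfl | hlj
  · exact (D l).sub_mem hx ((D l).smul_mem _ hz)
  · rw [h.perp hlj hz hx, mul_zero, zero_smul, sub_zero]
    exact hx

omit h in
theorem mat_refl_two {z z' : ι → F} (hz : Q z ≠ 0) (hz' : Q z' ≠ 0) (x : ι → F) :
    mat Q (reflIso Q z hz * reflIso Q z' hz') *ᵥ x = refl Q z (refl Q z' x) := by
  rw [mat_mul, ← mulVec_mulVec, mat_reflIso_mulVec, mat_reflIso_mulVec]

omit h in
theorem refl_fix {z x : ι → F} (h : 𝔅 z x = 0) : refl Q z x = x := by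
  rw [refl_apply, h, mul_zero, zero_smul, sub_zero]

variable {M : Subgroup (Isom Q)} (hn : 5 ≤ Fintype.card ι) (hM : ContainsFix M D)
include hn hM

/-- Two reflections in vectors of members with square value product. -/
theorem refl2_mem {l m : Fin t} {z z' : ι → F} (hz : Q z ≠ 0) (hz' : Q z' ≠ 0) (hzl : z ∈ D l) (hzm : z' ∈ D m)
    (hsq : IsSquare (Q z * Q z')) : reflIso Q z hz * reflIso Q z' hz' ∈ M := by
  refine mem_of_maps h (by omega) hM ((mem_omega_iff_even h.nondeg (Or.inr (by omega))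
    ((IsReflProd.reflIso z hz).mul (IsReflProd.reflIso z' hz'))).2 ⟨by simp, by simpa using hsq⟩) fun j x hx => ?_
  rw [mat_refl_two]
  exact refl_mem_member h hzl (refl_mem_member h hzm hx)

/-- Four reflections in vectors of members with square value product. -/
theorem refl4_mem {a b c d : Fin t} {za zb zc zd : ι → F} (ha : Q za ≠ 0) (hb : Q zb ≠ 0) (hc : Q zc ≠ 0)
    (hd : Q zd ≠ 0) (hza : za ∈ D a) (hzb : zb ∈ D b) (hzc : zc ∈ D c) (hzd : zd ∈ D d)
    (hsq : IsSquare (Q za * Q zb * (Q zc * Q zd))) :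
    reflIso Q za ha * reflIso Q zb hb * (reflIso Q zc hc * reflIso Q zd hd) ∈ M := by
  refine mem_of_maps h (by omega) hM ((mem_omega_iff_even h.nondeg (Or.inr (by omega))
    (((IsReflProd.reflIso za ha).mul (IsReflProd.reflIso zb hb)).mul
      ((IsReflProd.reflIso zc hc).mul (IsReflProd.reflIso zd hd)))).2
    ⟨by simp; decide, by simpa [mul_assoc] using hsq⟩) fun j x hx => ?_
  rw [mat_mul, ← mulVec_mulVec, mat_refl_two, mat_refl_two]
  exact refl_mem_member h hza (refl_mem_member h hzb (refl_mem_member h hzc (refl_mem_member h hzd hx)))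

end CfsgLib.OrthMax
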