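import Cfsg.Agent.OrthMax.SingularPair

/-!
# Maximality for pairs of totally singular subspaces of even dimension

`exists_swap_omega`: some element of `Ω` exchanges the two members; `isMaximalIn_singular_pair`.
-/

set_option autoImplicit false
set_option linter.unusedSectionVars false

namespace CfsgLib.OrthMax

open Matrix Module CfsgLib.Spinor CfsgLib.Forms CfsgLib.Forms4 Cfsg.Geo CfsgLib.OmegaOrbits

variable {F : Type*} [Field F] {ι : Type} [Fintype ι] [DecidableEq ι] {Q : QuadraticForm F (ι → F)}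
variable [Fintype F]

set_option quotPrecheck false in
local notation "𝔅" => QuadraticMap.polar (⇑Q)

variable {X Y : Submodule F (ι → F)}

theorem refl_sub_apply {κ : Type*} [DecidableEq κ] {e f : κ → ι → F} (h : IsPairFamily Q e f) (i j : κ) :
    refl Q (e j - f j) (e i) = (if i = j then f i else e i) ∧
      refl Q (e j - f j) (f i) = (if i = j then e i else f i) := by
  have hfe : ∀ a b, 𝔅 (f a) (e b) = if b = a then 1 else 0 := fun a b => by rw [QuadraticMap.polar_comm, h.ef]
  constructor <;> rw [refl_apply, h.quad_sub] <;> by_cases hij : i = j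
  · subst hij
    simp [QuadraticMap.polar_sub_left, h.ee, hfe]
  · simp [QuadraticMap.polar_sub_left, h.ee, hfe, hij]
  · subst hij
    simp [QuadraticMap.polar_sub_left, h.ff, h.ef]
  · simp [QuadraticMap.polar_sub_left, h.ff, h.ef, Ne.symm hij, hij]

theorem prod_refl_sub {κ : Type*} [DecidableEq κ] {e f : κ → ι → F} (h : IsPairFamily Q e f) :
    ∀ (l : List κ), l.Nodup → ∀ i,
      ((l.map fun j => e j - f j).map fun v => Cfsg.reflectionMatrix (⇑Q) v).prod *ᵥ e i =
          (if i ∈ l then f i else e i) ∧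
        ((l.map fun j => e j - f j).map fun v => Cfsg.reflectionMatrix (⇑Q) v).prod *ᵥ f i =
          (if i ∈ l then e i else f i) := by
  intro l
  induction l with
  | nil => intro _ i; simp
  | cons j l ih =>
    intro hl i
    obtain ⟨hjl, hl⟩ := List.nodup_cons.1 hl
    obtain ⟨h1, h2⟩ := refl_sub_apply h i j
    simp only [List.map_cons, List.prod_cons, ← mulVec_mulVec, (ih hl i).1, (ih hl i).2,
      reflectionMatrix_mulVec]
    by_cases hi : i ∈ l
    · have hij : i ≠ j := fun e' => hjl (e' ▸ hi)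
      simp [hi, h1, h2, hij]
    · by_cases hij : i = j
      · subst hij; simp [hi, h1, h2]
      · simp [hi, h1, h2, hij]

/-- Some element of `Ω` exchanges the members of a pair of even dimension. -/
theorem exists_swap_omega (hQ : (QuadraticMap.polarBilin Q).Nondegenerate) (hn : 5 ≤ Fintype.card ι)
    (hp : IsSingularPair Q X Y) (hev : Even (finrank F X)) :
    ∃ g ∈ Cfsg.Omega F ⇑Q, gmap g X = Y ∧ gmap g Y = X := by
  let φ : Y →ₗ[F] Module.Dual F X := (((QuadraticMap.polarBilin Q).comp Y.subtype)).compl₂ X.subtype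
  have hφ : Function.Injective φ := by
    refine LinearMap.ker_eq_bot.1 ((Submodule.eq_bot_iff _).2 fun y hy => Subtype.ext ?_)
    refine (Submodule.eq_bot_iff _).1 hp.disj y ⟨?_, y.2⟩
    rw [← qperp_lag hQ hp.left hp.left_dim, SetLike.mem_coe, mem_qperp]
    intro x hx
    rw [QuadraticMap.polar_comm]
    exact LinearMap.congr_fun (LinearMap.mem_ker.1 hy) ⟨x, hx⟩
  let E := LinearEquiv.ofBijective φ ⟨hφ, (LinearMap.injective_iff_surjective_of_finrank_eq_finrank (by
    rw [Subspace.dual_finrank_eq]; exact hp.finrank_eq.symm)).1 hφ⟩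
  let b := Module.finBasis F X
  let c := b.dualBasis.map E.symm
  let e : Fin (finrank F X) → ι → F := fun i => b i
  let f : Fin (finrank F X) → ι → F := fun i => c i
  have hpair : IsPairFamily Q e f := by
    refine ⟨fun i => hp.left _ (b i).2, fun i => hp.right _ (c i).2, fun i j => ?_,
      fun i j => polar_eq_zero hp.left (b i).2 (b j).2, fun i j => polar_eq_zero hp.right (c i).2 (c j).2⟩
    have h : φ (c j) (b i) = b.dualBasis j (b i) := by
      rw [show φ (c j) = E (c j) from rfl, Basis.map_apply, LinearEquiv.apply_symm_apply]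
    rw [b.dualBasis_apply_self] at h
    show 𝔅 (b i : ι → F) (c j : ι → F) = _
    rw [QuadraticMap.polar_comm]
    exact h
  set vs := (List.finRange (finrank F X)).map fun j => e j - f j with hvs
  have hne : ∀ v ∈ vs, Q v ≠ 0 := fun v hv => by
    obtain ⟨j, -, rfl⟩ := List.mem_map.1 hv
    rw [hpair.quad_sub]
    exact neg_ne_zero.2 one_ne_zero
  obtain ⟨g, hg⟩ := exists_isometry_of_prod (Q := Q) vs hne
  have hmove : ∀ i, mat Q g *ᵥ e i = f i ∧ mat Q g *ᵥ f i = e i := fun i => by
    rw [hg.2]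
    have := prod_refl_sub hpair _ (List.nodup_finRange (finrank F X)) i
    simpa [hvs] using this
  refine ⟨g, (mem_omega_iff_even hQ (Or.inr (by omega)) hg).2 ⟨by simpa [hvs] using hev, ?_⟩,
    Submodule.eq_of_le_of_finrank_eq ?_ (by rw [finrank_gmap, hp.finrank_eq]),
    Submodule.eq_of_le_of_finrank_eq ?_ (by rw [finrank_gmap, hp.finrank_eq])⟩
  · rw [List.map_map, Function.comp_def, List.map_congr_left (g := fun _ => (-1 : F)) fun j _ => hpair.quad_sub j]
    simp only [List.map_const', List.prod_replicate, List.length_finRange]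
    rw [hev.neg_one_pow]
    exact IsSquare.one
  · rintro _ ⟨x, hx, rfl⟩
    have hsum : ((∑ i, b.repr ⟨x, hx⟩ i • b i : X) : ι → F) = x := congrArg Subtype.val (b.sum_repr ⟨x, hx⟩)
    rw [mulVecLin_apply, ← hsum, Submodule.coe_sum, mulVec_sum]
    refine Submodule.sum_mem _ fun i _ => ?_
    rw [Submodule.coe_smul, mulVec_smul, show ((b i : X) : ι → F) = e i from rfl, (hmove i).1]
    exact Y.smul_mem _ (c i).2
  · rintro _ ⟨y, hy, rfl⟩
    have hsum : ((∑ i, c.repr ⟨y, hy⟩ i • c i : Y) : ι → F) = y := congrArg Subtype.val (c.sum_repr ⟨y, hy⟩)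
    rw [mulVecLin_apply, ← hsum, Submodule.coe_sum, mulVec_sum]
    refine Submodule.sum_mem _ fun i _ => ?_
    rw [Submodule.coe_smul, mulVec_smul, show ((c i : Y) : ι → F) = f i from rfl, (hmove i).2]
    exact X.smul_mem _ (b i).2

variable {M : Subgroup (Isom Q)}

/-- Unless an isometry maps one member into `X`, it produces a mixed root member seen from `X`. -/
theorem exists_mixed_or_le (hQ : (QuadraticMap.polarBilin Q).Nondegenerate) (hp : IsSingularPair Q X Y)
    (hn : 12 ≤ Fintype.card ι) (hM : CrossRoots M X Y) {g : Isom Q} (hg : g ∈ M) :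
    (gmap g X ≤ X ∨ gmap g Y ≤ X) ∨
      ∃ b ∈ Y, b ≠ 0 ∧ ∃ b' ∈ Y, b' ∉ Submodule.span F {b} ∧ RootMem M b b' := by
  refine or_iff_not_imp_right.2 fun hno => ?_
  have key : ∀ x ∈ X, ∀ y ∈ Y, 𝔅 x y = 0 →
      (mat Q g *ᵥ y ∉ X → mat Q g *ᵥ x ∈ X ⊔ Submodule.span F {mat Q g *ᵥ y}) ∧
        (mat Q g *ᵥ x ∉ X → mat Q g *ᵥ y ∈ X ⊔ Submodule.span F {mat Q g *ᵥ x}) := by
    intro x hx y hy hxy
    have hyx : 𝔅 y x = 0 := by rw [QuadraticMap.polar_comm, hxy]
    refine ⟨fun h => by_contra fun h' => hno ?_, fun h => by_contra fun h' => hno ?_⟩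
    · exact exists_rootMem_right hQ hp hn hM (by rw [quad_mulVec, hp.left x hx])
        (by rw [quad_mulVec, hp.right y hy]) (by rw [polar_mulVec, hxy]) ((hM x hx y hy hxy).conj hg) h h'
    · exact exists_rootMem_right hQ hp hn hM (by rw [quad_mulVec, hp.right y hy])
        (by rw [quad_mulVec, hp.left x hx]) (by rw [polar_mulVec, hyx])
        (((hM.symm hp.left hp.right) y hy x hx hyx).conj hg) h h'
  -- a member whose image leaves `X` bounds the other one
  have hbound : ∀ {A B : Submodule F (ι → F)}, 2 * finrank F A = Fintype.card ι →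
      (∀ a ∈ A, ∀ b ∈ B, 𝔅 a b = 0 → mat Q g *ᵥ b ∉ X →
        mat Q g *ᵥ a ∈ X ⊔ Submodule.span F {mat Q g *ᵥ b}) →
      ∀ b ∈ B, mat Q g *ᵥ b ∉ X →
        finrank F (X ⊔ gmap g A : Submodule F (ι → F)) ≤ finrank F X + 2 := by
    intro A B hA h b hb hbX
    set A' := A ⊓ qperp Q (Submodule.span F {b})
    have hA'd : finrank F A ≤ finrank F A' + 1 := finrank_le_inf_qperp_add_one hQ A b
    have hle : X ⊔ gmap g A' ≤ X ⊔ Submodule.span F {mat Q g *ᵥ b} := by
      refine sup_le le_sup_left ?_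
      rintro _ ⟨a, ha, rfl⟩
      exact h a ha.1 b hb (by rw [QuadraticMap.polar_comm]; exact mem_qperp_singleton.1 ha.2) hbX
    obtain ⟨a₀, ha₀A, hspan⟩ : ∃ a₀ ∈ A, A ≤ A' ⊔ Submodule.span F {a₀} := by
      by_cases hAA : A ≤ A'
      · exact ⟨0, A.zero_mem, hAA.trans le_sup_left⟩
      · obtain ⟨a₀, ha₀, ha₀n⟩ := SetLike.not_le_iff_exists.1 hAA
        refine ⟨a₀, ha₀, (Submodule.eq_of_le_of_finrank_le
          (sup_le inf_le_left ((Submodule.span_singleton_le_iff_mem _ _).2 ha₀)) ?_).ge⟩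
        have h1 := Submodule.finrank_sup_add_finrank_inf_eq A' (Submodule.span F {a₀})
        rw [(Submodule.disjoint_span_singleton_of_notMem ha₀n).eq_bot, finrank_bot,
          finrank_span_singleton (fun h0 : a₀ = 0 => ha₀n (h0 ▸ Submodule.zero_mem _))] at h1
        omega
    have hle2 : X ⊔ gmap g A ≤
        (X ⊔ Submodule.span F {mat Q g *ᵥ b}) ⊔ Submodule.span F {mat Q g *ᵥ a₀} := by
      refine sup_le (le_sup_left.trans le_sup_left) ((Submodule.map_mono hspan).trans ?_)
      rw [Submodule.map_sup, Submodule.map_span, Set.image_singleton, mulVecLin_apply]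
      exact sup_le_sup_right (le_sup_right.trans hle) _
    have h1 := Submodule.finrank_mono hle2
    have h2 := Submodule.finrank_sup_add_finrank_inf_eq (X ⊔ Submodule.span F {mat Q g *ᵥ b})
      (Submodule.span F {mat Q g *ᵥ a₀})
    have h3 := Submodule.finrank_sup_add_finrank_inf_eq X (Submodule.span F {mat Q g *ᵥ b})
    have h4 : finrank F (Submodule.span F {mat Q g *ᵥ a₀}) ≤ 1 := (finrank_span_le_card _).trans (by simp)
    have h5 : finrank F (Submodule.span F {mat Q g *ᵥ b}) ≤ 1 := (finrank_span_le_card _).trans (by simp)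
    omega
  by_contra! hne
  obtain ⟨hX, hY⟩ := hne
  obtain ⟨_, ⟨x₀, hx₀, rfl⟩, hx₀X⟩ := SetLike.not_le_iff_exists.1 hX
  obtain ⟨_, ⟨y₀, hy₀, rfl⟩, hy₀X⟩ := SetLike.not_le_iff_exists.1 hY
  have h1 := hbound hp.left_dim (fun a ha b hb hab => (key a ha b hb hab).1) y₀ hy₀ hy₀X
  have h2 := hbound hp.right_dim
    (fun a ha b hb hab => (key b hb a ha (by rw [QuadraticMap.polar_comm, hab])).2) x₀ hx₀ hx₀X
  have htop : (⊤ : Submodule F (ι → F)) ≤ (X ⊔ gmap g X) ⊔ (X ⊔ gmap g Y) := by
    intro v _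
    obtain ⟨x, hx, y, hy, hxy⟩ := hp.exists_decomp (mat Q g⁻¹ *ᵥ v)
    have : v = mat Q g *ᵥ x + mat Q g *ᵥ y := by
      rw [← mulVec_add, hxy, mulVec_mulVec, ← mat_mul, mul_inv_cancel, mat_one, one_mulVec]
    rw [this]
    exact Submodule.add_mem_sup (Submodule.mem_sup_right (Submodule.mem_map_of_mem (f := mulVecLin (mat Q g)) hx))
      (Submodule.mem_sup_right (Submodule.mem_map_of_mem (f := mulVecLin (mat Q g)) hy))
  have h3 := Submodule.finrank_mono htop
  have h4 := Submodule.finrank_sup_add_finrank_inf_eq (X ⊔ gmap g X) (X ⊔ gmap g Y)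
  have h5 := Submodule.finrank_mono
    (le_inf le_sup_left le_sup_left : X ≤ (X ⊔ gmap g X) ⊓ (X ⊔ gmap g Y))
  have h6 := hp.left_dim
  rw [finrank_top, Module.finrank_pi] at h3
  omega

/-- The stabiliser of a pair of complementary totally singular subspaces of even dimension is maximal. -/
theorem isMaximalIn_singular_pair (hQ : (QuadraticMap.polarBilin Q).Nondegenerate)
    (hn : 12 ≤ Fintype.card ι) {D : Fin 2 → Submodule F (ι → F)} (hp : IsSingularPair Q (D 0) (D 1))
    (hev : Even (finrank F (D 0))) :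
    IsMaximalIn (omegaGL ⇑Q) (decompositionStabilizer D ⊓ omegaGL ⇑Q) := by
  have hn5 : 5 ≤ Fintype.card ι := by omega
  have hstab : ∀ k : Isom Q,
      (gmap k (D 0) = D 0 ∧ gmap k (D 1) = D 1) ∨ (gmap k (D 0) = D 1 ∧ gmap k (D 1) = D 0) →
      (k : GL ι F) ∈ decompositionStabilizer D := by
    rintro k (⟨h0, h1⟩ | ⟨h0, h1⟩)
    · exact ⟨1, fun i => by fin_cases i <;> [exact h0; exact h1]⟩
    · exact ⟨Equiv.swap 0 1, fun i => by fin_cases i <;> [exact h0; exact h1]⟩
  refine isMaximalIn_omega _ ?_ fun M hM g hgM _ hgS => ?_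
  · obtain ⟨g, hg, hgn⟩ := exists_move_pair hQ hn5 (D := D)
      (Fin.forall_fin_two.2 ⟨hp.left, hp.right⟩) hp.disj (Fin.forall_fin_two.2 ⟨hp.left_dim, hp.right_dim⟩)
      (by have := hp.left_dim; omega)
    exact ⟨g, hg, hgn⟩
  have hXY : CrossRoots M (D 0) (D 1) := by
    intro a ha b hb hab
    refine RootMem.of_iso (hp.left a ha) hab (hM _ (eich_mem_omega hQ hn5 (hp.left a ha) hab)
      (hstab _ (Or.inl ⟨gmap_eq_of_le _ fun x hx => ?_, gmap_eq_of_le _ fun y hy => ?_⟩)))
    · rw [mat_eichIso, eich_mulVec, polar_eq_zero hp.left ha hx]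
      simpa [sub_eq_add_neg] using (D 0).sub_mem hx ((D 0).smul_mem (𝔅 b x) ha)
    · rw [mat_eichIso, eich_mulVec, polar_eq_zero hp.right hb hy, hp.right b hb]
      simpa using (D 1).add_mem hy ((D 1).smul_mem (𝔅 a y) hb)
  have hYX := hXY.symm hp.left hp.right
  obtain ⟨s, hs, hs01, hs10⟩ := exists_swap_omega hQ hn5 hp hev
  have hsM : s ∈ M := hM s hs (hstab s (Or.inr ⟨hs01, hs10⟩))
  -- a pair inside one member makes both members full
  have hfull : ∀ {X Y : Submodule F (ι → F)}, IsSingularPair Q X Y → CrossRoots M X Y → gmap s Y = X →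
      (∃ b ∈ Y, b ≠ 0 ∧ ∃ b' ∈ Y, b' ∉ Submodule.span F {b} ∧ RootMem M b b') →
      Cfsg.Omega F ⇑Q ≤ M := by
    rintro X Y hp' hM' hsY ⟨b, hb, hb0, b', hb', hind, h⟩
    have hall := rootMem_right_of_pair hQ hp' hn hM' hb hb' hb0 hind h
    have hY : ∀ y ∈ Y, Full M y := by
      intro y hy w hyw
      obtain ⟨x, hx, z, hz, rfl⟩ := hp'.exists_decomp w
      have hyz : 𝔅 y z = 0 := polar_eq_zero hp'.right hy hz
      have hyx : 𝔅 y x = 0 := by rwa [QuadraticMap.polar_add_right, hyz, add_zero] at hyw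
      exact ((hM'.symm hp'.left hp'.right) y hy x hx hyx).add (hp'.right y hy) hyx hyz (hall y hy z hz)
    obtain ⟨x, hx, hbx⟩ : ∃ x ∈ X, 𝔅 b x ≠ 0 := by
      by_contra! hall'
      refine hb0 ((Submodule.eq_bot_iff _).1 hp'.disj b ⟨?_, hb⟩)
      rw [← qperp_lag hQ hp'.left hp'.left_dim, SetLike.mem_coe, mem_qperp]
      exact fun x hx => by rw [QuadraticMap.polar_comm]; exact hall' x hx
    rw [← hsY] at hx
    obtain ⟨y, hy, rfl⟩ := hx
    exact omega_le_of_full_pair hQ hn5 (hp'.right b hb) (by rw [mulVecLin_apply, quad_mulVec, hp'.right y hy])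
      hbx (hY b hb) ((hY y hy).conj hsM)
  rcases exists_mixed_or_le hQ hp hn hXY hgM with h0 | h0
  swap
  · exact hfull hp hXY hs10 h0
  rcases exists_mixed_or_le hQ hp.symm hn hYX hgM with h1 | h1
  swap
  · exact hfull hp.symm hYX hs01 h1
  exfalso
  have hd := hp.finrank_eq
  have heq : ∀ {A B : Submodule F (ι → F)}, gmap g A ≤ B → finrank F A = finrank F B → gmap g A = B :=
    fun h h' => Submodule.eq_of_le_of_finrank_eq h (by rw [finrank_gmap, h'])
  have hne : ∀ {A : Submodule F (ι → F)}, finrank F A = finrank F (D 0) → gmap g A ≤ D 0 → gmap g A ≤ D 1 →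
      False := fun h hl hr => by
    have h' := Submodule.finrank_mono (le_inf hl hr)
    rw [hp.disj, finrank_bot, finrank_gmap, h] at h'
    have := hp.left_dim
    omega
  apply hgS
  rcases h0 with h0 | h0
  · rcases h1 with h1 | h1
    · exact hstab g (Or.inl ⟨heq h0 rfl, heq h1 rfl⟩)
    · exact (hne rfl h0 h1).elim
  · rcases h1 with h1 | h1
    · exact (hne hd.symm h0 h1).elim
    · exact hstab g (Or.inr ⟨heq h1 hd, heq h0 hd.symm⟩)

end CfsgLib.OrthMax
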