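import Cfsg.Agent.OrthMax.DecompTools
import Cfsg.Agent.MaxSub.TensorFrameExamples

/-!
# Tensor stabilisers with a three-dimensional orthogonal factor over three elements

The small factor permutes an orthogonal frame, so the stabiliser permutes three orthogonal blocks.
-/

set_option autoImplicit false
set_option linter.unusedSectionVars false

namespace CfsgLib.OrthMax

open Matrix Module CfsgLib.Spinor CfsgLib.Forms Cfsg.Geo CfsgLib.OmegaOrbits

variable {F : Type*} [Field F] [Fintype F]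

/-- A similitude of a three-dimensional form over three elements permutes a frame of equal values. -/
theorem exists_perm_of_similitude_three (hq : Fintype.card F = 3) {f : (Fin 3 → F) → (Fin 3 → F) → F}
    (hf : IsSymmetricForm f) {v : Fin 3 → Fin 3 → F} (horth : ∀ i j, i ≠ j → f (v i) (v j) = 0)
    {a : F} (ha : a ≠ 0) (hval : ∀ i, f (v i) (v i) = a) {μ : F} (hμ : μ ≠ 0)
    {b : Matrix (Fin 3) (Fin 3) F} (hb : ∀ y y', f (b *ᵥ y) (b *ᵥ y') = μ * f y y') :
    ∃ π : Equiv.Perm (Fin 3), ∀ i, ∃ ε : F, ε ≠ 0 ∧ b *ᵥ v i = ε • v (π i) := by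
  have h30 : (3 : F) = 0 := by
    have h := FiniteField.cast_card_eq_zero F
    rw [hq] at h
    exact_mod_cast h
  have hsq : ∀ a : F, a ≠ 0 → a * a = 1 := fun a ha => by
    have := FiniteField.pow_card_sub_one_eq_one a ha
    rwa [hq, pow_two] at this
  have hs : MaxSub.SesqForm (RingEquiv.refl F) f :=
    ⟨hf.bilinear.add_left, hf.bilinear.smul_left, hf.bilinear.add_right,
      fun c v x => hf.bilinear.smul_right c v x, hf.nondegenerate⟩
  have hval0 : ∀ i, f (v i) (v i) ≠ 0 := fun i => by rw [hval]; exact ha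
  let M : Matrix (Fin 3) (Fin 3) F := fun i l => f (b *ᵥ v i) (v l) / a
  have hMM : M * M.transpose = μ • 1 := by
    refine Matrix.ext fun i j => ?_
    have e := hb (v i) (v j)
    conv_lhs at e => rw [MaxSub.frame_expand hs horth hval0 (b *ᵥ v i)]
    rw [Fin.sum_univ_three, hs.add_left, hs.add_left, hs.smul_left, hs.smul_left,
      hs.smul_left, hval, hval, hval, hf.symm (v 0), hf.symm (v 1), hf.symm (v 2)] at e
    rw [Matrix.mul_apply, Fin.sum_univ_three, Matrix.smul_apply, Matrix.one_apply, smul_eq_mul,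
      Matrix.transpose_apply, Matrix.transpose_apply, Matrix.transpose_apply]
    simp only [M]
    rcases eq_or_ne i j with rfl | hij
    · rw [hval] at e
      rw [if_pos rfl]
      field_simp at e ⊢
      linear_combination e
    · rw [horth i j hij] at e
      rw [if_neg hij]
      field_simp at e ⊢
      linear_combination e
  have hμ1 : μ = 1 := by
    have hd := congrArg Matrix.det hMM
    rw [det_mul, det_transpose, det_smul, det_one, Fintype.card_fin, mul_one] at hd
    have h0 : M.det ≠ 0 := fun h => pow_ne_zero 3 hμ (by rw [← hd, h, zero_mul])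
    rw [hsq _ h0] at hd
    linear_combination -hd + (-μ) * hsq μ hμ
  refine MaxSub.exists_framePerm hs horth hμ hb hval0 fun i => ?_
  have hrow := congrFun (congrFun hMM i) i
  simp only [Matrix.mul_apply, Matrix.transpose_apply, Fin.sum_univ_three, Matrix.smul_apply,
    Matrix.one_apply_eq, smul_eq_mul, mul_one, hμ1] at hrow
  have hz : ∀ l, M i l = 0 → f (b *ᵥ v i) (v l) = 0 := fun l h =>
    (div_eq_zero_iff.mp h).resolve_right ha
  by_cases c0 : M i 0 = 0 <;> by_cases c1 : M i 1 = 0 <;> by_cases c2 : M i 2 = 0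
  · exact ⟨0, fun l hl => hz l (by fin_cases l <;> simp_all)⟩
  · exact ⟨2, fun l hl => hz l (by fin_cases l <;> simp_all)⟩
  · exact ⟨1, fun l hl => hz l (by fin_cases l <;> simp_all)⟩
  · rw [c0, hsq _ c1, hsq _ c2] at hrow
    exact absurd (by linear_combination hrow : (1 : F) = 0) one_ne_zero
  · exact ⟨0, fun l hl => hz l (by fin_cases l <;> simp_all)⟩
  · rw [c1, hsq _ c0, hsq _ c2] at hrow
    exact absurd (by linear_combination hrow : (1 : F) = 0) one_ne_zero
  · rw [c2, hsq _ c0, hsq _ c1] at hrow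
    exact absurd (by linear_combination hrow : (1 : F) = 0) one_ne_zero
  · rw [hsq _ c0, hsq _ c1, hsq _ c2] at hrow
    exact absurd (by linear_combination h30 - hrow : (1 : F) = 0) one_ne_zero

variable {ι : Type} [Fintype ι] [DecidableEq ι] {Q : QuadraticForm F (ι → F)}

set_option quotPrecheck false in
local notation "𝔅" => QuadraticMap.polar (⇑Q)

/-- The tensor stabiliser `3 ⊗ n₂` over three elements is not maximal. -/
theorem not_maximal_tensor_three (hQ : (QuadraticMap.polarBilin Q).Nondegenerate)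
    (hq : Fintype.card F = 3) {n₂ : ℕ} (hn₂ : 3 ≤ n₂) (e : ι ≃ Fin 3 × Fin n₂) (P : GL ι F)
    {f₁ : (Fin 3 → F) → (Fin 3 → F) → F} {f₂ : (Fin n₂ → F) → (Fin n₂ → F) → F}
    (hf₁ : IsSymmetricForm f₁) (hf₂ : IsSymmetricForm f₂)
    (hT : IsTensorFormStructure id (QuadraticMap.polar ⇑Q) f₁ f₂ e P) :
    ∃ K : Subgroup (GL ι F), tensorProductSubgroup 3 n₂ e P ⊓ omegaGL ⇑Q < K ∧ K < omegaGL ⇑Q := by
  have hn : Fintype.card ι = 3 * n₂ := by rw [Fintype.card_congr e]; simp
  have hn5 : 5 ≤ Fintype.card ι := by omega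
  obtain ⟨c, hc, hform⟩ := TensorNonmax.form_tmul hf₁.bilinear hf₂.bilinear hT
  obtain ⟨v, horth, a, ha, hval⟩ := MaxSub.exists_frame_three hq hf₁
  let L : Fin 3 → (Fin n₂ → F) →ₗ[F] (ι → F) := fun i => TensorNonmax.tmul e P (v i)
  have hv0 : ∀ i, v i ≠ 0 := fun i h => ha (by
    have h0 := hf₁.bilinear.smul_left 0 (v i) (v i)
    rw [zero_smul, zero_mul] at h0
    rw [← hval i]
    nth_rewrite 1 [h]
    exact h0)
  have hLinj : ∀ i, Function.Injective (L i) := fun i y y' h => TensorNonmax.tmul_right_inj e P (hv0 i) h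
  let D : Fin 3 → Submodule F (ι → F) := fun i => LinearMap.range (L i)
  have hDd : ∀ i, finrank F (D i) = n₂ := fun i => by
    rw [LinearMap.finrank_range_of_inj (hLinj i), Module.finrank_fin_fun]
  have hDo : ∀ i j, i ≠ j → AreOrthogonalFor (QuadraticMap.polar ⇑Q) (D i) (D j) := by
    rintro i j hij _ ⟨y, rfl⟩ _ ⟨y', rfl⟩
    rw [hform, horth i j hij, zero_mul, mul_zero]
  have hDn : ∀ i, Nd Q (D i) := by
    rintro i _ ⟨y, rfl⟩ hzero
    by_cases hy : y = 0
    · rw [hy, map_zero]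
    obtain ⟨-, y', hy'⟩ := hf₂.nondegenerate y hy
    have := hzero _ ⟨y', rfl⟩
    rw [hform, hval, hf₂.symm] at this
    exact absurd this (mul_ne_zero hc (mul_ne_zero ha hy'))
  have hDinj : Function.Injective D := fun i j hij => by
    by_contra hne
    have h0 : D i = ⊥ := by
      rw [eq_bot_iff]
      intro z hz
      rw [Submodule.mem_bot]
      exact hDn i z hz fun x hx => hDo i j hne x hx z (hij ▸ hz)
    have := hDd i
    rw [h0, finrank_bot] at this
    omega
  refine not_maximal_omega (T := decompositionStabilizer D) ?_ ?_ ?_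
  · rintro _ ⟨hg, g, -, rfl⟩
    obtain ⟨A, B, hAB⟩ := TensorNonmax.mem_tensorProductSubgroup hg
    obtain ⟨y₁, hy₁0⟩ : ∃ y : Fin n₂ → F, y ≠ 0 := ⟨Pi.single ⟨0, by omega⟩ 1, by simp⟩
    obtain ⟨-, y₂, hy₂⟩ := hf₂.nondegenerate y₁ hy₁0
    have hsim : ∀ x x' y y', f₁ ((A : Matrix _ _ F) *ᵥ x) ((A : Matrix _ _ F) *ᵥ x') *
        f₂ ((B : Matrix _ _ F) *ᵥ y) ((B : Matrix _ _ F) *ᵥ y') = f₁ x x' * f₂ y y' := by
      intro x x' y y'
      refine mul_left_cancel₀ hc ?_
      rw [← hform, ← hform, ← hAB, ← hAB]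
      exact polar_mulVec Q g _ _
    set ν := f₂ ((B : Matrix _ _ F) *ᵥ y₁) ((B : Matrix _ _ F) *ᵥ y₂) with hν
    have hν0 : ν ≠ 0 := fun h => by
      have := hsim (v 0) (v 0) y₁ y₂
      rw [← hν, h, mul_zero, hval, eq_comm] at this
      exact mul_ne_zero ha hy₂ this
    obtain ⟨π, hπ⟩ := exists_perm_of_similitude_three hq hf₁ horth ha hval
      (μ := f₂ y₁ y₂ / ν) (div_ne_zero hy₂ hν0) (b := (A : Matrix _ _ F)) fun x x' => by
        rw [div_mul_eq_mul_div, eq_div_iff hν0, hν, mul_comm (f₂ y₁ y₂)]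
        exact hsim x x' y₁ y₂
    refine mem_decompositionStabilizer_of_maps hDinj hDd fun i => ⟨π i, ?_⟩
    rintro _ ⟨y, rfl⟩
    obtain ⟨ε, -, hε⟩ := hπ i
    refine ⟨ε • (B : Matrix _ _ F) *ᵥ y, ?_⟩
    show TensorNonmax.tmul e P (v (π i)) _ = _
    rw [hAB, hε, LinearMap.map_smul, LinearMap.map_smul, LinearMap.smul_apply]
  · obtain ⟨p, hp, hp0, hpq⟩ := exists_singular hQ (D 0) (by rw [hDd]; omega)
    obtain ⟨x, hx, hxp⟩ : ∃ x ∈ D 0 ⊓ qperp Q (Submodule.span F {p}), x ∉ Submodule.span F {p} := by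
      by_contra! h
      have h1 := Submodule.finrank_mono (h : D 0 ⊓ qperp Q (Submodule.span F {p}) ≤ Submodule.span F {p})
      have h2 := finrank_le_inf_qperp_add_one hQ (D 0) p
      rw [finrank_span_singleton hp0] at h1
      rw [hDd] at h2
      omega
    obtain ⟨w, hw, hpw, hwx⟩ : ∃ w ∈ D 0, 𝔅 p w = 0 ∧ 𝔅 w x ≠ 0 := by
      by_contra! h
      exact hxp ((hDn 0).mem_span_of_perp hp hx.1 h)
    set g := eichIso Q p w hpq hpw
    have hfix : ∀ {z}, 𝔅 p z = 0 → 𝔅 w z = 0 → mat Q g *ᵥ z = z := fun {z} h1 h2 => by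
      rw [mat_eichIso, eich_mulVec, h1, h2]; simp
    refine ⟨g, eich_mem_omega hQ hn5 hpq hpw,
      mem_decompositionStabilizer_of_maps hDinj hDd fun i => ⟨i, fun z hz => ?_⟩, fun hg => ?_⟩
    · by_cases hi : i = 0
      · subst hi
        change mat Q g *ᵥ z ∈ D 0
        rw [mat_eichIso, eich_mulVec]
        exact (D 0).add_mem hz ((D 0).sub_mem ((D 0).sub_mem ((D 0).smul_mem _ hw) ((D 0).smul_mem _ hp))
          ((D 0).smul_mem _ hp))
      · change mat Q g *ᵥ z ∈ D i
        rw [hfix (hDo 0 i (Ne.symm hi) _ hp _ hz) (hDo 0 i (Ne.symm hi) _ hw _ hz)]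
        exact hz
    · obtain ⟨A, B, hAB⟩ := TensorNonmax.mem_tensorProductSubgroup hg
      -- the first block must move like the second, which is fixed
      have hB : ∀ y, TensorNonmax.tmul e P ((A : Matrix _ _ F) *ᵥ v 1) ((B : Matrix _ _ F) *ᵥ y) =
          TensorNonmax.tmul e P (v 1) y := fun y => by
        rw [← hAB]
        exact hfix (hDo 0 1 (by decide) _ hp _ ⟨y, rfl⟩) (hDo 0 1 (by decide) _ hw _ ⟨y, rfl⟩)
      set κ := f₁ ((A : Matrix _ _ F) *ᵥ v 1) (v 1) / a with hκ
      have hBy : ∀ y : Fin n₂ → F, κ • ((B : Matrix (Fin n₂) (Fin n₂) F) *ᵥ y) = y := by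
        intro y
        by_contra hne
        obtain ⟨-, y', hy'⟩ := hf₂.nondegenerate _ (sub_ne_zero.2 hne)
        have e0 := congrArg (fun u => 𝔅 u (TensorNonmax.tmul e P (v 1) y')) (hB y)
        simp only [hform, hval] at e0
        refine hy' ?_
        rw [sub_eq_add_neg, hf₂.bilinear.add_left, ← neg_one_smul F y, hf₂.bilinear.smul_left,
          hf₂.bilinear.smul_left, hκ, div_mul_eq_mul_div]
        field_simp
        linear_combination mul_left_cancel₀ hc e0
      obtain ⟨y₀, hy₀⟩ := hp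
      obtain ⟨y, hy⟩ := hx.1
      have hκ0 : κ ≠ 0 := fun h => hp0 (by rw [← hy₀, ← hBy y₀, h, zero_smul, map_zero])
      have hact : ∀ y, mat Q g *ᵥ L 0 y = TensorNonmax.tmul e P (κ⁻¹ • (A : Matrix _ _ F) *ᵥ v 0) y := by
        intro y
        change ((g : GL ι F) : Matrix ι ι F) *ᵥ TensorNonmax.tmul e P (v 0) y = _
        rw [hAB, map_smul, LinearMap.smul_apply]
        conv_rhs => rw [← hBy y, map_smul, inv_smul_smul₀ hκ0]
      have hy00 : y₀ ≠ 0 := fun h => hp0 (by rw [← hy₀, h, map_zero])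
      have h0 : κ⁻¹ • (A : Matrix _ _ F) *ᵥ v 0 = v 0 := by
        refine TensorNonmax.tmul_left_inj e P hy00 ?_
        rw [← hact]
        show mat Q g *ᵥ L 0 y₀ = L 0 y₀
        rw [hy₀, mat_eichIso, eich_mulVec_left hpq hpw]
      have hxfix : mat Q g *ᵥ x = x := by rw [← hy, hact, h0]
      rw [mat_eichIso, eich_mulVec, mem_qperp_singleton.1 hx.2] at hxfix
      simp at hxfix
      rcases hxfix with h | h
      · exact hwx h
      · exact hp0 h
  · exact exists_move_decomp hQ hn5 hDo (i := 0) (hDn 0)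
      (fun h => by have := hDd 0; rw [h, finrank_bot] at this; omega)
      (by rw [finrank_qperp hQ, hDd]; omega)

end CfsgLib.OrthMax
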