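import Cfsg.Agent.OrthMax.UnitaryFieldMax

/-!
# Quadratic fields of similitudes

`exists_ustr`: an adjoint closed quadratic field of similitudes which is not self-adjoint is spanned by `1` and a
`UStr`.
-/

set_option autoImplicit false
set_option linter.unusedSectionVars false

namespace CfsgLib.OrthMax

open Matrix Module CfsgLib.Spinor CfsgLib.Forms CfsgLib.Forms4 Cfsg.Geo CfsgLib.OmegaOrbits

variable {F : Type*} [Field F] [Fintype F] {ι : Type} [Fintype ι] [DecidableEq ι] {Q : QuadraticForm F (ι → F)}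

set_option quotPrecheck false in
local notation "𝔅" => QuadraticMap.polar (⇑Q)

theorem exists_ustr [Nonempty ι] (hQ : (QuadraticMap.polarBilin Q).Nondegenerate) {K : Subalgebra F (Matrix ι ι F)}
    (hK : IsFieldSubalgebra 2 K) (hac : IsAdjointClosedFor (QuadraticMap.polar ⇑Q) K)
    (hnsa : ¬ IsSelfAdjointFor (QuadraticMap.polar ⇑Q) K)
    (hsc : ∀ k ∈ K, ∃ c : F, ∀ v, Q (k *ᵥ v) = c * Q v) :
    ∃ (Jm : Matrix ι ι F) (a b : F), UStr Q (Matrix.mulVecLin Jm) a b ∧
      ∀ k, k ∈ K ↔ ∃ p q : F, k = p • 1 + q • Jm := by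
  have : Module.Finite F K := Module.Finite.of_injective K.val.toLinearMap Subtype.val_injective
  obtain ⟨Jm, hJK, hJ1⟩ : ∃ Jm ∈ K, Jm ∉ Submodule.span F {(1 : Matrix ι ι F)} := by
    by_contra! hall
    have := Submodule.finrank_mono (show Subalgebra.toSubmodule K ≤ Submodule.span F {1} from fun k hk => hall k hk)
    rw [finrank_span_singleton (one_ne_zero : (1 : Matrix ι ι F) ≠ 0)] at this
    have h2 : finrank F (Subalgebra.toSubmodule K) = 2 := hK.finrank_eq
    omega
  have hind : ∀ p q : F, p • (1 : Matrix ι ι F) + q • Jm = 0 → p = 0 ∧ q = 0 := by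
    intro p q h0
    by_cases hq : q = 0
    · subst hq
      refine ⟨?_, rfl⟩
      rw [zero_smul, add_zero, smul_eq_zero] at h0
      exact h0.resolve_right one_ne_zero
    · refine absurd (Submodule.mem_span_singleton.2 ⟨-p / q, ?_⟩) hJ1
      have := congrArg (q⁻¹ • ·) h0
      simp only [smul_add, smul_smul, inv_mul_cancel₀ hq, one_smul, smul_zero] at this
      rw [eq_neg_of_add_eq_zero_right this, ← neg_smul]
      congr 1
      field_simp
  have hspan : Subalgebra.toSubmodule K = Submodule.span F {1, Jm} := by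
    refine (Submodule.eq_of_le_of_finrank_le ?_ ?_).symm
    · rw [Submodule.span_le]
      rintro k (rfl | rfl)
      · exact K.one_mem
      · exact hJK
    · rw [show finrank F (Subalgebra.toSubmodule K) = 2 from hK.finrank_eq]
      have hli : LinearIndependent F ![(1 : Matrix ι ι F), Jm] :=
        LinearIndependent.pair_iff.2 hind
      have := finrank_span_eq_card hli
      rw [Matrix.range_cons_cons_empty, Fintype.card_fin] at this
      rw [this]
  have hmem : ∀ k, k ∈ K ↔ ∃ p q : F, k = p • 1 + q • Jm := fun k => by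
    rw [← Subalgebra.mem_toSubmodule, hspan, Submodule.mem_span_pair]
    simp [eq_comm]
  obtain ⟨b, a, hsq⟩ := (hmem _).1 (K.mul_mem hJK hJK)
  obtain ⟨J', hJ'K, hadj'⟩ := hac Jm hJK
  obtain ⟨p, q, rfl⟩ := (hmem _).1 hJ'K
  obtain ⟨ν, hν⟩ := hsc Jm hJK
  set J := Matrix.mulVecLin Jm with hJ
  have hsqv : ∀ x, J (J x) = a • J x + b • x := fun x => by
    rw [hJ, mulVecLin_apply, mulVecLin_apply, mulVec_mulVec, hsq, add_mulVec, Matrix.smul_mulVec,
      Matrix.smul_mulVec, one_mulVec, add_comm]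
  have hadj : ∀ x y, 𝔅 (J x) y = p * 𝔅 x y + q * 𝔅 x (J y) := fun x y => by
    rw [hJ, mulVecLin_apply, hadj', add_mulVec, Matrix.smul_mulVec, Matrix.smul_mulVec, one_mulVec,
      QuadraticMap.polar_add_right, QuadraticMap.polar_smul_right, QuadraticMap.polar_smul_right, mulVecLin_apply,
      smul_eq_mul, smul_eq_mul]
  have hzero : ∀ c e : F, (∀ x y, c * 𝔅 x y + e * 𝔅 x (J y) = 0) → c = 0 ∧ e = 0 := by
    intro c e h0
    refine hind c e (Matrix.ext_iff_mulVec.2 fun y => ?_)
    rw [zero_mulVec]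
    refine hQ.2 _ fun x => ?_
    show 𝔅 x ((c • (1 : Matrix ι ι F) + e • Jm) *ᵥ y) = 0
    rw [add_mulVec, Matrix.smul_mulVec, Matrix.smul_mulVec, one_mulVec, QuadraticMap.polar_add_right,
      QuadraticMap.polar_smul_right, QuadraticMap.polar_smul_right, ← mulVecLin_apply, ← hJ]
    exact h0 x y
  have hJJ : ∀ x y, 𝔅 (J x) (J y) = ν * 𝔅 x y := fun x y => by
    simp only [QuadraticMap.polar, hJ, mulVecLin_apply, ← mulVec_add, hν]
    ring
  obtain ⟨e1, e2⟩ := hzero (q * b - ν) (p + q * a) fun x y => by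
    have h1 := hJJ x y
    rw [hadj, hsqv, QuadraticMap.polar_add_right, QuadraticMap.polar_smul_right, QuadraticMap.polar_smul_right,
      smul_eq_mul, smul_eq_mul] at h1
    linear_combination h1
  obtain ⟨e3, e4⟩ := hzero (p + p * q) (q * q - 1) fun x y => by
    have h1 := hadj y x
    rw [QuadraticMap.polar_comm (⇑Q) y x, QuadraticMap.polar_comm (⇑Q) y (J x), QuadraticMap.polar_comm (⇑Q) (J y) x,
      hadj x y] at h1
    linear_combination -h1
  have hpq : q = -1 ∧ p = a := by
    have hp : p = -(q * a) := eq_neg_of_add_eq_zero_left e2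
    rcases mul_self_eq_one_iff.1 (sub_eq_zero.1 e4) with rfl | rfl
    · rw [mul_one] at e3
      rw [one_mul] at hp
      by_cases h2 : (2 : F) = 0
      · exact ⟨by linear_combination h2, by linear_combination hp - a * h2⟩
      · exfalso
        have hp0 : p = 0 := (mul_eq_zero.1 (by linear_combination e3 : (2 : F) * p = 0)).resolve_left h2
        subst hp0
        refine hnsa fun k hk x y => ?_
        obtain ⟨c, e, rfl⟩ := (hmem k).1 hk
        have := hadj x y
        rw [hJ, mulVecLin_apply, mulVecLin_apply, zero_mul, zero_add, one_mul] at this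
        simp only [add_mulVec, Matrix.smul_mulVec, one_mulVec, QuadraticMap.polar_add_left,
          QuadraticMap.polar_add_right, QuadraticMap.polar_smul_left, QuadraticMap.polar_smul_right, this]
    · exact ⟨rfl, by linear_combination hp⟩
  obtain ⟨rfl, rfl⟩ := hpq
  have hadj1 : ∀ x y, 𝔅 (J x) y = p * 𝔅 x y - 𝔅 x (J y) := fun x y => by rw [hadj]; ring
  obtain ⟨c, hc⟩ := hsc (1 + Jm) (K.add_mem K.one_mem hJK)
  have hμ : ∀ x, 𝔅 x (J x) = (c - 1 - ν) * Q x := fun x => by
    have h1 := hc x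
    rw [add_mulVec, one_mulVec, QuadraticMap.map_add (⇑Q), hν, ← mulVecLin_apply, ← hJ] at h1
    linear_combination h1
  have hμa : c - 1 - ν = p := by
    obtain ⟨e5, -⟩ := hzero (p - (c - 1 - ν)) 0 fun x y => by
      have h1 := hμ (x + y)
      rw [map_add, QuadraticMap.polar_add_left, QuadraticMap.polar_add_right, QuadraticMap.polar_add_right, hμ, hμ,
        QuadraticMap.map_add (⇑Q), QuadraticMap.polar_comm (⇑Q) y (J x), hadj1] at h1
      linear_combination h1
    exact (sub_eq_zero.1 e5).symm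
  refine ⟨Jm, p, b, ⟨hsqv, hadj1, fun x => ?_, fun x => by rw [hμ, hμa], fun e he => ?_⟩, hmem⟩
  · rw [mulVecLin_apply, hν]
    linear_combination (-Q x) * e1
  · have hnz : ∀ c : F, Jm + c • 1 ≠ 0 := fun c h0 => one_ne_zero (hind c 1 (by rw [one_smul, add_comm, h0])).2
    obtain ⟨y, -, hy⟩ := hK.inv (Jm + (-e) • 1) (K.add_mem hJK (K.smul_mem K.one_mem _)) (hnz _)
    refine hnz (e - p) ?_
    have h0 : (Jm + (e - p) • 1) * (Jm + (-e) • 1) = 0 := by
      rw [add_mul, mul_add, mul_add, hsq, mul_smul_comm, smul_mul_assoc, smul_mul_assoc, mul_smul_comm, mul_one,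
        one_mul, mul_one]
      linear_combination (norm := module) (-1 : F) • congrArg (fun t : F => t • (1 : Matrix ι ι F)) he
    calc Jm + (e - p) • 1 = (Jm + (e - p) • 1) * ((Jm + (-e) • 1) * y) := by rw [hy, mul_one]
      _ = 0 := by rw [← mul_assoc, h0, zero_mul]

/-- Quadratic fields of similitudes with nontrivial adjoint have maximal normalisers in `Ω`. -/
theorem isMaximalIn_unitary_field (hQ : (QuadraticMap.polarBilin Q).Nondegenerate) (hn : 10 ≤ Fintype.card ι)
    {K : Subalgebra F (Matrix ι ι F)} (hK : IsFieldSubalgebra 2 K)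
    (hac : IsAdjointClosedFor (QuadraticMap.polar ⇑Q) K) (hnsa : ¬ IsSelfAdjointFor (QuadraticMap.polar ⇑Q) K)
    (hsc : ∀ k ∈ K, ∃ c : F, ∀ v, Q (k *ᵥ v) = c * Q v) :
    IsMaximalIn (omegaGL ⇑Q) (subalgebraNormalizer K ⊓ omegaGL ⇑Q) := by
  have : Nonempty ι := Fintype.card_pos_iff.1 (by omega)
  obtain ⟨Jm, a, b, h, hmem⟩ := exists_ustr hQ hK hac hnsa hsc
  exact isMaximalIn_unitary hQ hn h hmem

end CfsgLib.OrthMax
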