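import Cfsg.Agent.OrthMax.UnitaryStr
import Cfsg.Agent.ExtField.Bridge

/-!
# Normalisers of quadratic fields acting by similitudes with a nontrivial adjoint

`isMaximalIn_unitary`: the unitary subgroup's normaliser is maximal in `Ω(Q)` from dimension ten.
-/

set_option autoImplicit false
set_option linter.unusedSectionVars false

namespace CfsgLib.OrthMax

open Matrix Module CfsgLib.Spinor CfsgLib.Forms CfsgLib.Forms4 Cfsg.Geo CfsgLib.OmegaOrbits

variable {F : Type*} [Field F] {ι : Type} [Fintype ι] [DecidableEq ι] {Q : QuadraticForm F (ι → F)}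
variable [Fintype F] {J : (ι → F) →ₗ[F] (ι → F)} {a b : F} {M : Subgroup (Isom Q)}

set_option quotPrecheck false in
local notation "𝔅" => QuadraticMap.polar (⇑Q)

/-- The transvections of the unitary structure lie in `M`. -/
def UTrans (M : Subgroup (Isom Q)) (J : (ι → F) →ₗ[F] (ι → F)) : Prop :=
  ∀ z : ι → F, Q z = 0 → ∀ c : F, RootMem M z (c • J z)

/-- The vectors of `(line J d)⊥` all of whose multiples pair with `d` in `M`. -/
def AllRoots (M : Subgroup (Isom Q)) (J : (ι → F) →ₗ[F] (ι → F)) (d : ι → F) : Prop :=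
  ∀ w, QuadraticMap.polar (⇑Q) d w = 0 → QuadraticMap.polar (⇑Q) (J d) w = 0 → RootMem M d w

theorem mem_qperp_line {x v : ι → F} : v ∈ qperp Q (line J x) ↔ 𝔅 x v = 0 ∧ 𝔅 (J x) v = 0 :=
  mem_qperp_span_pair

/-- Translating along a transvection. -/
theorem rootMem_tvec (h : UStr Q J a b) (hM : UTrans M J) {d z w : ι → F} (hd : Q d = 0) (hz : Q z = 0)
    (hzd : 𝔅 z d = 0) (hJzd : 𝔅 (J z) d = 0) (hdw : 𝔅 d w = 0) (hw : RootMem M d w) (c : F) :
    RootMem M d (c • tvec Q J z w) := by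
  have hzJ : 𝔅 z (c • J z) = 0 := by rw [QuadraticMap.polar_smul_right, h.polar_self_J hz, smul_zero]
  have := hw.conj ((hM z hz c).iso hz hzJ)
  rw [mat_eichIso, h.eich_apply hz, h.eich_apply hz,
    show tvec Q J z d = 0 by rw [tvec, hzd, hJzd, zero_smul, zero_smul, sub_zero], smul_zero, add_zero] at this
  have hdt : 𝔅 d (c • tvec Q J z w) = 0 := by
    rw [tvec, QuadraticMap.polar_smul_right, QuadraticMap.polar_sub_right, QuadraticMap.polar_smul_right,
      QuadraticMap.polar_smul_right, QuadraticMap.polar_comm (⇑Q) d z, hzd,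
      QuadraticMap.polar_comm (⇑Q) d (J z), hJzd]
    simp
  have hsum : 𝔅 d (w + c • tvec Q J z w) = 0 := by rw [QuadraticMap.polar_add_right, hdw, hdt, add_zero]
  have := this.add hd hsum (by rw [QuadraticMap.polar_neg_right, hdw, neg_zero]) (hw.neg hd hdw)
  rwa [show w + c • tvec Q J z w + -w = c • tvec Q J z w by abel] at this

/-- A singular vector not orthogonal to a member joins with all multiples. -/
theorem rootMem_of_nonperp (hQ : (QuadraticMap.polarBilin Q).Nondegenerate) (hn : 10 ≤ Fintype.card ι)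
    (h : UStr Q J a b) (hM : UTrans M J) {d z w : ι → F} (hd : Q d = 0) (hd0 : d ≠ 0)
    (hw : RootMem M d w) (hdw : 𝔅 d w = 0) (hJdw : 𝔅 (J d) w = 0)
    (hz : Q z = 0) (hdz : 𝔅 d z = 0) (hJdz : 𝔅 (J d) z = 0)
    (hne : 𝔅 z w ≠ 0 ∨ 𝔅 (J z) w ≠ 0) : ∀ c : F, RootMem M d (c • z) := by
  have hzd : 𝔅 z d = 0 := by rw [QuadraticMap.polar_comm, hdz]
  have hJzd : 𝔅 (J z) d = 0 := by
    rw [h.adj, hzd, QuadraticMap.polar_comm (⇑Q) z (J d), hJdz, mul_zero, sub_zero]
  set α := 𝔅 z w with hα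
  set β := 𝔅 (J z) w with hβ
  set y := tvec Q J z w with hy
  have hzJw : 𝔅 z (J w) = a * α - β := h.polar_left_J z w
  have hJzJw : 𝔅 (J z) (J w) = -b * α := h.polar_J_J z w
  have hzz : 𝔅 z (J z) = 0 := h.polar_self_J hz
  have hzz' : 𝔅 (J z) z = 0 := by rw [QuadraticMap.polar_comm, hzz]
  have hzz0 : 𝔅 z z = 0 := by rw [polar_self', hz, mul_zero]
  have hJJ0 : 𝔅 (J z) (J z) = 0 := by rw [polar_self', h.quad_J_eq_zero hz, mul_zero]
  have hdet : ∀ e f : F, e * α + f * (a * α - β) = 0 → e * β + f * (-b * α) = 0 → e = 0 ∧ f = 0 := by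
    intro e f h1 h2
    have hN : -b * (α * α) - (a * α - β) * β ≠ 0 := by
      intro h0
      have := h.det_ne (p := β) (q := -α) (by
        rcases hne with h' | h'
        · exact Or.inr (neg_ne_zero.2 h')
        · exact Or.inl h')
      exact this (by linear_combination h0)
    refine ⟨(mul_eq_zero.1 (?_ : e * (-b * (α * α) - (a * α - β) * β) = 0)).resolve_right hN,
      (mul_eq_zero.1 (?_ : f * (-b * (α * α) - (a * α - β) * β) = 0)).resolve_right hN⟩
    · linear_combination (-b * α) * h1 - (a * α - β) * h2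
    · linear_combination (-β) * h1 + α * h2
  -- a singular `v` with `tvec v w = v` and `𝔅 y v = 1`
  set T₁ : Submodule F (ι → F) := line J d ⊔ Submodule.span F {w, y} with hT₁
  set T₂ : Submodule F (ι → F) := line J d ⊔ Submodule.span F {w, J w} with hT₂
  have hBd : ∀ x ∈ line J d, 𝔅 z x = 0 ∧ 𝔅 (J z) x = 0 := by
    intro x hx
    obtain ⟨p, q, rfl⟩ := mem_line.1 hx
    have e1 : 𝔅 z (J d) = 0 := by rw [QuadraticMap.polar_comm, hJdz]
    have e2 : 𝔅 (J z) (J d) = 0 := by rw [h.polar_J_J, hzd, mul_zero]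
    constructor <;>
      simp [QuadraticMap.polar_add_right, QuadraticMap.polar_smul_right, hzd, hJzd, e1, e2]
  have hJw : J w ∉ T₁ := by
    intro hmem
    obtain ⟨x, hx, u, hu, hxu⟩ := Submodule.mem_sup.1 hmem
    obtain ⟨e, f, rfl⟩ := Submodule.mem_span_pair.1 hu
    obtain ⟨c1, c2⟩ := hBd x hx
    have e1 := congrArg (𝔅 z) hxu
    have e2 := congrArg (𝔅 (J z)) hxu
    simp only [hy, tvec, QuadraticMap.polar_add_right, QuadraticMap.polar_smul_right,
      QuadraticMap.polar_sub_right, hzz, hzz', hzz0, hJJ0, c1, c2, smul_zero, sub_zero, add_zero, zero_add,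
      ← hα, ← hβ, hzJw, hJzJw, smul_eq_mul] at e1 e2
    obtain ⟨-, h1⟩ := hdet e (-1) (by linear_combination e1) (by linear_combination e2)
    exact neg_ne_zero.2 one_ne_zero h1
  have hy2 : y ∉ T₂ := by
    intro hmem
    obtain ⟨x, hx, u, hu, hxu⟩ := Submodule.mem_sup.1 hmem
    obtain ⟨e, f, rfl⟩ := Submodule.mem_span_pair.1 hu
    obtain ⟨c1, c2⟩ := hBd x hx
    have e1 := congrArg (𝔅 z) hxu
    have e2 := congrArg (𝔅 (J z)) hxu
    simp only [hy, tvec, QuadraticMap.polar_add_right, QuadraticMap.polar_smul_right,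
      QuadraticMap.polar_sub_right, hzz, hzz', hzz0, hJJ0, c1, c2, smul_zero, sub_zero, add_zero, zero_add,
      ← hα, ← hβ, hzJw, hJzJw, smul_eq_mul] at e1 e2
    obtain ⟨he, hf⟩ := hdet e f (by linear_combination e1) (by linear_combination e2)
    rw [he, hf, zero_smul, zero_smul, add_zero, add_zero] at hxu
    have hzy : z ∈ line J y := h.mem_line_symm (tvec_mem_line z w) (h.tvec_ne_zero hne)
    have hzd' : z ∈ line J d := h.line_le (hxu ▸ hx) hzy
    obtain ⟨p, q, hpq⟩ := mem_line.1 hzd'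
    have z1 : α = 0 := by
      rw [hα, ← hpq, QuadraticMap.polar_add_left, QuadraticMap.polar_smul_left, QuadraticMap.polar_smul_left,
        hdw, hJdw, smul_zero, smul_zero, add_zero]
    have z2 : β = 0 := by
      rw [hβ, ← hpq, map_add, map_smul, map_smul, h.sq, QuadraticMap.polar_add_left,
        QuadraticMap.polar_smul_left, QuadraticMap.polar_smul_left, QuadraticMap.polar_add_left,
        QuadraticMap.polar_smul_left, QuadraticMap.polar_smul_left, hdw, hJdw]
      simp
    exact hne.elim (fun h' => h' z1) (fun h' => h' z2)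
  obtain ⟨v₁, hv₁, hv₁1⟩ := exists_dual_one hQ hJw
  obtain ⟨v₂, hv₂, hv₂1⟩ := exists_dual_one hQ hy2
  set S := Submodule.span F {w, J w} ⊔ (line J d ⊔ Submodule.span F {y}) with hS
  obtain ⟨v, hvq, hv⟩ := exists_singular_affine' hQ S (by
    have h1 := Submodule.finrank_sup_add_finrank_inf_eq (Submodule.span F {w, J w})
      (line J d ⊔ Submodule.span F {y})
    have h2 := Submodule.finrank_sup_add_finrank_inf_eq (line J d) (Submodule.span F {y})
    have h3 : finrank F (Submodule.span F {y}) ≤ 1 := (finrank_span_le_card _).trans (by simp)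
    have h4 := finrank_line_le (J := J) d
    have h5 := finrank_span_pair_le w (J w)
    rw [← hS] at h1
    -- `y` and `J w` pair outside the radical
    have hyS : y ∈ S := Submodule.mem_sup_right (Submodule.mem_sup_right (Submodule.mem_span_singleton_self y))
    have hJwS : J w ∈ S := Submodule.mem_sup_left (Submodule.subset_span (by simp))
    have hN : 𝔅 y (J w) ≠ 0 := by
      intro h0
      rw [hy, tvec, QuadraticMap.polar_sub_left, QuadraticMap.polar_smul_left, QuadraticMap.polar_smul_left,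
        hzJw, hJzJw, ← hα, ← hβ, smul_eq_mul, smul_eq_mul] at h0
      refine h.det_ne (p := β) (q := -α) ?_ (by linear_combination h0)
      rcases hne with h' | h'
      · exact Or.inr (neg_ne_zero.2 h')
      · exact Or.inl h'
    have hyy : 𝔅 y y = 0 := by
      rw [hy, tvec]
      simp only [QuadraticMap.polar_sub_left, QuadraticMap.polar_smul_left, QuadraticMap.polar_sub_right,
        QuadraticMap.polar_smul_right, hzz, hzz', hzz0, hJJ0, smul_zero, sub_zero]
    have hlt1 : finrank F (S ⊓ qperp Q (Submodule.span F {y}) : Submodule F (ι → F)) < finrank F S :=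
      Submodule.finrank_lt_finrank_of_lt (lt_of_le_of_ne inf_le_left fun e =>
        hN (mem_qperp_singleton.1 (e.symm ▸ hJwS : J w ∈ S ⊓ qperp Q (Submodule.span F {y})).2))
    have hlt2 : finrank F (qperp Q S ⊓ S : Submodule F (ι → F)) <
        finrank F (S ⊓ qperp Q (Submodule.span F {y}) : Submodule F (ι → F)) := by
      refine Submodule.finrank_lt_finrank_of_lt (lt_of_le_of_ne
        (fun x hx => ⟨hx.2, mem_qperp_singleton.2 (mem_qperp.1 hx.1 y hyS)⟩) fun e => hN ?_)
      have hy' : y ∈ qperp Q S ⊓ S := e.symm ▸ ⟨hyS, mem_qperp_singleton.2 hyy⟩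
      rw [QuadraticMap.polar_comm]
      exact mem_qperp.1 hy'.1 _ hJwS
    omega) (v₁ + v₂)
  have hval : ∀ x ∈ S, 𝔅 x v = 𝔅 x v₁ + 𝔅 x v₂ := fun x hx => by
    have := mem_qperp.1 hv x hx
    rw [QuadraticMap.polar_sub_right, QuadraticMap.polar_add_right] at this
    linear_combination this
  have hw1 : 𝔅 w v₁ = 0 := mem_qperp.1 hv₁ _ (Submodule.mem_sup_right (Submodule.subset_span (by simp)))
  have hy1 : 𝔅 y v₁ = 0 := mem_qperp.1 hv₁ _ (Submodule.mem_sup_right (Submodule.subset_span (by simp)))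
  have hw2 : 𝔅 w v₂ = 0 := mem_qperp.1 hv₂ _ (Submodule.mem_sup_right (Submodule.subset_span (by simp)))
  have hJw2 : 𝔅 (J w) v₂ = 0 := mem_qperp.1 hv₂ _ (Submodule.mem_sup_right (Submodule.subset_span (by simp)))
  have hd12 : ∀ x ∈ line J d, 𝔅 x v = 0 := fun x hx => by
    rw [hval x (Submodule.mem_sup_right (Submodule.mem_sup_left hx)), mem_qperp.1 hv₁ x (Submodule.mem_sup_left hx),
      mem_qperp.1 hv₂ x (Submodule.mem_sup_left hx), add_zero]
  have hvw : 𝔅 v w = 0 := by
    rw [QuadraticMap.polar_comm, hval w (Submodule.mem_sup_left (Submodule.subset_span (by simp))), hw1, hw2,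
      add_zero]
  have hJvw : 𝔅 (J v) w = -1 := by
    rw [h.adj, hvw, QuadraticMap.polar_comm (⇑Q) v (J w),
      hval (J w) (Submodule.mem_sup_left (Submodule.subset_span (by simp))), hJw2, hv₁1]
    ring
  have hyv : 𝔅 y v = 1 := by
    rw [hval y (Submodule.mem_sup_right (Submodule.mem_sup_right (Submodule.mem_span_singleton_self y))), hy1,
      hv₂1, zero_add]
  have hvd : 𝔅 v d = 0 := by rw [QuadraticMap.polar_comm, hd12 d (self_mem_line d)]
  have hJvd : 𝔅 (J v) d = 0 := by
    rw [h.adj, hvd, QuadraticMap.polar_comm (⇑Q) v (J d), hd12 _ (map_mem_line d), mul_zero, sub_zero]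
  have hTv : ∀ e : F, RootMem M d (e • v) := fun e => by
    have := rootMem_tvec h hM hd hvq hvd hJvd hdw hw e
    rwa [tvec, hvw, hJvw, zero_smul, zero_sub, neg_smul, one_smul, neg_neg] at this
  have hdv : 𝔅 d v = 0 := hd12 d (self_mem_line d)
  -- two independent members of `line J z`
  set γ := 𝔅 z v with hγ
  set ε := 𝔅 (J z) v with hε
  have hyv' : α * ε - β * γ = 1 := by
    rw [← hyv, hy, tvec, QuadraticMap.polar_sub_left, QuadraticMap.polar_smul_left, QuadraticMap.polar_smul_left,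
      smul_eq_mul, smul_eq_mul]
  intro c
  have h1 := rootMem_tvec h hM hd hz hzd hJzd hdw hw (c * γ)
  have h2 := rootMem_tvec h hM hd hz hzd hJzd hdv (by simpa using hTv 1) (-(c * α))
  have e1 : 𝔅 d ((c * γ) • tvec Q J z w) = 0 := by
    rw [tvec, QuadraticMap.polar_smul_right, QuadraticMap.polar_sub_right, QuadraticMap.polar_smul_right,
      QuadraticMap.polar_smul_right, hdz, QuadraticMap.polar_comm (⇑Q) d (J z), hJzd]
    simp
  have e2 : 𝔅 d (-(c * α) • tvec Q J z v) = 0 := by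
    rw [tvec, QuadraticMap.polar_smul_right, QuadraticMap.polar_sub_right, QuadraticMap.polar_smul_right,
      QuadraticMap.polar_smul_right, hdz, QuadraticMap.polar_comm (⇑Q) d (J z), hJzd]
    simp
  have := h1.add hd e1 e2 h2
  have key : (c * γ) • tvec Q J z w + -(c * α) • tvec Q J z v = c • z := by
    rw [tvec, tvec, ← hα, ← hβ, ← hγ, ← hε]
    match_scalars
    · ring
    · linear_combination c * hyv'
  rwa [key] at this

/-- One pair of orthogonal singular lines gives all vectors orthogonal to a line. -/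
theorem allRoots_of_pair (hQ : (QuadraticMap.polarBilin Q).Nondegenerate) (hn : 10 ≤ Fintype.card ι)
    (h : UStr Q J a b) (hM : UTrans M J) {d w : ι → F} (hd : Q d = 0) (hd0 : d ≠ 0) (hw : RootMem M d w)
    (hdw : 𝔅 d w = 0) (hJdw : 𝔅 (J d) w = 0) (hwn : w ∉ line J d) : AllRoots M J d := by
  let A : Submodule F (ι → F) :=
    { carrier := {x | x ∈ qperp Q (line J d) ∧ ∀ c : F, RootMem M d (c • x)}
      zero_mem' := ⟨Submodule.zero_mem _, fun c => by rw [smul_zero]; exact RootMem.zero⟩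
      add_mem' := fun {x y} hx hy => ⟨Submodule.add_mem _ hx.1 hy.1, fun c => by
        rw [smul_add]
        exact (hx.2 c).add hd (by rw [QuadraticMap.polar_smul_right, (mem_qperp_line.1 hx.1).1, smul_zero])
          (by rw [QuadraticMap.polar_smul_right, (mem_qperp_line.1 hy.1).1, smul_zero]) (hy.2 c)⟩
      smul_mem' := fun e x hx => ⟨Submodule.smul_mem _ _ hx.1, fun c => by rw [smul_smul]; exact hx.2 _⟩ }
  have hA : ∀ z, Q z = 0 → z ∈ qperp Q (line J d) →
      (∃ u, RootMem M d u ∧ 𝔅 d u = 0 ∧ 𝔅 (J d) u = 0 ∧ (𝔅 z u ≠ 0 ∨ 𝔅 (J z) u ≠ 0)) → z ∈ A := by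
    rintro z hz hzX ⟨u, hu, hdu, hJdu, hne⟩
    exact ⟨hzX, rootMem_of_nonperp hQ hn h hM hd hd0 hu hdu hJdu hz (mem_qperp_line.1 hzX).1
      (mem_qperp_line.1 hzX).2 hne⟩
  -- a first singular member meeting `w`
  obtain ⟨v₁, hv₁, hv₁w⟩ := exists_dual_one hQ hwn
  obtain ⟨z₂, hz₂, hz₂v⟩ := exists_singular_affine hQ (line J d ⊔ Submodule.span F {w}) (by
    have h1 := Submodule.finrank_sup_add_finrank_inf_eq (line J d) (Submodule.span F {w})
    have h3 : finrank F (Submodule.span F {w}) ≤ 1 := (finrank_span_le_card _).trans (by simp)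
    have h4 := finrank_line_le (J := J) d
    omega) v₁
  have hz₂X : z₂ ∈ qperp Q (line J d) := by
    rw [show z₂ = v₁ + (z₂ - v₁) by abel]
    exact Submodule.add_mem _ hv₁ (mem_qperp.2 fun x hx => mem_qperp.1 hz₂v x (Submodule.mem_sup_left hx))
  have hz₂w : 𝔅 z₂ w = 1 := by
    have := mem_qperp.1 hz₂v w (Submodule.mem_sup_right (Submodule.mem_span_singleton_self w))
    rw [QuadraticMap.polar_sub_right, sub_eq_zero, hv₁w] at this
    rw [QuadraticMap.polar_comm, this]
  have hz₂A : z₂ ∈ A := hA z₂ hz₂ hz₂X ⟨w, hw, hdw, hJdw, Or.inl (by rw [hz₂w]; exact one_ne_zero)⟩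
  have hXA : qperp Q (line J d) ≤ A := by
    intro t ht
    rw [← qperp_qperp hQ A, mem_qperp]
    intro f hf
    by_contra htf
    -- a singular vector of the complement seen by `f`
    have hfn : f ∉ line J d := fun hf' => htf (mem_qperp.1 ht f hf')
    obtain ⟨v₃, hv₃, hv₃f⟩ := exists_dual_one hQ hfn
    obtain ⟨z₁, hz₁, hz₁v⟩ := exists_singular_affine hQ (line J d ⊔ Submodule.span F {f}) (by
      have h1 := Submodule.finrank_sup_add_finrank_inf_eq (line J d) (Submodule.span F {f})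
      have h3 : finrank F (Submodule.span F {f}) ≤ 1 := (finrank_span_le_card _).trans (by simp)
      have h4 := finrank_line_le (J := J) d
      omega) v₃
    have hz₁X : z₁ ∈ qperp Q (line J d) := by
      rw [show z₁ = v₃ + (z₁ - v₃) by abel]
      exact Submodule.add_mem _ hv₃ (mem_qperp.2 fun x hx => mem_qperp.1 hz₁v x (Submodule.mem_sup_left hx))
    have hz₁f : 𝔅 f z₁ = 1 := by
      have := mem_qperp.1 hz₁v f (Submodule.mem_sup_right (Submodule.mem_span_singleton_self f))
      rw [QuadraticMap.polar_sub_right, sub_eq_zero, hv₃f] at this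
      exact this
    suffices z₁ ∈ A by
      have := mem_qperp.1 hf z₁ this
      rw [QuadraticMap.polar_comm, hz₁f] at this
      exact one_ne_zero this
    by_cases h12 : 𝔅 z₁ z₂ ≠ 0 ∨ 𝔅 (J z₁) z₂ ≠ 0
    · exact hA z₁ hz₁ hz₁X ⟨z₂, by simpa using hz₂A.2 1, (mem_qperp_line.1 hz₂X).1, (mem_qperp_line.1 hz₂X).2, h12⟩
    push Not at h12
    by_cases h1w : 𝔅 z₁ w = 0
    · have hsum : z₁ + z₂ ∈ A := hA _ (by rw [QuadraticMap.map_add (⇑Q), hz₁, hz₂, h12.1, add_zero, add_zero])
        (Submodule.add_mem _ hz₁X hz₂X) ⟨w, hw, hdw, hJdw, Or.inl (by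
          rw [QuadraticMap.polar_add_left, h1w, hz₂w, zero_add]; exact one_ne_zero)⟩
      simpa using A.sub_mem hsum hz₂A
    · exact hA z₁ hz₁ hz₁X ⟨w, hw, hdw, hJdw, Or.inl h1w⟩
  intro x hdx hJdx
  have := (hXA (mem_qperp_line.2 ⟨hdx, hJdx⟩)).2 1
  rwa [one_smul] at this

/-- All roots at one singular vector give all of them at every one. -/
theorem allRoots_all (hQ : (QuadraticMap.polarBilin Q).Nondegenerate) (hn : 10 ≤ Fintype.card ι)
    (h : UStr Q J a b) (hM : UTrans M J) {d : ι → F} (hd : Q d = 0) (hd0 : d ≠ 0) (hall : AllRoots M J d)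
    {x : ι → F} (hx : Q x = 0) (hx0 : x ≠ 0) : AllRoots M J x := by
  by_cases hperp : (𝔅 d x = 0 ∧ 𝔅 (J d) x = 0) ∧ x ∉ line J d
  · obtain ⟨⟨hdx, hJdx⟩, hxn⟩ := hperp
    refine allRoots_of_pair hQ hn h hM hx hx0 ((hall x hdx hJdx).swap hd hx) ?_ ?_
      fun hm => hxn (h.mem_line_symm ((Submodule.neg_mem_iff _).1 hm) hd0)
    · rw [QuadraticMap.polar_neg_right, QuadraticMap.polar_comm, hdx, neg_zero]
    · rw [QuadraticMap.polar_neg_right, h.adj, QuadraticMap.polar_comm (⇑Q) x d, hdx,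
        QuadraticMap.polar_comm (⇑Q) x (J d), hJdx, mul_zero, sub_zero, neg_zero]
  have hinf : finrank F (qperp Q (line J d ⊔ line J x) ⊓ (line J d ⊔ line J x) : Submodule F (ι → F)) +
      3 + finrank F (line J d ⊔ line J x : Submodule F (ι → F)) ≤ Fintype.card ι := by
    have h4 := finrank_line_le (J := J) d
    have h5 := finrank_line_le (J := J) x
    have h2 := Submodule.finrank_mono
      (inf_le_right : qperp Q (line J d ⊔ line J x) ⊓ (line J d ⊔ line J x) ≤ _)
    by_cases hxd : x ∈ line J d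
    · rw [sup_eq_left.2 (h.line_le hxd)] at h2 ⊢
      omega
    have hne : 𝔅 d x ≠ 0 ∨ 𝔅 (J d) x ≠ 0 := by
      by_contra! hc
      exact hperp ⟨hc, hxd⟩
    have hne' : 𝔅 x d ≠ 0 ∨ 𝔅 (J x) d ≠ 0 := by
      by_contra! hc
      obtain ⟨c1, c2⟩ := hc
      rw [h.adj, c1, mul_zero, zero_sub, neg_eq_zero, QuadraticMap.polar_comm] at c2
      rcases hne with hh | hh
      · exact hh (by rw [QuadraticMap.polar_comm, c1])
      · exact hh c2
    have hbot : qperp Q (line J d ⊔ line J x) ⊓ (line J d ⊔ line J x) = ⊥ := by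
      rw [Submodule.eq_bot_iff]
      rintro m ⟨hmp, hm⟩
      obtain ⟨u₁, hu₁, u₂, hu₂, rfl⟩ := Submodule.mem_sup.1 hm
      obtain ⟨p, q, rfl⟩ := mem_line.1 hu₁
      obtain ⟨p', q', rfl⟩ := mem_line.1 hu₂
      rw [SetLike.mem_coe, qperp_sup, Submodule.mem_inf, mem_qperp_line, mem_qperp_line] at hmp
      obtain ⟨⟨e1, e2⟩, e3, e4⟩ := hmp
      simp only [QuadraticMap.polar_add_right, QuadraticMap.polar_smul_right, smul_eq_mul, h.polar_J_J] at e1 e2 e3 e4
      simp only [polar_self', hd, hx, h.quad_J_eq_zero hd, h.quad_J_eq_zero hx, h.polar_self_J hd, h.polar_self_J hx,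
        QuadraticMap.polar_comm (⇑Q) (J d) d, QuadraticMap.polar_comm (⇑Q) (J x) x, mul_zero, zero_add,
        add_zero, h.polar_left_J] at e1 e2 e3 e4
      obtain ⟨r1, r2⟩ := h.det_pair hne (e := p') (f := q') (by linear_combination e1) (by linear_combination e2)
      obtain ⟨r3, r4⟩ := h.det_pair hne' (e := p) (f := q) (by linear_combination e3) (by linear_combination e4)
      simp [r1, r2, r3, r4]
    have h3 := Submodule.finrank_sup_add_finrank_inf_eq (line J d) (line J x)
    rw [hbot, finrank_bot]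
    omega
  obtain ⟨u, hu, hun, huq⟩ := exists_singular_notMem hQ (K := qperp Q (line J d ⊔ line J x))
    (M := line J d ⊔ line J x) (by
      have h1 := finrank_qperp hQ (line J d ⊔ line J x)
      have h2 := Submodule.finrank_mono
        (inf_le_right : qperp Q (line J d ⊔ line J x) ⊓ (line J d ⊔ line J x) ≤ _)
      have h3 := Submodule.finrank_sup_add_finrank_inf_eq (line J d) (line J x)
      have h4 := finrank_line_le (J := J) d
      have h5 := finrank_line_le (J := J) x
      omega)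
  rw [qperp_sup, Submodule.mem_inf, mem_qperp_line, mem_qperp_line] at hu
  obtain ⟨⟨hdu, hJdu⟩, hxu, hJxu⟩ := hu
  have hu0 : u ≠ 0 := fun e => hun (e ▸ Submodule.zero_mem _)
  have hswap : ∀ {p q : ι → F}, Q p = 0 → Q q = 0 → 𝔅 p q = 0 → 𝔅 (J p) q = 0 →
      𝔅 q (-p) = 0 ∧ 𝔅 (J q) (-p) = 0 := by
    intro p q _ _ h1 h2
    constructor
    · rw [QuadraticMap.polar_neg_right, QuadraticMap.polar_comm, h1, neg_zero]
    · rw [QuadraticMap.polar_neg_right, h.adj, QuadraticMap.polar_comm (⇑Q) q p, h1,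
        QuadraticMap.polar_comm (⇑Q) q (J p), h2, mul_zero, sub_zero, neg_zero]
  obtain ⟨hud, hJud⟩ := hswap hd huq hdu hJdu
  have hall_u : AllRoots M J u := allRoots_of_pair hQ hn h hM huq hu0 ((hall u hdu hJdu).swap hd huq) hud hJud
    (fun hm => hun (Submodule.mem_sup_left (by
      rw [Submodule.neg_mem_iff] at hm
      exact h.mem_line_symm hm hd0)))
  have hxn : x ∉ line J u := fun hm => hun (Submodule.mem_sup_right (h.mem_line_symm hm hx0))
  obtain ⟨hxu', hJxu'⟩ := hswap hx huq hxu hJxu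
  have hux : 𝔅 u x = 0 := by rw [QuadraticMap.polar_comm, hxu]
  have hJux : 𝔅 (J u) x = 0 := by
    have := hJxu'
    rwa [QuadraticMap.polar_neg_right, neg_eq_zero] at this
  obtain ⟨hxu2, hJxu2⟩ := hswap huq hx hux hJux
  exact allRoots_of_pair hQ hn h hM hx hx0 ((hall_u x hux hJux).swap huq hx) hxu2 hJxu2
    (fun hm => hun (Submodule.mem_sup_right (Submodule.neg_mem_iff _ |>.1 hm)))

/-- All orthogonal-line roots make every singular vector full. -/
theorem full_of_allRoots (hQ : (QuadraticMap.polarBilin Q).Nondegenerate) (hn : 10 ≤ Fintype.card ι)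
    (h : UStr Q J a b) (hall : ∀ x, Q x = 0 → x ≠ 0 → AllRoots M J x) {s : ι → F} (hs : Q s = 0)
    (hs0 : s ≠ 0) : Full M s := by
  obtain ⟨p, hp, hpn, hpq⟩ := exists_singular_notMem hQ (K := qperp Q (line J s)) (M := line J s) (by
    have h1 := finrank_qperp hQ (line J s)
    have h2 := Submodule.finrank_mono (inf_le_right : qperp Q (line J s) ⊓ line J s ≤ _)
    have h4 := finrank_line_le (J := J) s
    omega)
  obtain ⟨hsp, hJsp⟩ := mem_qperp_line.1 hp
  have hp0 : p ≠ 0 := fun e => hpn (e ▸ Submodule.zero_mem _)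
  obtain ⟨u₀, hu₀, hu₀1⟩ := exists_dual_one hQ (v := p) (S := line J s) hpn
  have hJsn : J s ∉ Submodule.span F {p, J p} ⊔ Submodule.span F {s} := by
    intro hm
    obtain ⟨x, hx, y, hy, hxy⟩ := Submodule.mem_sup.1 hm
    obtain ⟨e, rfl⟩ := Submodule.mem_span_singleton.1 hy
    obtain ⟨c₁, c₂, hc⟩ := mem_line.1 (show x ∈ line J p from hx)
    have hps : s ∉ line J p := fun hm' => hpn (h.mem_line_symm hm' hs0)
    exact neg_ne_zero.2 one_ne_zero
      (h.line_inf hps (p := c₁) (q := c₂) (p' := e) (q' := -1)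
        (by rw [hc, neg_one_smul, ← sub_eq_add_neg, ← add_sub_assoc, hxy, sub_self])).2
  obtain ⟨t, ht, htJ⟩ := exists_dual_one hQ hJsn
  rw [qperp_sup, Submodule.mem_inf, mem_qperp_span_pair, mem_qperp_singleton] at ht
  obtain ⟨⟨hpt, hJpt⟩, hst⟩ := ht
  have hk := (hall p hpq hp0 t hpt hJpt).iso hpq hpt
  obtain ⟨hsu, hJsu⟩ := mem_qperp_line.1 hu₀
  have hks : mat Q (eichIso Q p t hpq hpt) *ᵥ s = s := by
    rw [mat_eichIso, eich_mulVec, QuadraticMap.polar_comm (⇑Q) p s, hsp, QuadraticMap.polar_comm (⇑Q) t s, hst]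
    simp
  set u := mat Q (eichIso Q p t hpq hpt) *ᵥ u₀ with hu
  have hsu' : 𝔅 s u = 0 := by rw [← hks, hu, polar_mulVec, hsu]
  have hJsu' : 𝔅 (J s) u = 1 := by
    rw [hu, mat_eichIso, eich_mulVec, hu₀1]
    simp [QuadraticMap.polar_add_right, QuadraticMap.polar_sub_right, QuadraticMap.polar_smul_right, hJsu, htJ,
      hJsp]
  have hR : ∀ c : F, RootMem M s (c • u) := fun c => by
    have h0 : RootMem M s (c • u₀) := hall s hs hs0 _
      (by rw [QuadraticMap.polar_smul_right, hsu, smul_zero]) (by rw [QuadraticMap.polar_smul_right, hJsu, smul_zero])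
    have := h0.conj hk
    rwa [hks, mulVec_smul, ← hu] at this
  intro w hsw
  have h1 : 𝔅 s (w - 𝔅 (J s) w • u) = 0 := by
    rw [QuadraticMap.polar_sub_right, QuadraticMap.polar_smul_right, hsu', smul_zero, hsw, sub_zero]
  have := (hall s hs hs0 (w - 𝔅 (J s) w • u) h1 (by
    rw [QuadraticMap.polar_sub_right, QuadraticMap.polar_smul_right, hJsu', smul_eq_mul, mul_one, sub_self])).add
    hs h1 (by rw [QuadraticMap.polar_smul_right, hsu', smul_zero]) (hR (𝔅 (J s) w))
  rwa [sub_add_cancel] at this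

/-- An isometry mapping singular lines to lines normalises the field. -/
theorem conj_mem_of_lines (hQ : (QuadraticMap.polarBilin Q).Nondegenerate) (hn : 10 ≤ Fintype.card ι)
    (h : UStr Q J a b) (L : (ι → F) →ₗ[F] (ι → F)) (hL : ∀ x, Q x = 0 → L x ∈ line J x) :
    ∃ p q : F, ∀ x, L x = p • x + q • J x := by
  choose! P R hPR using fun x (hx : Q x = 0) => mem_line.1 (hL x hx)
  have key : ∀ x y, Q x = 0 → Q y = 0 → x ≠ 0 → 𝔅 x y = 0 → y ∉ line J x → P x = P y ∧ R x = R y := by
    intro x y hx hy hx0 hxy hyn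
    have hxy' : Q (x + y) = 0 := by rw [QuadraticMap.map_add (⇑Q), hx, hy, hxy, add_zero, add_zero]
    have hcomb : (P (x + y) - P x) • x + (R (x + y) - R x) • J x +
        ((P (x + y) - P y) • y + (R (x + y) - R y) • J y) = 0 := by
      have e := hPR _ hxy'
      rw [map_add, map_add] at e
      linear_combination (norm := module) e - hPR x hx - hPR y hy
    obtain ⟨e1, e2⟩ := h.line_inf hyn hcomb
    have hxn : x ∉ line J y := fun hm => hyn (h.mem_line_symm hm hx0)
    obtain ⟨e3, e4⟩ := h.line_inf hxn (p := P (x + y) - P y) (q := R (x + y) - R y) (p' := P (x + y) - P x)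
      (q' := R (x + y) - R x) (by linear_combination (norm := module) hcomb)
    exact ⟨by linear_combination e1 - e3, by linear_combination e2 - e4⟩
  obtain ⟨x₀, -, hx₀0, hx₀⟩ := exists_singular hQ ⊤ (by rw [finrank_top, Module.finrank_pi]; omega)
  have hconst : ∀ y, Q y = 0 → y ≠ 0 → P y = P x₀ ∧ R y = R x₀ := by
    intro y hy hy0
    obtain ⟨u, hu, hun, huq⟩ := exists_singular_notMem hQ (K := qperp Q (Submodule.span F {x₀, y}))
      (M := line J x₀ ⊔ line J y) (by
        have h1 := finrank_qperp hQ (Submodule.span F {x₀, y})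
        have h2 := Submodule.finrank_mono
          (inf_le_right : qperp Q (Submodule.span F {x₀, y}) ⊓ (line J x₀ ⊔ line J y) ≤ _)
        have h3 := Submodule.finrank_sup_add_finrank_inf_eq (line J x₀) (line J y)
        have h4 := finrank_line_le (J := J) x₀
        have h5 := finrank_line_le (J := J) y
        have h6 := finrank_span_pair_le x₀ y
        omega)
    obtain ⟨h1, h2⟩ := mem_qperp_span_pair.1 hu
    obtain ⟨a1, a2⟩ := key x₀ u hx₀ huq hx₀0 h1 fun hm => hun (Submodule.mem_sup_left hm)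
    obtain ⟨b1, b2⟩ := key y u hy huq hy0 h2 fun hm => hun (Submodule.mem_sup_right hm)
    exact ⟨b1.trans a1.symm, b2.trans a2.symm⟩
  refine ⟨P x₀, R x₀, fun x => ?_⟩
  let N : Submodule F (ι → F) := LinearMap.ker (L - P x₀ • LinearMap.id - R x₀ • J)
  suffices htop : N = ⊤ by
    have hx : x ∈ N := htop ▸ Submodule.mem_top
    have := LinearMap.mem_ker.1 hx
    simp only [LinearMap.sub_apply, LinearMap.smul_apply, LinearMap.id_apply, sub_sub, sub_eq_zero] at this
    exact this
  rw [eq_top_iff]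
  intro t _
  rw [← qperp_qperp hQ N, mem_qperp]
  intro f hf
  by_contra hft
  obtain ⟨z, -, hz0, hz⟩ := exists_singular hQ ⊤ (by rw [finrank_top, Module.finrank_pi]; omega)
  obtain ⟨y, -, hyz⟩ : ∃ y ∈ (⊤ : Submodule F (ι → F)), 𝔅 y z ≠ 0 := by
    by_contra! hall'
    exact hz0 (hQ.1 z fun y => by
      show 𝔅 z y = 0
      rw [QuadraticMap.polar_comm]; exact hall' y Submodule.mem_top)
  obtain ⟨q, -, hq, hqf⟩ := OrthMax.exists_singular_pairing (K := ⊤) (b := f) Submodule.mem_top hz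
    Submodule.mem_top hyz (t := t) Submodule.mem_top (by rwa [QuadraticMap.polar_comm])
  have hqN : q ∈ N := by
    refine LinearMap.mem_ker.2 ?_
    rcases eq_or_ne q 0 with rfl | hq0
    · simp
    obtain ⟨c1, c2⟩ := hconst q hq hq0
    simp only [LinearMap.sub_apply, LinearMap.smul_apply, LinearMap.id_apply, ← hPR q hq, c1, c2]
    abel
  exact hqf (mem_qperp.1 hf q hqN)

/-- An isometry moving a pair of lines off the field. -/
theorem exists_move_unitary (hQ : (QuadraticMap.polarBilin Q).Nondegenerate) (hn : 10 ≤ Fintype.card ι)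
    (h : UStr Q J a b) :
    ∃ g ∈ Cfsg.Omega F ⇑Q, ∃ y : ι → F, mat Q g *ᵥ J y ∉ line J (mat Q g *ᵥ y) := by
  obtain ⟨u, -, hu0, hu⟩ := exists_singular hQ ⊤ (by rw [finrank_top, Module.finrank_pi]; omega)
  obtain ⟨w, hw, hwn, hwq⟩ := exists_singular_notMem hQ (K := qperp Q (line J u)) (M := line J u) (by
    have h1 := finrank_qperp hQ (line J u)
    have h2 := Submodule.finrank_mono (inf_le_right : qperp Q (line J u) ⊓ line J u ≤ _)
    have h4 := finrank_line_le (J := J) u
    omega)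
  obtain ⟨huw, hJuw⟩ := mem_qperp_line.1 hw
  have hw0 : w ≠ 0 := fun e => hwn (e ▸ Submodule.zero_mem _)
  have hun : u ∉ line J w := fun hm => hwn (h.mem_line_symm hm hu0)
  have hun' : u ∉ line J w ⊔ Submodule.span F {J u} := by
    intro hm
    obtain ⟨x, hx, z, hz, hxz⟩ := Submodule.mem_sup.1 hm
    obtain ⟨c, rfl⟩ := Submodule.mem_span_singleton.1 hz
    obtain ⟨p, q, rfl⟩ := mem_line.1 hx
    have := (h.line_inf hun (p := p) (q := q) (p' := -1) (q' := c)
      (by linear_combination (norm := module) hxz)).1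
    exact neg_ne_zero.2 one_ne_zero this
  obtain ⟨y₀, hy₀, hy₀1⟩ := exists_dual_one hQ hun'
  obtain ⟨y, hyq, hy⟩ := exists_singular_affine' hQ (line J w ⊔ line J u) (by
    have h1 := Submodule.finrank_sup_add_finrank_inf_eq (line J w) (line J u)
    have h4 := finrank_line_le (J := J) u
    have h5 := finrank_line_le (J := J) w
    have h6 := Submodule.finrank_mono
      (inf_le_right : qperp Q (line J w ⊔ line J u) ⊓ (line J w ⊔ line J u) ≤ _)
    omega) y₀
  have hval : ∀ x ∈ line J w ⊔ line J u, 𝔅 x y = 𝔅 x y₀ := fun x hx => by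
    have := mem_qperp.1 hy x hx
    rwa [QuadraticMap.polar_sub_right, sub_eq_zero] at this
  rw [qperp_sup, Submodule.mem_inf, mem_qperp_line, mem_qperp_singleton] at hy₀
  obtain ⟨⟨hwy₀, hJwy₀⟩, hJuy₀⟩ := hy₀
  have huy : 𝔅 u y = 1 := by rw [hval u (Submodule.mem_sup_right (self_mem_line u)), hy₀1]
  have hJuy : 𝔅 (J u) y = 0 := by rw [hval _ (Submodule.mem_sup_right (map_mem_line u)), hJuy₀]
  have hwy : 𝔅 w y = 0 := by rw [hval w (Submodule.mem_sup_left (self_mem_line w)), hwy₀]
  have hJwy : 𝔅 (J w) y = 0 := by rw [hval _ (Submodule.mem_sup_left (map_mem_line w)), hJwy₀]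
  have huJy : 𝔅 u (J y) = a := by rw [h.polar_left_J, huy, hJuy, mul_one, sub_zero]
  have hwJy : 𝔅 w (J y) = 0 := by rw [h.polar_left_J, hwy, hJwy, mul_zero, sub_zero]
  refine ⟨eichIso Q u w hu huw, eich_mem_omega hQ (by omega) hu huw, y, fun hmem => ?_⟩
  rw [mat_eichIso, eich_mulVec, eich_mulVec, huy, huJy, hwy, hwJy, hwq] at hmem
  obtain ⟨p, q, hpq⟩ := mem_line.1 hmem
  simp only [zero_mul, zero_smul, sub_zero, one_smul, map_add] at hpq
  have hyn : y ∉ line J w := by
    intro hm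
    obtain ⟨c, e, rfl⟩ := mem_line.1 hm
    rw [QuadraticMap.polar_add_right, QuadraticMap.polar_smul_right, QuadraticMap.polar_smul_right, huw,
      h.polar_left_J, huw, hJuw] at huy
    simp at huy
  have hcomb : (a - p) • w + (-q) • J w + ((-p) • y + (1 - q) • J y) = 0 := by
    linear_combination (norm := module) -hpq
  obtain ⟨hp, hq⟩ := h.line_inf hyn hcomb
  rw [hp, hq, zero_smul, zero_smul, add_zero, add_zero] at hcomb
  have := (h.eq_zero_of_comb hw0 hcomb).2
  rw [neg_eq_zero] at this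
  rw [this, sub_zero] at hq
  exact one_ne_zero hq

/-- The transvections commute with the field. -/
theorem tvec_commute (h : UStr Q J a b) {z : ι → F} (hz : Q z = 0) (c : F) (x : ι → F) :
    eich Q z (c • J z) *ᵥ J x = J (eich Q z (c • J z) *ᵥ x) := by
  rw [h.eich_apply hz, h.eich_apply hz, h.tvec_J, map_add, map_smul]

/-- The normaliser of a quadratic field with nontrivial adjoint, acting by similitudes, is maximal in `Ω`. -/
theorem isMaximalIn_unitary (hQ : (QuadraticMap.polarBilin Q).Nondegenerate) (hn : 10 ≤ Fintype.card ι)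
    {Jm : Matrix ι ι F} (h : UStr Q (Matrix.mulVecLin Jm) a b) {K : Subalgebra F (Matrix ι ι F)}
    (hK : ∀ k, k ∈ K ↔ ∃ p q : F, k = p • 1 + q • Jm) :
    IsMaximalIn (omegaGL ⇑Q) (subalgebraNormalizer K ⊓ omegaGL ⇑Q) := by
  have hn5 : 5 ≤ Fintype.card ι := by omega
  set J := Matrix.mulVecLin Jm with hJ
  have hKv : ∀ {k}, k ∈ K → ∀ x, k *ᵥ x ∈ line J x := fun {k} hk x => by
    obtain ⟨p, q, rfl⟩ := (hK k).1 hk
    refine mem_line.2 ⟨p, q, ?_⟩
    rw [add_mulVec, Matrix.smul_mulVec, Matrix.smul_mulVec, one_mulVec, hJ, mulVecLin_apply]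
  refine isMaximalIn_omega _ ?_ fun M hM g hgM _ hgS => ?_
  · obtain ⟨g, hg, y, hy⟩ := exists_move_unitary hQ hn h
    refine ⟨g, hg, fun hS => hy ?_⟩
    have hmem : mat Q g * Jm * mat Q g⁻¹ ∈ K := (hS Jm).1 ((hK Jm).2 ⟨0, 1, by simp⟩)
    have := hKv hmem (mat Q g *ᵥ y)
    rwa [mulVec_mulVec, mul_assoc, ← mat_mul, inv_mul_cancel, mat_one, mul_one, ← mulVec_mulVec] at this
  have hT : UTrans M J := by
    intro z hz c
    have hzJ : 𝔅 z (c • J z) = 0 := by
      rw [QuadraticMap.polar_smul_right, h.polar_self_J hz, smul_zero]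
    refine RootMem.of_iso hz hzJ (hM _ (eich_mem_omega hQ hn5 hz hzJ)
      (ExtField.mem_normalizer_of_commute fun k hk => ?_))
    show mat Q (eichIso Q z (c • J z) hz hzJ) * k = k * mat Q (eichIso Q z (c • J z) hz hzJ)
    refine Matrix.ext_iff_mulVec.2 fun x => ?_
    obtain ⟨p, q, rfl⟩ := (hK k).1 hk
    rw [← mulVec_mulVec, ← mulVec_mulVec, add_mulVec, add_mulVec, Matrix.smul_mulVec, Matrix.smul_mulVec,
      Matrix.smul_mulVec, Matrix.smul_mulVec, one_mulVec, one_mulVec, mulVec_add, mulVec_smul, mulVec_smul,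
      mat_eichIso, ← mulVecLin_apply Jm, ← mulVecLin_apply Jm, ← hJ, tvec_commute h hz c x]
  -- a singular vector whose image line is broken
  obtain ⟨r, hr, hrn⟩ : ∃ r, Q r = 0 ∧ mat Q g *ᵥ J (mat Q g⁻¹ *ᵥ r) ∉ line J r := by
    by_contra! hall
    obtain ⟨p, q, hpq⟩ := conj_mem_of_lines hQ hn h (Matrix.mulVecLin (mat Q g * Jm * mat Q g⁻¹))
      (fun x hx => by
        rw [mulVecLin_apply, ← mulVec_mulVec, ← mulVec_mulVec]
        exact hall x hx)
    refine hgS (ExtField.mem_normalizer_of_conj_mem fun k hk => ?_)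
    obtain ⟨p', q', rfl⟩ := (hK k).1 hk
    refine (hK _).2 ⟨p' + q' * p, q' * q, Matrix.ext_iff_mulVec.2 fun x => ?_⟩
    have hx := hpq x
    rw [mulVecLin_apply, hJ, mulVecLin_apply] at hx
    show (mat Q g * (p' • 1 + q' • Jm) * mat Q g⁻¹) *ᵥ x = _
    rw [mul_add, add_mul, mul_smul_comm, smul_mul_assoc, mul_one, ← mat_mul, mul_inv_cancel, mat_one,
      mul_smul_comm, smul_mul_assoc, add_mulVec, add_mulVec, Matrix.smul_mulVec, Matrix.smul_mulVec,
      Matrix.smul_mulVec, Matrix.smul_mulVec, hx, one_mulVec]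
    module
  set u := mat Q g⁻¹ *ᵥ r with hu
  set s := mat Q g *ᵥ J u with hs
  have hgu : mat Q g *ᵥ u = r := by rw [hu, mulVec_mulVec, ← mat_mul, mul_inv_cancel, mat_one, one_mulVec]
  have huq : Q u = 0 := by rw [hu, quad_mulVec, hr]
  have hsq : Q s = 0 := by rw [hs, quad_mulVec, h.quad_J_eq_zero huq]
  have hrs : 𝔅 r s = 0 := by rw [← hgu, hs, polar_mulVec, h.polar_self_J huq]
  have hrsM : RootMem M r s := by
    have := (hT u huq 1).conj hgM
    rwa [one_smul, hgu, ← hs] at this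
  have hs0 : s ≠ 0 := fun e => hrn (e ▸ Submodule.zero_mem _)
  have hr0 : r ≠ 0 := by
    rintro rfl
    exact hs0 (by rw [hs, hu]; simp)
  have hrn' : r ∉ line J s := fun hm => hrn (h.mem_line_symm hm hr0)
  -- a singular vector of `(line s)⊥` outside the line, seen by `r`
  obtain ⟨x, hx, hxn, hxs, hJxs, hxr⟩ : ∃ x, Q x = 0 ∧ x ∉ line J s ∧ 𝔅 x s = 0 ∧ 𝔅 (J x) s = 0 ∧
      𝔅 x r = 1 := by
    obtain ⟨y, hy, hy1⟩ := exists_dual_one hQ hrn'
    obtain ⟨x, hx, hxy⟩ := exists_singular_affine hQ (line J s ⊔ Submodule.span F {r}) (by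
      have h1 := Submodule.finrank_sup_add_finrank_inf_eq (line J s) (Submodule.span F {r})
      have h3 : finrank F (Submodule.span F {r}) ≤ 1 := (finrank_span_le_card _).trans (by simp)
      have h4 := finrank_line_le (J := J) s
      omega) y
    have hxs : x ∈ qperp Q (line J s) := by
      rw [show x = y + (x - y) by abel]
      exact Submodule.add_mem _ hy (mem_qperp.2 fun v hv => mem_qperp.1 hxy v (Submodule.mem_sup_left hv))
    have hxr : 𝔅 r x = 1 := by
      have := mem_qperp.1 hxy r (Submodule.mem_sup_right (Submodule.mem_span_singleton_self r))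
      rwa [QuadraticMap.polar_sub_right, sub_eq_zero, hy1] at this
    have hJ' : ∀ {v}, v ∈ qperp Q (line J s) → 𝔅 v s = 0 ∧ 𝔅 (J v) s = 0 := fun {v} hv => by
      obtain ⟨h1, h2⟩ := mem_qperp_line.1 hv
      refine ⟨by rw [QuadraticMap.polar_comm, h1], ?_⟩
      rw [h.adj, QuadraticMap.polar_comm (⇑Q) v s, h1, QuadraticMap.polar_comm (⇑Q) v (J s), h2, mul_zero,
        sub_zero]
    by_cases hxn : x ∈ line J s
    · obtain ⟨t, ht, htn, htq⟩ := exists_singular_notMem hQ
        (K := qperp Q (line J s ⊔ Submodule.span F {r})) (M := line J s) (by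
        have h1 := finrank_qperp hQ (line J s ⊔ Submodule.span F {r})
        have h2 := Submodule.finrank_mono
          (inf_le_right : qperp Q (line J s ⊔ Submodule.span F {r}) ⊓ line J s ≤ _)
        have h5 := Submodule.finrank_sup_add_finrank_inf_eq (line J s) (Submodule.span F {r})
        have h3 : finrank F (Submodule.span F {r}) ≤ 1 := (finrank_span_le_card _).trans (by simp)
        have h4 := finrank_line_le (J := J) s
        omega)
      rw [qperp_sup, Submodule.mem_inf, mem_qperp_singleton] at ht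
      obtain ⟨e1, e2⟩ := hJ' (Submodule.add_mem _ hxs ht.1)
      refine ⟨x + t, ?_, fun hm => htn (by simpa using Submodule.sub_mem _ hm hxn), e1, e2, ?_⟩
      · rw [QuadraticMap.map_add (⇑Q), hx, htq, mem_qperp.1 ht.1 x hxn, add_zero, add_zero]
      · rw [QuadraticMap.polar_comm, QuadraticMap.polar_add_right, hxr, ht.2, add_zero]
    · obtain ⟨e1, e2⟩ := hJ' hxs
      exact ⟨x, hx, hxn, e1, e2, by rw [QuadraticMap.polar_comm, hxr]⟩
  set δ := tvec Q J x r with hδ
  have hδ0 : δ ≠ 0 := h.tvec_ne_zero (Or.inl (by rw [hxr]; exact one_ne_zero))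
  have hxJ : 𝔅 x ((1 : F) • J x) = 0 := by rw [one_smul, h.polar_self_J hx]
  have hks : tvec Q J x s = 0 := by rw [tvec, hxs, hJxs, zero_smul, zero_smul, sub_zero]
  have hsd : RootMem M s δ := rootMem_diff hr hsq hrs hrsM ((hT x hx 1).iso hx hxJ)
    (by rw [mat_eichIso, h.eich_apply hx, hks, smul_zero, add_zero])
    (by rw [mat_eichIso, h.eich_apply hx, one_smul, hδ])
  have hperp : ∀ v ∈ line J x, 𝔅 v s = 0 ∧ 𝔅 (J v) s = 0 := by
    have h0 : ∀ v ∈ line J x, 𝔅 v s = 0 := fun v hv => by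
      obtain ⟨p, q, rfl⟩ := mem_line.1 hv
      rw [QuadraticMap.polar_add_left, QuadraticMap.polar_smul_left, QuadraticMap.polar_smul_left, hxs, hJxs,
        smul_zero, smul_zero, add_zero]
    exact fun v hv => ⟨h0 v hv, h0 _ (h.J_mem_line hv)⟩
  obtain ⟨d1, d2⟩ := hperp δ (tvec_mem_line x r)
  have hall : AllRoots M J s := allRoots_of_pair hQ hn h hT hsq hs0 hsd (by rw [QuadraticMap.polar_comm, d1])
    (by rw [h.adj, QuadraticMap.polar_comm (⇑Q) s δ, d1, QuadraticMap.polar_comm (⇑Q) s (J δ), d2, mul_zero,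
      sub_zero])
    (fun hm => hxn (h.line_le hm (h.mem_line_symm (tvec_mem_line x r) hδ0)))
  have hfull : ∀ v, Q v = 0 → v ≠ 0 → Full M v := fun v hv hv0 =>
    full_of_allRoots hQ hn h (fun x hx hx0 => allRoots_all hQ hn h hT hsq hs0 hall hx hx0) hv hv0
  obtain ⟨e, -, he0, he⟩ := exists_singular hQ ⊤ (by rw [finrank_top, Module.finrank_pi]; omega)
  obtain ⟨f, -, hf, hef⟩ := exists_partner_in (K := ⊤) Submodule.mem_top he (by
    by_contra! hall'
    exact he0 (hQ.1 e fun y => hall' y Submodule.mem_top))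
  have hef0 : 𝔅 e f ≠ 0 := by rw [hef]; exact one_ne_zero
  exact omega_le_of_full_pair hQ hn5 he hf hef0 (hfull e he he0)
    (hfull f hf fun e0 => hef0 (by rw [e0, QuadraticMap.polar_zero_right]))

end CfsgLib.OrthMax
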