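import Cfsg.Agent.OrthMax.SingularPair

/-!
# An isometric complex structure on an orthogonal space

`UStr Q J a b`: `J² = a J + b`, without eigenvalues, with adjoint `a - J`. `line J x` is spanned by `x, J x`,
`tvec Q J z` is the linear part of the Eichler element of `(z, J z)`.
-/

set_option autoImplicit false
set_option linter.unusedSectionVars false

namespace CfsgLib.OrthMax

open Matrix Module CfsgLib.Spinor CfsgLib.Forms CfsgLib.Forms4 Cfsg.Geo CfsgLib.OmegaOrbits

variable {F : Type*} [Field F] {ι : Type} [Fintype ι] [DecidableEq ι] {Q : QuadraticForm F (ι → F)}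

set_option quotPrecheck false in
local notation "𝔅" => QuadraticMap.polar (⇑Q)

/-- A quadratic extension field acting by similitudes, with the nontrivial automorphism as adjoint. -/
structure UStr (Q : QuadraticForm F (ι → F)) (J : (ι → F) →ₗ[F] (ι → F)) (a b : F) : Prop where
  sq : ∀ x, J (J x) = a • J x + b • x
  adj : ∀ x y, QuadraticMap.polar (⇑Q) (J x) y =
    a * QuadraticMap.polar (⇑Q) x y - QuadraticMap.polar (⇑Q) x (J y)
  quad : ∀ x, Q (J x) = -b * Q x
  self : ∀ x, QuadraticMap.polar (⇑Q) x (J x) = a * Q x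
  noroot : ∀ e : F, e * e - a * e - b ≠ 0

variable {J : (ι → F) →ₗ[F] (ι → F)} {a b : F}

/-- The span of `x` and `J x`. -/
def line (J : (ι → F) →ₗ[F] (ι → F)) (x : ι → F) : Submodule F (ι → F) := Submodule.span F {x, J x}

theorem self_mem_line (x : ι → F) : x ∈ line J x := Submodule.subset_span (by simp)

theorem map_mem_line (x : ι → F) : J x ∈ line J x := Submodule.subset_span (by simp)

theorem mem_line {x y : ι → F} : y ∈ line J x ↔ ∃ p q : F, p • x + q • J x = y := Submodule.mem_span_pair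

theorem finrank_line_le (x : ι → F) : finrank F (line J x) ≤ 2 := by
  classical
  refine (finrank_span_le_card _).trans ?_
  simpa using Finset.card_le_two

theorem UStr.J_mem_line (h : UStr Q J a b) {x y : ι → F} (hy : y ∈ line J x) : J y ∈ line J x := by
  obtain ⟨p, q, rfl⟩ := mem_line.1 hy
  refine mem_line.2 ⟨q * b, p + q * a, ?_⟩
  rw [map_add, map_smul, map_smul, h.sq]
  module

theorem UStr.line_le (h : UStr Q J a b) {x y : ι → F} (hy : y ∈ line J x) : line J y ≤ line J x := by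
  rw [line, Submodule.span_le]
  intro z hz
  simp only [Set.mem_insert_iff, Set.mem_singleton_iff] at hz
  rcases hz with rfl | rfl
  · exact hy
  · exact h.J_mem_line hy

theorem UStr.det_ne (h : UStr Q J a b) {p q : F} (hpq : p ≠ 0 ∨ q ≠ 0) : p * p + p * q * a - q * q * b ≠ 0 := by
  intro h0
  rcases eq_or_ne q 0 with rfl | hq
  · rcases hpq with hp | hq'
    · exact hp (mul_self_eq_zero.1 (by linear_combination h0))
    · exact hq' rfl
  · refine h.noroot (-p / q) ?_
    field_simp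
    linear_combination h0

/-- `p + q J` is invertible on lines. -/
theorem UStr.mem_line_symm (h : UStr Q J a b) {x y : ι → F} (hy : y ∈ line J x) (hy0 : y ≠ 0) :
    x ∈ line J y := by
  obtain ⟨p, q, rfl⟩ := mem_line.1 hy
  have hpq : p ≠ 0 ∨ q ≠ 0 := by
    by_contra! h0
    exact hy0 (by simp [h0.1, h0.2])
  set N := p * p + p * q * a - q * q * b with hN
  have hN0 : N ≠ 0 := h.det_ne hpq
  have key : (p + q * a) • (p • x + q • J x) + (-q) • J (p • x + q • J x) = N • x := by
    rw [map_add, map_smul, map_smul, h.sq, hN]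
    module
  have hmem : N • x ∈ line J (p • x + q • J x) := mem_line.2 ⟨_, _, key⟩
  exact (Submodule.smul_mem_iff _ hN0).1 hmem

theorem UStr.det_pair (h : UStr Q J a b) {α β : F} (hne : α ≠ 0 ∨ β ≠ 0) {e f : F}
    (h1 : e * α + f * (a * α - β) = 0) (h2 : e * β + f * (-b * α) = 0) : e = 0 ∧ f = 0 := by
  have hN : -b * (α * α) - (a * α - β) * β ≠ 0 := by
    intro h0
    have := h.det_ne (p := β) (q := -α) (by
      rcases hne with h' | h'
      · exact Or.inr (neg_ne_zero.2 h')
      · exact Or.inl h')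
    exact this (by linear_combination h0)
  refine ⟨(mul_eq_zero.1 (?_ : e * (-b * (α * α) - (a * α - β) * β) = 0)).resolve_right hN,
    (mul_eq_zero.1 (?_ : f * (-b * (α * α) - (a * α - β) * β) = 0)).resolve_right hN⟩
  · linear_combination (-b * α) * h1 - (a * α - β) * h2
  · linear_combination (-β) * h1 + α * h2

/-- A combination of `x` and `J x` vanishes trivially. -/
theorem UStr.eq_zero_of_comb (h : UStr Q J a b) {x : ι → F} (hx : x ≠ 0) {p q : F}
    (h0 : p • x + q • J x = 0) : p = 0 ∧ q = 0 := by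
  by_contra hne
  rw [not_and_or] at hne
  have hN0 := h.det_ne hne
  refine hx ((smul_eq_zero.1 (?_ : (p * p + p * q * a - q * q * b) • x = 0)).resolve_left hN0)
  have hJ := congrArg J h0
  rw [map_add, map_smul, map_smul, h.sq, map_zero] at hJ
  linear_combination (norm := module) (p + q * a) • h0 - q • hJ

theorem UStr.line_inf (h : UStr Q J a b) {x y : ι → F} (hy : y ∉ line J x) {p q p' q' : F}
    (h0 : p • x + q • J x + (p' • y + q' • J y) = 0) : p' = 0 ∧ q' = 0 := by
  have hy0 : y ≠ 0 := fun e => hy (e ▸ Submodule.zero_mem _)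
  refine h.eq_zero_of_comb hy0 (by_contra fun hne => hy ?_)
  have hmem : p' • y + q' • J y ∈ line J x := by
    rw [eq_neg_of_add_eq_zero_right h0]
    exact Submodule.neg_mem _ (mem_line.2 ⟨p, q, rfl⟩)
  exact h.line_le hmem (h.mem_line_symm (mem_line.2 ⟨p', q', rfl⟩) hne)

theorem UStr.polar_J_J (h : UStr Q J a b) (x y : ι → F) : 𝔅 (J x) (J y) = -b * 𝔅 x y := by
  rw [h.adj, h.sq, QuadraticMap.polar_add_right, QuadraticMap.polar_smul_right, QuadraticMap.polar_smul_right,
    smul_eq_mul, smul_eq_mul]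
  ring

theorem UStr.polar_left_J (h : UStr Q J a b) (x y : ι → F) : 𝔅 x (J y) = a * 𝔅 x y - 𝔅 (J x) y := by
  rw [h.adj]; ring

theorem UStr.quad_J_eq_zero (h : UStr Q J a b) {x : ι → F} (hx : Q x = 0) : Q (J x) = 0 := by
  rw [h.quad, hx, mul_zero]

theorem UStr.polar_self_J (h : UStr Q J a b) {x : ι → F} (hx : Q x = 0) : 𝔅 x (J x) = 0 := by
  rw [h.self, hx, mul_zero]

theorem UStr.quad_comb (h : UStr Q J a b) (p q : F) (x : ι → F) :
    Q (p • x + q • J x) = (p * p + p * q * a - q * q * b) * Q x := by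
  rw [QuadraticMap.map_add (⇑Q), QuadraticMap.map_smul, QuadraticMap.map_smul, QuadraticMap.polar_smul_left,
    QuadraticMap.polar_smul_right, h.self, h.quad]
  simp only [smul_eq_mul]
  ring

/-- The linear part of the Eichler element of `(z, J z)`. -/
def tvec (Q : QuadraticForm F (ι → F)) (J : (ι → F) →ₗ[F] (ι → F)) (z w : ι → F) : ι → F :=
  QuadraticMap.polar (⇑Q) z w • J z - QuadraticMap.polar (⇑Q) (J z) w • z

theorem tvec_mem_line (z w : ι → F) : tvec Q J z w ∈ line J z :=
  Submodule.sub_mem _ (Submodule.smul_mem _ _ (map_mem_line z)) (Submodule.smul_mem _ _ (self_mem_line z))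

theorem UStr.eich_apply (h : UStr Q J a b) {z : ι → F} (hz : Q z = 0) (c : F) (w : ι → F) :
    eich Q z (c • J z) *ᵥ w = w + c • tvec Q J z w := by
  rw [eich_mulVec, QuadraticMap.map_smul, h.quad_J_eq_zero hz, smul_zero, zero_mul, zero_smul, sub_zero,
    QuadraticMap.polar_smul_left, tvec, smul_eq_mul, smul_sub, smul_comm c (QuadraticMap.polar (⇑Q) z w), mul_smul]

theorem UStr.tvec_J (h : UStr Q J a b) (z w : ι → F) : tvec Q J z (J w) = J (tvec Q J z w) := by
  have h1 : 𝔅 z (J w) = a * 𝔅 z w - 𝔅 (J z) w := h.polar_left_J z w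
  simp only [tvec, map_sub, map_smul, h.sq, h1, h.polar_J_J]
  module

theorem UStr.tvec_ne_zero (h : UStr Q J a b) {z w : ι → F} (hne : 𝔅 z w ≠ 0 ∨ 𝔅 (J z) w ≠ 0) :
    tvec Q J z w ≠ 0 := by
  intro h0
  have hz : z ≠ 0 := by
    rintro rfl
    simp at hne
  obtain ⟨e1, e2⟩ := h.eq_zero_of_comb hz (p := -𝔅 (J z) w) (q := 𝔅 z w) (by rw [← h0, tvec]; module)
  rcases hne with h' | h'
  · exact h' e2
  · exact h' (neg_eq_zero.1 e1)

variable [Fintype F]

/-- A singular vector with prescribed products with a subspace of small dimension. -/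
theorem exists_singular_affine (hQ : (QuadraticMap.polarBilin Q).Nondegenerate) (S : Submodule F (ι → F))
    (hS : 2 * finrank F S + 3 ≤ Fintype.card ι) (v₀ : ι → F) :
    ∃ v, Q v = 0 ∧ v - v₀ ∈ qperp Q S := by
  set R := qperp Q S with hR
  have hRd := finrank_qperp hQ S
  obtain ⟨z, hzR, hzn, hz⟩ := exists_singular_notMem hQ (K := R) (M := S) (by
    have := Submodule.finrank_mono (inf_le_right : R ⊓ S ≤ S)
    rw [hR] at this ⊢
    omega)
  obtain ⟨x, hx, hxz⟩ : ∃ x ∈ R, 𝔅 x z ≠ 0 := by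
    by_contra! hall
    exact hzn (by rw [← qperp_qperp hQ S]; exact mem_qperp.2 hall)
  obtain ⟨v₁, hv₁, hv₁z⟩ : ∃ v₁, v₁ - v₀ ∈ R ∧ 𝔅 v₁ z ≠ 0 := by
    by_cases h : 𝔅 v₀ z = 0
    · exact ⟨v₀ + x, by rwa [add_sub_cancel_left], by rwa [QuadraticMap.polar_add_left, h, zero_add]⟩
    · exact ⟨v₀, by rw [sub_self]; exact R.zero_mem, h⟩
  exact ⟨_, quad_sub_smul hz hv₁z, by
    rw [show v₁ - (Q v₁ / 𝔅 v₁ z) • z - v₀ = (v₁ - v₀) - (Q v₁ / 𝔅 v₁ z) • z by abel]
    exact R.sub_mem hv₁ (R.smul_mem _ hzR)⟩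

/-- A singular vector with prescribed products with a subspace whose radical is small. -/
theorem exists_singular_affine' (hQ : (QuadraticMap.polarBilin Q).Nondegenerate) (S : Submodule F (ι → F))
    (hS : finrank F (qperp Q S ⊓ S : Submodule F (ι → F)) + finrank F S + 2 ≤ Fintype.card ι) (v₀ : ι → F) :
    ∃ v, Q v = 0 ∧ v - v₀ ∈ qperp Q S := by
  set R := qperp Q S with hR
  obtain ⟨C, hC⟩ := Submodule.exists_isCompl (R ⊓ S)
  set X := R ⊓ C with hX
  have hRd := finrank_qperp hQ S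
  have hsup : R ⊓ S ⊔ X = R := by
    rw [hX, inf_comm R C, ← sup_inf_assoc_of_le C (inf_le_left : R ⊓ S ≤ R), hC.sup_eq_top, top_inf_eq]
  have hXnd : X ⊓ qperp Q X = ⊥ := by
    rw [Submodule.eq_bot_iff]
    rintro x ⟨hxX, hxp⟩
    have hxS : x ∈ S := by
      rw [← qperp_qperp hQ S, mem_qperp]
      intro r hr
      rw [← hR, ← hsup] at hr
      obtain ⟨r₁, hr₁, r₂, hr₂, rfl⟩ := Submodule.mem_sup.1 hr
      rw [QuadraticMap.polar_add_left, mem_qperp.1 hxp r₂ hr₂, mem_qperp.1 hxX.1 r₁ hr₁.2, add_zero]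
    exact Submodule.disjoint_def.1 hC.disjoint x ⟨hxX.1, hxS⟩ hxX.2
  have hXd : finrank F R = finrank F (R ⊓ S : Submodule F (ι → F)) + finrank F X := by
    have h1 := Submodule.finrank_sup_add_finrank_inf_eq (R ⊓ S) X
    have h2 : R ⊓ S ⊓ X = ⊥ := (Submodule.eq_bot_iff _).2 fun x hx =>
      Submodule.disjoint_def.1 hC.disjoint x hx.1 hx.2.2
    rw [h2, finrank_bot, hsup] at h1
    omega
  have htop : X ⊔ qperp Q X = ⊤ := by
    apply Submodule.eq_top_of_finrank_eq
    have h1 := Submodule.finrank_sup_add_finrank_inf_eq X (qperp Q X)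
    have h2 := Submodule.finrank_le X
    rw [hXnd, finrank_bot, finrank_qperp hQ] at h1
    rw [Module.finrank_pi] at h2 ⊢
    omega
  obtain ⟨p, hp, v₁, hv₁, hsum⟩ := Submodule.mem_sup.1 (htop ▸ Submodule.mem_top : v₀ ∈ X ⊔ qperp Q X)
  obtain ⟨x, hxX, hx⟩ : ∃ x ∈ X, Q x = -Q v₁ := by
    by_cases h0 : Q v₁ = 0
    · exact ⟨0, X.zero_mem, by rw [QuadraticMap.map_zero, h0, neg_zero]⟩
    · exact exists_value_mem hXnd (by rw [← hR] at hRd; have := Submodule.finrank_le S; rw [Module.finrank_pi] at this; omega) _ (neg_ne_zero.2 h0)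
  refine ⟨v₁ + x, ?_, ?_⟩
  · rw [QuadraticMap.map_add (⇑Q), hx, QuadraticMap.polar_comm, mem_qperp.1 hv₁ x hxX]
    ring
  · rw [← hsum, show v₁ + x - (p + v₁) = x - p by abel]
    exact R.sub_mem hxX.1 hp.1

/-- A vector outside a subspace is detected by its orthogonal complement. -/
theorem exists_dual_one (hQ : (QuadraticMap.polarBilin Q).Nondegenerate) {S : Submodule F (ι → F)} {v : ι → F}
    (hv : v ∉ S) : ∃ y ∈ qperp Q S, 𝔅 v y = 1 := by
  obtain ⟨y, hy, hyv⟩ : ∃ y ∈ qperp Q S, 𝔅 y v ≠ 0 := by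
    by_contra! hall
    exact hv (by rw [← qperp_qperp hQ S]; exact mem_qperp.2 hall)
  rw [QuadraticMap.polar_comm] at hyv
  exact ⟨(𝔅 v y)⁻¹ • y, Submodule.smul_mem _ _ hy, by
    rw [QuadraticMap.polar_smul_right, smul_eq_mul, inv_mul_cancel₀ hyv]⟩

end CfsgLib.OrthMax
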